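import Groth.Agent.SurfPtBlow.Dominate
import Groth.Agent.AlmostBlowLib.Basic
import Groth.Agent.S1680
import Mathlib.RingTheory.Localization.NumDen

/-!
# Resolving a modification near finitely many regular points
-/

set_option autoImplicit false
set_option backward.isDefEq.respectTransparency false
set_option linter.style.haveILetI false
set_option maxHeartbeats 1000000

universe u

open CategoryTheory CategoryTheory.Limits AlgebraicGeometry TopologicalSpace
open Groth.Agent.TwistShriek Groth.Agent.TwistShriek.PointBlow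

noncomputable section

namespace Groth.Agent.SurfPtBlow

/-- Every element of the fraction field of a regular local ring of dimension two is a fraction of two elements
generating an ideal containing a power of the maximal ideal. -/
theorem exists_coprime_fraction {A : Type u} [CommRing A] [IsRegularLocalRing A] [IsDomain A]
    (hdim : ringKrullDim A = 2) {K : Type*} [Field K] [Algebra A K] [IsFractionRing A K] (b : K) :
    ∃ n d : A, d ≠ 0 ∧ b * algebraMap A K d = algebraMap A K n ∧
      ∃ N : ℕ, IsLocalRing.maximalIdeal A ^ N ≤ Ideal.span {n, d} := by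
  haveI := RegLocal.ufd A
  obtain ⟨n, d, hrel, hb⟩ := IsFractionRing.exists_reduced_fraction A b
  have hd : (d : A) ≠ 0 := nonZeroDivisors.ne_zero d.2
  refine ⟨n, d, hd, ?_, ?_⟩
  · rw [← hb]; exact IsLocalization.mk'_spec K n d
  let J := Ideal.span {n, (d : A)}
  have hrad : IsLocalRing.maximalIdeal A ≤ J.radical := by
    rw [Ideal.radical_eq_sInf]
    refine le_sInf fun q hq => ?_
    obtain ⟨hJq, hqp⟩ := hq
    by_contra hne
    have hdq : (d : A) ∈ q := hJq (Ideal.subset_span (Set.mem_insert_of_mem _ rfl))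
    have hnq : n ∈ q := hJq (Ideal.subset_span (Set.mem_insert _ _))
    have hq0 : q ≠ ⊥ := fun h => hd (by rw [h] at hdq; exact hdq)
    obtain ⟨p, hpq, hp⟩ := Ideal.IsPrime.exists_mem_prime_of_ne_bot hqp hq0
    haveI hpP : (Ideal.span {p}).IsPrime := (Ideal.span_singleton_prime hp.ne_zero).2 hp
    let p₀ : PrimeSpectrum A := ⟨⊥, Ideal.isPrime_bot⟩
    let p₁ : PrimeSpectrum A := ⟨Ideal.span {p}, hpP⟩
    let p₂ : PrimeSpectrum A := ⟨q, hqp⟩
    let p₃ : PrimeSpectrum A := ⟨IsLocalRing.maximalIdeal A, inferInstance⟩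
    have h01 : p₀ < p₁ := by
      rw [← PrimeSpectrum.asIdeal_lt_asIdeal]
      exact bot_lt_iff_ne_bot.2 fun h => hp.ne_zero (Ideal.span_singleton_eq_bot.1 h)
    have h12 : Ideal.span {p} ≤ q := (Ideal.span_singleton_le_iff_mem q).2 hpq
    have h23 : p₂ < p₃ := by
      rw [← PrimeSpectrum.asIdeal_lt_asIdeal]
      exact lt_of_le_not_ge (IsLocalRing.le_maximalIdeal hqp.ne_top) hne
    rcases h12.lt_or_eq with hlt | heq
    · have h12' : p₁ < p₂ := by rw [← PrimeSpectrum.asIdeal_lt_asIdeal]; exact hlt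
      have e1 := Order.height_add_one_le h01
      have e2 := Order.height_add_one_le h12'
      have e3 := Order.height_add_one_le h23
      have e4 : ((3 : ℕ∞) : WithBot ℕ∞) ≤ ringKrullDim A := by
        refine le_trans (WithBot.coe_le_coe.2 ?_) (Order.height_le_krullDim p₃)
        calc (3 : ℕ∞) = 0 + 1 + 1 + 1 := by norm_num
          _ ≤ Order.height p₀ + 1 + 1 + 1 := by gcongr; exact zero_le
          _ ≤ Order.height p₁ + 1 + 1 := by gcongr
          _ ≤ Order.height p₂ + 1 := by gcongr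
          _ ≤ Order.height p₃ := e3
      rw [hdim] at e4
      exact absurd (WithBot.coe_le_coe.1 (show ((3 : ℕ∞) : WithBot ℕ∞) ≤ ((2 : ℕ∞) : WithBot ℕ∞) from e4)) (by decide)
    · rw [← heq, Ideal.mem_span_singleton] at hdq hnq
      exact hp.not_unit (hrel hnq hdq)
  obtain ⟨N, hN⟩ := Ideal.exists_radical_pow_le_of_fg J (IsNoetherian.noetherian _)
  exact ⟨N, (Ideal.pow_right_mono hrad N).trans hN⟩

/-- The kernel of a map from an affine scheme through an affine open. -/
theorem ker_specMap_fromSpec {X : Scheme.{u}} [IsLocallyNoetherian X] (V : X.affineOpens) {R : CommRingCat.{u}}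
    (q : Γ(X, V.1) ⟶ R) : (Spec.map q ≫ V.2.fromSpec).ker.ideal V = RingHom.ker q.hom := by
  rw [Scheme.Hom.ker_apply]
  have h : (Spec.map q ≫ V.2.fromSpec).app V.1 = q ≫ (Scheme.ΓSpecIso R).inv ≫
      (Spec R).presheaf.map (eqToHom (by
        rw [show (Spec.map q ≫ V.2.fromSpec) ⁻¹ᵁ V.1 = Spec.map q ⁻¹ᵁ (V.2.fromSpec ⁻¹ᵁ V.1) from rfl,
          V.2.fromSpec_preimage_self]
        rfl)).op := by
    simp only [Scheme.Hom.comp_app, V.2.fromSpec_app_self, Category.assoc]
    rw [Scheme.Hom.naturality, Scheme.ΓSpecIso_inv_naturality_assoc]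
    simp only [Category.assoc, ← Functor.map_comp]
    rfl
  rw [h, CommRingCat.hom_comp, RingHom.ker_comp_of_injective _ (ConcreteCategory.bijective_of_isIso _).1]

/-- An ideal of the local ring at a closed point containing a power of the maximal ideal is the stalk of an
ideal sheaf supported at the point. -/
theorem exists_pt_ideal {X : Scheme.{u}} [IsNoetherian X] (t : X) (ht : IsClosed ({t} : Set X))
    (J : Ideal (X.presheaf.stalk t)) (N : ℕ) (hN : IsLocalRing.maximalIdeal (X.presheaf.stalk t) ^ N ≤ J) :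
    ∃ E : X.IdealSheafData, IntMult.stalkIdeal E t = J ∧ (E.support : Set X) ⊆ {t} := by
  let A := X.presheaf.stalk t
  let q : A ⟶ CommRingCat.of (A ⧸ J) := CommRingCat.ofHom (Ideal.Quotient.mk J)
  let f : Spec (CommRingCat.of (A ⧸ J)) ⟶ X := Spec.map q ≫ X.fromSpecStalk t
  haveI : QuasiCompact f := inferInstance
  refine ⟨f.ker, ?_, ?_⟩
  · obtain ⟨V, hV, htV, -⟩ := exists_isAffineOpen_mem_and_subset (X := X) (U := ⊤) (x := t) trivial
    let γ := X.presheaf.germ V t htV
    have hf : f = Spec.map (γ ≫ q) ≫ hV.fromSpec := by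
      show Spec.map q ≫ X.fromSpecStalk t = _
      rw [← hV.fromSpecStalk_eq_fromSpecStalk htV, IsAffineOpen.fromSpecStalk, Spec.map_comp, Category.assoc]
    have h : f.ker.ideal ⟨V, hV⟩ = J.comap γ.hom := by
      rw [hf, ker_specMap_fromSpec ⟨V, hV⟩ (γ ≫ q), CommRingCat.hom_comp, ← RingHom.comap_ker]
      exact congrArg (Ideal.comap γ.hom) Ideal.mk_ker
    rw [IdealStalkLib.stalkIdeal_eq _ ⟨V, hV⟩ t htV, h]
    letI := X.presheaf.algebra_section_stalk ⟨t, htV⟩
    haveI := hV.isLocalization_stalk ⟨t, htV⟩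
    exact IsLocalization.map_comap (hV.primeIdealOf ⟨t, htV⟩).asIdeal.primeCompl (X.presheaf.stalk t) J
  · rw [Scheme.Hom.support_ker]
    refine closure_minimal ?_ ht
    rintro _ ⟨p, rfl⟩
    show (Spec.map q ≫ X.fromSpecStalk t) p ∈ ({t} : Set X)
    rw [Scheme.Hom.comp_apply]
    have hp : Spec.map q p = IsLocalRing.closedPoint A := by
      refine PrimeSpectrum.ext (le_antisymm (IsLocalRing.le_maximalIdeal (Spec.map q p).isPrime.ne_top) ?_)
      refine (Ideal.IsPrime.le_of_pow_le (n := N) (hN.trans ?_))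
      intro a ha
      show q a ∈ p.asIdeal
      have : (Ideal.Quotient.mk J) a = 0 := Ideal.Quotient.eq_zero_iff_mem.2 ha
      exact (show (q a) = 0 from this) ▸ zero_mem _
    rw [hp, Scheme.fromSpecStalk_closedPoint]
    rfl

/-- A point with a domain local ring on a Noetherian scheme has an integral neighbourhood. -/
theorem exists_integral_nhd {X : Scheme.{u}} [IsLocallyNoetherian X] (t : X) [IsDomain (X.presheaf.stalk t)]
    (O : X.Opens) (htO : t ∈ O) : ∃ W : X.Opens, t ∈ W ∧ W ≤ O ∧ IsIntegral W.toScheme := by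
  obtain ⟨U, htU, hU, hUO, hinj⟩ := X.exists_le_and_germ_injective t O htO
  haveI : IsAffine U.toScheme := hU
  haveI : Nonempty U.toScheme := ⟨⟨t, htU⟩⟩
  haveI : IsDomain Γ(X, U) := Function.Injective.isDomain (X.presheaf.germ U t htU).hom hinj
  haveI : IsDomain Γ(U.toScheme, ⊤) := MulEquiv.isDomain _ U.topIso.commRingCatIsoToRingEquiv.toMulEquiv
  exact ⟨U, htU, hUO, isIntegral_of_isAffine_of_isDomain _⟩

/-- Point blow-ups preserve integrality of opens. -/
theorem PtSeq.integral_restrict {Y X : Scheme.{u}} {g : Y ⟶ X} (hg : PtSeq g) [hX : IsNoetherian X] (W : X.Opens)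
    [hW : IsIntegral W.toScheme] :
    IsIntegral (g ⁻¹ᵁ W).toScheme ∧
      ∃ V : W.toScheme.Opens, (V : Set W.toScheme).Nonempty ∧ IsIso ((g ∣_ W) ∣_ V) := by
  revert hX hW W
  induction hg with
  | refl X =>
    intro hX W hW
    haveI := hW
    haveI : Nonempty ((𝟙 X : X ⟶ X) ⁻¹ᵁ W).toScheme := hW.nonempty
    exact ⟨isIntegral_of_isOpenImmersion ((𝟙 X : X ⟶ X) ∣_ W), ⊤, ⟨genericPoint W.toScheme, trivial⟩, inferInstance⟩
  | @step Y Z X b r z hz hreg hd hb hr ih =>
    intro hX W hW
    haveI := hr.isNoetherian.1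
    haveI := hr.isNoetherian.2
    obtain ⟨hint, V, hV, hiso⟩ := ih W
    haveI := hint
    haveI := hiso
    let Z₁ : Z.Opens := r ⁻¹ᵁ W
    by_cases hz₁ : z ∈ Z₁
    · let e := (isPullback_morphismRestrict b Z₁).isoPullback
      have hb₁ : BlowUp.IsBlowUp (b ∣_ Z₁) ((pointIdeal hz).comap Z₁.ι) := by
        have h := AlmostBlowLib.isBlowUp_of_iso (S1680.result Z₁.ι (pointIdeal hz) b hb) e
        rwa [IsPullback.isoPullback_hom_fst] at h
      let w : Z₁.toScheme := ⟨z, hz₁⟩
      have hwgen : w ≠ genericPoint Z₁.toScheme := fun h => by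
        have hd' : ringKrullDim (Z₁.toScheme.presheaf.stalk w) = 2 :=
          (ringKrullDim_eq_of_ringEquiv (Z₁.stalkIso w).commRingCatIsoToRingEquiv).trans hd
        exact ne_generic hd' h
      have hne0 : (pointIdeal hz).comap Z₁.ι ≠ ⊥ := fun h => hwgen (by
        have h1 : (((pointIdeal hz).comap Z₁.ι).support : Set Z₁.toScheme) = {w} := by
          rw [Scheme.IdealSheafData.support_comap, TopologicalSpace.Closeds.coe_preimage,
            Scheme.IdealSheafData.coe_support_vanishingIdeal]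
          ext y
          exact ⟨fun hy => Subtype.ext hy, fun hy => congrArg Subtype.val hy⟩
        rw [h, Scheme.IdealSheafData.support_bot] at h1
        exact (h1 ▸ (trivial : genericPoint Z₁.toScheme ∈ (Set.univ : Set Z₁.toScheme)) :
          genericPoint Z₁.toScheme ∈ ({w} : Set Z₁.toScheme)).symm)
      obtain ⟨hY₁, -⟩ := S2348.result ((pointIdeal hz).comap Z₁.ι) hne0 (b ∣_ Z₁) hb₁
      · refine ⟨hY₁, ?_⟩
        obtain ⟨hgen, -⟩ := BirQFLib.birational_of_isIso_restrict (r ∣_ W) V hV hiso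
        have hc : IsClosed ({r z} : Set X) := by simpa only [Set.image_singleton] using r.isClosedMap _ hz
        have hηV : genericPoint W.toScheme ∈ V := (genericPoint_specializes hV.some).mem_open V.2 hV.some_mem
        have hne : (⟨r z, hz₁⟩ : W.toScheme) ≠ genericPoint W.toScheme := fun h => hwgen (by
          have h1 : (r ∣_ W) w = ⟨r z, hz₁⟩ := Subtype.ext (by rw [morphismRestrict_base]; rfl)
          have hwV : w ∈ (r ∣_ W) ⁻¹ᵁ V := show (r ∣_ W) w ∈ V from (h1.trans h).symm ▸ hηV
          have hgV : genericPoint _ ∈ (r ∣_ W) ⁻¹ᵁ V := show (r ∣_ W) (genericPoint _) ∈ V from hgen.symm ▸ hηV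
          have e' := ((r ∣_ W) ∣_ V).homeomorph.injective (a₁ := ⟨w, hwV⟩) (a₂ := ⟨_, hgV⟩) (Subtype.ext (by
            rw [Scheme.Hom.homeomorph_apply, Scheme.Hom.homeomorph_apply, morphismRestrict_base]
            exact (h1.trans h).trans hgen.symm))
          exact congrArg Subtype.val e')
        let C : X.Opens := ⟨{r z}ᶜ, hc.isOpen_compl⟩
        let V' : W.toScheme.Opens := V ⊓ W.ι ⁻¹ᵁ C
        refine ⟨V', ⟨genericPoint _, hηV, fun h => hne (Subtype.ext h.symm)⟩, ?_⟩
        rw [morphismRestrict_comp b r W, morphismRestrict_comp]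
        haveI : IsIso ((r ∣_ W) ∣_ V') := BMCohLib.isIso_restrict_le (r ∣_ W) inf_le_left
        haveI : IsIso ((b ∣_ Z₁) ∣_ ((r ∣_ W) ⁻¹ᵁ V')) := by
          refine ((MorphismProperty.isomorphisms Scheme).arrow_mk_iso_iff (morphismRestrictRestrict b Z₁ _)).2 ?_
          refine isIso_restrict_compl hb _ fun h => ?_
          obtain ⟨w', hw', hw'z⟩ := h
          refine (show (r ∣_ W) w' ∈ W.ι ⁻¹ᵁ C from hw'.2) ?_
          show W.ι ((r ∣_ W) w') = r z
          rw [morphismRestrict_base, ← hw'z]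
          rfl
        infer_instance
    · haveI : IsIso (b ∣_ Z₁) := isIso_restrict_compl hb Z₁ hz₁
      haveI : Nonempty (b ⁻¹ᵁ Z₁).toScheme := (b ∣_ Z₁).homeomorph.surjective.nonempty
      haveI : Nonempty ((b ≫ r) ⁻¹ᵁ W).toScheme := ‹Nonempty (b ⁻¹ᵁ Z₁).toScheme›
      refine ⟨isIntegral_of_isOpenImmersion (b ∣_ Z₁), V, hV, ?_⟩
      rw [morphismRestrict_comp b r W, morphismRestrict_comp]
      infer_instance

end Groth.Agent.SurfPtBlow
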