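import Groth.Agent.BCLib.DVR
import Groth.Prelude.Def_ArSurf

/-!
# Basic facts about arithmetic surfaces
-/

set_option autoImplicit false
set_option linter.style.haveILetI false

universe u

open CategoryTheory CategoryTheory.Limits AlgebraicGeometry

namespace Groth.Agent.SurfPtBlow

variable {R : Type u} [CommRing R] [IsDedekindDomain R]

theorem arSurf_facts {X : Over (Spec (CommRingCat.of R))} (hX : ArSurf.IsArithSurface R X) :
    IsProper X.hom ∧ IsNoetherian X.left := by
  obtain ⟨-, -, -, -, n, i, hi, hiX⟩ := hX
  haveI := hi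
  haveI : IsProper (CohB1.ProjSpaceOver.toBase n (Spec (CommRingCat.of R))) := BCLib.isProper_toBase _ _
  haveI hp : IsProper X.hom := hiX ▸ inferInstance
  haveI : IsLocallyNoetherian X.left := LocallyOfFiniteType.isLocallyNoetherian X.hom
  haveI : CompactSpace X.left := QuasiCompact.compactSpace_of_compactSpace X.hom
  exact ⟨hp, { }⟩

theorem isProper_hom_left {X Y : Over (Spec (CommRingCat.of R))} (hX : ArSurf.IsArithSurface R X)
    (hY : ArSurf.IsArithSurface R Y) (f : X ⟶ Y) : IsProper f.left := by
  haveI := (arSurf_facts hY).1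
  haveI : IsProper (f.left ≫ Y.hom) := (Over.w f).symm ▸ (arSurf_facts hX).1
  exact IsProper.of_comp f.left Y.hom

end Groth.Agent.SurfPtBlow
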