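import Groth.Agent.SurfPtBlow.Minimal
import Groth.Agent.TwistShriek.SurfH1
import Groth.Agent.AmpleEmb.FibreAmple
import Groth.Agent.FinSurjLib.Vanish

/-!
# Two meeting exceptional curves in the closed fibre kill `H¹`
-/

set_option autoImplicit false
set_option backward.isDefEq.respectTransparency false
set_option linter.style.haveILetI false
set_option maxHeartbeats 1000000

universe u

open CategoryTheory CategoryTheory.Limits AlgebraicGeometry TopologicalSpace
open Groth.Agent.TwistShriek Groth.Agent.TwistShriek.PointBlow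
open Groth.Agent.IntLib (mk pullCls)

noncomputable section

namespace Groth.Agent.SurfPtBlow

section Layer

variable {k : Type u} [Field k]

/-- No first cohomology in degree at least `-1` on the projective line. -/
theorem subsingleton_H1_P1 {M : (CohB1.ProjSpace 1 k).Modules} (hM : PicF.IsInvertible M) (hd : -1 ≤ degP k M) :
    Subsingleton (Coh.HH (CohB1.ProjSpace 1 k) M 1) := by
  haveI := isProper_P1 (k := k)
  obtain ⟨d, ⟨e⟩⟩ := PicProjLib.exists_iso_twist (n := 1) (R := k) hM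
  refine CurveLib.subsingleton_HH_iso e.symm 1 ?_
  rcases lt_or_ge d 0 with hneg | hnn
  swap
  · exact ProjTwist.subsingleton_HH 1 k d 1 (by omega) (by omega)
  haveI : Subsingleton (Coh.HH (CohB1.ProjSpace 1 k) (Twist.twistProjSpace 1 k d) 0) :=
    ProjTwist.subsingleton_HH 1 k d 0 (by omega) (by omega)
  have hinv : PicF.IsInvertible (Twist.twistProjSpace 1 k d) := PicProjLib.isInvertible_twist d
  haveI := EulerIneqLib.isNoetherian_proper (X := CohB1.ProjSpace 1 k) k
  haveI : Module.Finite k (Coh.HH (CohB1.ProjSpace 1 k) (Twist.twistProjSpace 1 k d) 1) :=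
    EulerIneqLib.finite_HH (k := k) (CurveLib.isCoh_of_isInvertible hinv) 1
  refine (Module.finrank_zero_iff (R := k)).1 ?_
  have h1 : degP k M = degP k (Twist.twistProjSpace 1 k d) := degP_congr (IntLib.mk_congr e)
  rw [h1, degP, Curv2.deg, CurveLib.euler_eq_sub (k := k) dim_P1.le,
    CurveLib.euler_eq_sub (k := k) dim_P1.le] at hd
  have h0 : Module.finrank k (Coh.HH (CohB1.ProjSpace 1 k) (Twist.twistProjSpace 1 k d) 0) = 0 :=
    Module.finrank_zero_of_subsingleton
  let φ : Coh.structureModule (CohB1.ProjSpace 1 k) ≅ Twist.twistProjSpace 1 k ((0 : ℕ) : ℤ) :=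
    @asIso _ _ _ _ (ProjCoh.unitToTwist (CohB1.polyGrading 1 k)) ProjCoh.isIso_unitToTwist
  haveI : Subsingleton (Coh.HH (CohB1.ProjSpace 1 k) (Twist.twistProjSpace 1 k ((0 : ℕ) : ℤ)) 1) :=
    ProjTwist.subsingleton_HH 1 k _ 1 (by omega) (by omega)
  have hO0 : Module.finrank k (Coh.HH (CohB1.ProjSpace 1 k) (Coh.structureModule _) 0) = 1 := by
    obtain ⟨e0⟩ := ProjTwist.nonempty_H0 1 k 0
    rw [ShBCLib.finrank_HH_iso (K := k) φ 0]
    refine e0.finrank_eq.trans ?_
    rw [S4466.finrank_forms k 1 0, Nat.choose_one_right]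
  have hO1 : Module.finrank k (Coh.HH (CohB1.ProjSpace 1 k) (Coh.structureModule _) 1) = 0 := by
    rw [ShBCLib.finrank_HH_iso (K := k) φ 1]
    exact Module.finrank_zero_of_subsingleton
  omega

variable {Z : Scheme.{u}} [IsLocallyNoetherian Z] (j : CohB1.ProjSpace 1 k ⟶ Z) [IsClosedImmersion j]

/-- No first cohomology in degree at least `-1` on a line in a scheme. -/
theorem subsingleton_H1_layer {M : Z.Modules} (hM : PicF.IsInvertible M) (hd : -1 ≤ degOn j M) :
    Subsingleton (Coh.HH Z (CohB1.tensorMod (ClSub.quotMod j.ker) M) 1) := by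
  obtain ⟨q⟩ := nonempty_quotMod_ker_iso j
  haveI := isProper_P1 (k := k)
  haveI := EulerIneqLib.isNoetherian_proper (X := CohB1.ProjSpace 1 k) k
  have hM' := AmpleLib.isInvertible_pullback j hM
  haveI : Coh.IsQCoh ((Scheme.Modules.pullback j).obj M) := (CurveLib.isCoh_of_isInvertible hM').1
  let u : DCohLib.tmod (Coh.structureModule (CohB1.ProjSpace 1 k)) ((Scheme.Modules.pullback j).obj M) ≅
      (Scheme.Modules.pullback j).obj M := CurveLib.tmodUnit _
  haveI : Coh.IsQCoh (DCohLib.tmod (Coh.structureModule (CohB1.ProjSpace 1 k)) ((Scheme.Modules.pullback j).obj M)) :=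
    (CurveLib.isCoh_of_isInvertible (AmpleLib.isInvertible_tensor ParaFLib.isInvertible_structureModule hM')).1
  refine CurveLib.subsingleton_HH_iso (((DCoh.tensorBi (X := Z)).mapIso q).app M).symm 1 ?_
  exact FinSurjLib.subsingleton_push_tmod j hM (Coh.structureModule _) 1
    (CurveLib.subsingleton_HH_iso u.symm 1 (subsingleton_H1_P1 hM' hd))

end Layer

/-- Multiplication by an element generating an invertible ideal is a kernel of the quotient map. -/
theorem shortExact_smul {Z : Scheme.{u}} [IsIntegral Z] {c : Γ(Z, ⊤)} (hc : c ≠ 0) {J : Z.IdealSheafData}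
    (hJ : ∀ z : Z, IntMult.stalkIdeal J z = Ideal.span {(Z.presheaf.germ ⊤ z trivial).hom c}) :
    ∃ w : Formal.smulModΓ (Coh.structureModule Z) c ≫ ClSub.toSubscheme J = 0,
      (ShortComplex.mk _ (ClSub.toSubscheme J) w).ShortExact := by
  have hst : ∀ z m, PullbackMod.stalkLin (Formal.smulModΓ (Coh.structureModule Z) c) z m =
      (Z.presheaf.germ ⊤ z trivial).hom c • m := fun z m => BCLib.stalkLin_smulModΓ _ _ z m
  have w : Formal.smulModΓ (Coh.structureModule Z) c ≫ ClSub.toSubscheme J = 0 :=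
    PullbackMod.hom_ext_stalk fun z => LinearMap.ext fun m => by
      obtain ⟨r, rfl⟩ := (ParaFLib.bijective_oneG z).2 m
      rw [PullbackMod.stalkLin_comp, LinearMap.comp_apply, hst, DevLib.stalkLin_zero, LinearMap.zero_apply, smul_smul]
      exact (H1ZeroLib.qv_eq_zero_iff J z _).2 ((hJ z).symm ▸ Ideal.mul_mem_right _ _ (Ideal.mem_span_singleton_self _))
  refine ⟨w, ShortComplex.ShortExact.mk' ?_ ?_ (HilbObsLib.epi_toSubscheme J)⟩
  · rw [ShortComplex.exact_iff_epi_kernel_lift]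
    refine (PullbackMod.epi_iff_stalk _).2 fun z m => ?_
    have hinj := (PullbackMod.mono_iff_stalk (kernel.ι (ClSub.toSubscheme J))).1 inferInstance z
    obtain ⟨r, hr⟩ := (ParaFLib.bijective_oneG z).2 (PullbackMod.stalkLin (kernel.ι (ClSub.toSubscheme J)) z m)
    replace hr : r • ParaFLib.oneG z = _ := hr
    obtain ⟨a, rfl⟩ := Ideal.mem_span_singleton'.1 ((hJ z).le ((HilbObsLib.mem_range_idealModι J z r).1 ⟨m, hr.symm⟩))
    refine ⟨a • ParaFLib.oneG z, hinj ?_⟩
    rw [← LinearMap.comp_apply, ← PullbackMod.stalkLin_comp, kernel.lift_ι]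
    refine (hst z _).trans ?_
    rw [smul_smul, mul_comm, hr]
  · refine (PullbackMod.mono_iff_stalk _).2 fun z m m' h => ?_
    obtain ⟨r, rfl⟩ := (ParaFLib.bijective_oneG z).2 m
    obtain ⟨r', rfl⟩ := (ParaFLib.bijective_oneG z).2 m'
    rw [hst, hst, smul_smul, smul_smul] at h
    have h' := (ParaFLib.bijective_oneG z).1 h
    have hne : (Z.presheaf.germ ⊤ z trivial).hom c ≠ 0 := fun h0 =>
      hc (germ_injective_of_isIntegral Z (U := ⊤) z trivial (h0.trans (map_zero _).symm))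
    exact congrArg (· • _) (mul_left_cancel₀ hne h')

section Fibre

variable {R : Type u} [CommRing R] [IsDomain R] [IsDiscreteValuationRing R] {Z : Scheme.{u}} [IsIntegral Z]
  [IsNoetherian Z] (p : Z ⟶ Spec (CommRingCat.of R))

/-- The closed fibre, as an ideal sheaf. -/
abbrev fibreIdeal : Z.IdealSheafData := (Curv2.idealSheaf R (IsLocalRing.maximalIdeal R)).comap p

omit [IsIntegral Z] [AlgebraicGeometry.IsNoetherian Z] [IsDomain R] [IsDiscreteValuationRing R] in
theorem stalkIdeal_comap_principal (r : R) (z : Z) :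
    IntMult.stalkIdeal ((Curv2.idealSheaf R (Ideal.span {r})).comap p) z =
      Ideal.span {(Z.presheaf.germ ⊤ z trivial).hom (Coh.toGlobal p r)} := by
  rw [IdealStalkLib.stalkIdeal_comap, IdealStalkLib.stalkIdeal_eq _ ⟨⊤, isAffineOpen_top _⟩ (p z) trivial,
    Curv2.idealSheaf, Scheme.IdealSheafData.ofIdealTop_ideal]
  simp only [Ideal.map_map, Ideal.map_span, Set.image_singleton]
  congr 2
  exact (Scheme.Hom.germ_stalkMap_apply p ⊤ z trivial _).trans rfl

omit [IsIntegral Z] [AlgebraicGeometry.IsNoetherian Z] in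
theorem support_fibreIdeal : ((fibreIdeal p).support : Set Z) = p ⁻¹' {IsLocalRing.closedPoint R} := by
  rw [Scheme.IdealSheafData.support_comap, Closeds.coe_preimage]
  refine congrArg _ (Set.ext fun q => ?_)
  show q ∈ (Spec (CommRingCat.of R)).zeroLocus (U := ⊤) (((IsLocalRing.maximalIdeal R).map
    (Scheme.ΓSpecIso (CommRingCat.of R)).inv.hom : Ideal Γ(Spec (CommRingCat.of R), ⊤)) : Set _) ↔ _
  rw [Ideal.map, Scheme.zeroLocus_span]
  simp only [Scheme.mem_zeroLocus_iff, Set.mem_image, forall_exists_index, and_imp, forall_apply_eq_imp_iff₂,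
    AlgebraicGeometry.basicOpen_eq_of_affine']
  erw [show (∀ a ∈ IsLocalRing.maximalIdeal R, q ∉ PrimeSpectrum.basicOpen
      ((Scheme.ΓSpecIso (CommRingCat.of R)).hom.hom ((Scheme.ΓSpecIso (CommRingCat.of R)).inv.hom a))) ↔
      IsLocalRing.maximalIdeal R ≤ (q : PrimeSpectrum R).asIdeal from forall₂_congr fun a _ => by
    erw [ConcreteCategory.congr_hom (Scheme.ΓSpecIso (CommRingCat.of R)).inv_hom_id a]
    exact not_not]
  refine ⟨fun h => PrimeSpectrum.ext ((IsLocalRing.maximalIdeal.isMaximal R).eq_of_le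
    (q : PrimeSpectrum R).isPrime.ne_top h).symm, fun h => by rw [Set.mem_singleton_iff.1 h]; exact le_rfl⟩

/-- **The closed fibre with two meeting exceptional curves.** -/
theorem fibreIdeal_eq_of_meet [IsProper p] (hgen : p (genericPoint Z) ≠ IsLocalRing.closedPoint R)
    (hΓ : Function.Surjective (Coh.toGlobal p)) {k₁ k₂ : Type u} [Field k₁] [Field k₂]
    (j₁ : CohB1.ProjSpace 1 k₁ ⟶ Z) [IsClosedImmersion j₁] (j₂ : CohB1.ProjSpace 1 k₂ ⟶ Z) [IsClosedImmersion j₂]
    (hC₁ : BlowUp.IsEffCartierIdeal j₁.ker) (hC₂ : BlowUp.IsEffCartierIdeal j₂.ker)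
    (e₁ : (Scheme.Modules.pullback j₁).obj (ClSub.idealMod j₁.ker) ≅ Twist.twistProjSpace 1 k₁ 1)
    (e₂ : (Scheme.Modules.pullback j₂).obj (ClSub.idealMod j₂.ker) ≅ Twist.twistProjSpace 1 k₂ 1)
    (h₁ : ∀ z, p (j₁ z) = IsLocalRing.closedPoint R) (h₂ : ∀ z, p (j₂ z) = IsLocalRing.closedPoint R)
    (hne : Set.range j₁ ≠ Set.range j₂) (hmeet : ¬ Disjoint (Set.range j₁) (Set.range j₂)) :
    ∃ a : ℕ, 0 < a ∧ fibreIdeal p = j₂.ker ^ a * j₁.ker ^ a ∧
      degOn j₁ (ClSub.idealMod j₂.ker) = -1 ∧ degOn j₂ (ClSub.idealMod j₁.ker) = -1 := by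
  haveI := isIntegral_P1 (k := k₁)
  haveI := isIntegral_P1 (k := k₂)
  obtain ⟨ϖ, hϖ⟩ := IsDiscreteValuationRing.exists_irreducible R
  have hm : IsLocalRing.maximalIdeal R = Ideal.span {ϖ} := hϖ.maximalIdeal_eq
  let D : (Spec (CommRingCat.of R)).IdealSheafData := Curv2.idealSheaf R (IsLocalRing.maximalIdeal R)
  have hD : BlowUp.IsEffCartierIdeal D :=
    isEffCartierIdeal_of_cover (B := fun _ : Unit => (R : Type u)) (fun _ => 𝟙 _)
      (fun y => ⟨(), y, rfl⟩) fun _ => ⟨ϖ, mem_nonZeroDivisors_of_ne_zero hϖ.ne_zero, by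
        rw [Scheme.IdealSheafData.comap_id, show D = Curv2.idealSheaf R (Ideal.span {ϖ}) from congrArg (Curv2.idealSheaf R) hm]⟩
  let J := fibreIdeal p
  have hsJ : ∀ z, z ∈ J.support ↔ p z = IsLocalRing.closedPoint R := fun z => by
    show z ∈ (J.support : Set Z) ↔ _
    rw [support_fibreIdeal]
    rfl
  have hηJ : genericPoint Z ∉ J.support := fun hh => hgen ((hsJ _).1 hh)
  have hJc : BlowUp.IsEffCartierIdeal J := S8862.result p D hD fun ξ hξ => by
    rw [← hξ _ (genericPoint_specializes ξ)]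
    intro hh
    refine hηJ ?_
    show genericPoint Z ∈ (J.support : Set Z)
    rw [Scheme.IdealSheafData.support_comap]
    exact hh
  have hJ0 : J ≠ ⊥ := fun hb => hηJ (by rw [hb, Scheme.IdealSheafData.support_bot]; trivial)
  have hJd : ∀ {k : Type u} [Field k] (j : CohB1.ProjSpace 1 k ⟶ Z), degOn j (ClSub.idealMod J) = 0 := fun {k} _ j => by
    obtain ⟨e⟩ := JacLib.nonempty_iso_pullback_idealMod p D hD hJc
    refine Eq.trans (degP_congr ?_) degP_one
    rw [IntLib.mk_structureModule, ← IntLib.pullCls_mk, ← IntLib.mk_congr e, ← IntLib.pullCls_mk,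
      show D = Curv2.idealSheaf R (Ideal.span {ϖ}) from congrArg (Curv2.idealSheaf R) hm,
      mk_idealMod_principal (mem_nonZeroDivisors_of_ne_zero hϖ.ne_zero), map_one, map_one]
  -- decompose the divisor
  let η₁ := j₁ (genericPoint (CohB1.ProjSpace 1 k₁))
  let η₂ := j₂ (genericPoint (CohB1.ProjSpace 1 k₂))
  have hsup : ∀ {k : Type u} [Field k] (j : CohB1.ProjSpace 1 k ⟶ Z) [IsClosedImmersion j],
      (j.ker.support : Set Z) = Set.range j := fun j _ => by
    rw [Scheme.Hom.support_ker, j.isClosedEmbedding.isClosed_range.closure_eq]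
  have hη₁ : η₁ ∉ j₂.ker.support := fun hh => hne (range_eq_of_generic_mem j₁ j₂ ((hsup j₂).le hh))
  have hη₂ : η₂ ∉ j₁.ker.support := fun hh => hne (range_eq_of_generic_mem j₂ j₁ ((hsup j₁).le hh)).symm
  obtain ⟨a, K, hK, hK1⟩ := exists_max_pow hC₁ hJ0 ⟨η₁, (hsup j₁).ge ⟨_, rfl⟩⟩
  have hKc : BlowUp.IsEffCartierIdeal K := BlowCompLib.isEffCartier_of_mul (hK ▸ hJc)
  have hK0 : K ≠ ⊥ := fun hb => hJ0 (le_bot_iff.1 (DivisorialLib.le_of_stalk fun z => by
    rw [hK, DivisorialLib.stalkIdeal_mul, hb]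
    exact Ideal.mul_le_left))
  obtain ⟨c, J', hJ', hJ2⟩ := exists_max_pow hC₂ hK0 ⟨η₂, (hsup j₂).ge ⟨_, rfl⟩⟩
  have hJ'c : BlowUp.IsEffCartierIdeal J' := BlowCompLib.isEffCartier_of_mul (hJ' ▸ hKc)
  have hJ1 : ¬ J' ≤ j₁.ker := fun hle => hK1 (le_trans (DivisorialLib.le_of_stalk fun z => by
    rw [hJ', DivisorialLib.stalkIdeal_mul]; exact Ideal.mul_le_left) hle)
  have hg1 : η₁ ∉ J'.support := fun hh => hJ1 (le_ker_of_mem j₁ hh)
  have hg2 : η₂ ∉ J'.support := fun hh => hJ2 (le_ker_of_mem j₂ hh)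
  have hsplit : ∀ {k : Type u} [Field k] (j : CohB1.ProjSpace 1 k ⟶ Z),
      degOn j (ClSub.idealMod J') + c * degOn j (ClSub.idealMod j₂.ker) + a * degOn j (ClSub.idealMod j₁.ker) = 0 :=
    fun {k} _ j => by
      obtain ⟨h1c, h1⟩ := degOn_pow j hC₁ a
      obtain ⟨h2c, h2⟩ := degOn_pow j hC₂ c
      have hh := hJd j
      rw [hK, degOn_mul j hKc h1c, h1, hJ', degOn_mul j hJ'c h2c, h2] at hh
      exact hh
  have d12 := degOn_le j₁ hC₂ hη₁
  have d21 := degOn_le j₂ hC₁ hη₂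
  have d12' : degOn j₁ (ClSub.idealMod j₂.ker) ≤ -1 := by
    by_contra hlt
    refine hmeet (Set.disjoint_left.2 ?_)
    rintro _ ⟨z, rfl⟩ hz
    exact d12.2 (le_antisymm d12.1 (by omega)) z ((hsup j₂).ge hz)
  have d21' : degOn j₂ (ClSub.idealMod j₁.ker) ≤ -1 := by
    by_contra hlt
    refine hmeet (Set.disjoint_right.2 ?_)
    rintro _ ⟨z, rfl⟩ hz
    exact d21.2 (le_antisymm d21.1 (by omega)) z ((hsup j₁).ge hz)
  have r1 := hsplit j₁
  have r2 := hsplit j₂
  rw [degOn_self e₁] at r1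
  rw [degOn_self e₂] at r2
  have z1 := degOn_le j₁ hJ'c hg1
  have z2 := degOn_le j₂ hJ'c hg2
  have m1 : (c : ℤ) * degOn j₁ (ClSub.idealMod j₂.ker) ≤ -c := by nlinarith
  have m2 : (a : ℤ) * degOn j₂ (ClSub.idealMod j₁.ker) ≤ -a := by nlinarith
  have n1 := z1.2 (by linarith [z1.1, z2.1])
  have n2 := z2.2 (by linarith [z1.1, z2.1])
  have hac : (a : ℤ) = c := by linarith [z1.1, z2.1]
  -- the closed fibre is connected
  have hJsupp : ∀ z, z ∈ J.support → z ∈ Set.range j₁ ∪ Set.range j₂ ∪ (J'.support : Set Z) := fun z hz => by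
    by_contra hnot
    simp only [Set.mem_union, not_or] at hnot
    refine (stalkIdeal_ne_top_iff J z).2 hz ?_
    rw [hK, hJ', DivisorialLib.stalkIdeal_mul, DivisorialLib.stalkIdeal_mul, InfNbhdLib.stalkIdeal_pow,
      InfNbhdLib.stalkIdeal_pow, (stalkIdeal_eq_top_iff J' z).2 hnot.2,
      (stalkIdeal_eq_top_iff j₁.ker z).2 (fun hh => hnot.1.1 ((hsup j₁).le hh)),
      (stalkIdeal_eq_top_iff j₂.ker z).2 (fun hh => hnot.1.2 ((hsup j₂).le hh))]
    simp [← Ideal.one_eq_top]
  have hdis : ∀ z ∈ Set.range j₁ ∪ Set.range j₂, z ∉ J'.support := by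
    rintro _ (⟨z, rfl⟩ | ⟨z, rfl⟩)
    exacts [n1 z, n2 z]
  have hfib : ∀ z, p z = IsLocalRing.closedPoint R → z ∉ J'.support := fun z hz hz' => by
    obtain ⟨w, hw, hw1, hw2⟩ := isPreconnected_closed_iff.1 (SteinConn.isPreconnected_closedFibre p hΓ)
      (Set.range j₁ ∪ Set.range j₂) J'.support
      (j₁.isClosedEmbedding.isClosed_range.union j₂.isClosedEmbedding.isClosed_range) J'.support.isClosed
      (fun v hv => by
        rcases hJsupp v ((hsJ v).2 hv) with hv' | hv'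
        exacts [Or.inl hv', Or.inr hv'])
      ⟨η₁, h₁ _, Or.inl ⟨_, rfl⟩⟩ ⟨z, hz, hz'⟩
    exact hdis w hw1 hw2
  have hJ'top : J' = ⊤ := (Scheme.IdealSheafData.support_eq_bot_iff J').1
    (SetLike.coe_injective (Set.eq_empty_iff_forall_notMem.2 fun z hz => hfib z ((hsJ z).1 (by
      rw [H1ZeroLib.mem_support_iff_stalk, hK, hJ', DivisorialLib.stalkIdeal_mul, DivisorialLib.stalkIdeal_mul]
      exact fun h => (stalkIdeal_ne_top_iff J' z).2 hz (top_le_iff.1 (h.ge.trans
        (Ideal.mul_le_left.trans Ideal.mul_le_left))))) hz))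
  have hca : c = a := by exact_mod_cast hac.symm
  subst hca
  have hJeq : J = j₂.ker ^ c * j₁.ker ^ c := by
    rw [hK, hJ', hJ'top, ← Scheme.IdealSheafData.one_eq_top, one_mul]
  have hc0 : 0 < c := Nat.pos_of_ne_zero fun h0 => by
    have h3 : η₁ ∈ J.support := (hsJ _).2 (h₁ _)
    rw [hJeq, h0, pow_zero, pow_zero, one_mul, Scheme.IdealSheafData.one_eq_top,
      Scheme.IdealSheafData.support_top] at h3
    exact h3
  have hc0' : (1 : ℤ) ≤ c := by exact_mod_cast hc0
  refine ⟨c, hc0, hJeq, ?_, ?_⟩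
  · nlinarith [z1.1, z2.1]
  · nlinarith [z1.1, z2.1]

/-- **The vanishing.** -/
theorem subsingleton_H1_of_meet [IsProper p] (hgen : p (genericPoint Z) ≠ IsLocalRing.closedPoint R)
    (hΓ : Function.Surjective (Coh.toGlobal p)) {k₁ k₂ : Type u} [Field k₁] [Field k₂]
    (j₁ : CohB1.ProjSpace 1 k₁ ⟶ Z) [IsClosedImmersion j₁] (j₂ : CohB1.ProjSpace 1 k₂ ⟶ Z) [IsClosedImmersion j₂]
    (hC₁ : BlowUp.IsEffCartierIdeal j₁.ker) (hC₂ : BlowUp.IsEffCartierIdeal j₂.ker)
    (e₁ : (Scheme.Modules.pullback j₁).obj (ClSub.idealMod j₁.ker) ≅ Twist.twistProjSpace 1 k₁ 1)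
    (e₂ : (Scheme.Modules.pullback j₂).obj (ClSub.idealMod j₂.ker) ≅ Twist.twistProjSpace 1 k₂ 1)
    (h₁ : ∀ z, p (j₁ z) = IsLocalRing.closedPoint R) (h₂ : ∀ z, p (j₂ z) = IsLocalRing.closedPoint R)
    (hne : Set.range j₁ ≠ Set.range j₂) (hmeet : ¬ Disjoint (Set.range j₁) (Set.range j₂)) :
    Subsingleton (Coh.HH Z (Coh.structureModule Z) 1) := by
  obtain ⟨a, -, hJ, d12, d21⟩ := fibreIdeal_eq_of_meet p hgen hΓ j₁ j₂ hC₁ hC₂ e₁ e₂ h₁ h₂ hne hmeet
  have hO := ParaFLib.isInvertible_structureModule (X := Z)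
  have hLJ : ∀ n : ℕ, Subsingleton (Coh.HH Z
      (CohB1.tensorMod (ClSub.quotMod (j₂.ker ^ n * j₁.ker ^ n)) (Coh.structureModule Z)) 1) := by
    intro n
    induction n with
    | zero =>
      rw [pow_zero, pow_zero, one_mul, Scheme.IdealSheafData.one_eq_top]
      exact CurveLib.subsingleton_HH_of_support _ (⊤ : Z.IdealSheafData).support.isClosed
        (support_LJ_subset (L := Coh.structureModule Z) ⊤) (d := 0) (by rw [dim_top_support]; exact bot_le) one_pos
    | succ n ih =>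
      obtain ⟨c2, -⟩ := degOn_pow j₁ hC₂ n
      obtain ⟨c1, -⟩ := degOn_pow j₁ hC₁ n
      let B := j₂.ker ^ n * j₁.ker ^ n
      have hBc : BlowUp.IsEffCartierIdeal B := BlowCompLib.isEffCartier_mul c2 c1
      have hB'c : BlowUp.IsEffCartierIdeal (j₁.ker * B) := BlowCompLib.isEffCartier_mul hC₁ hBc
      have hBi := (S8914.result _).2 hBc
      have hB'i := (S8914.result _).2 hB'c
      have hdeg : ∀ {k : Type u} [Field k] (j : CohB1.ProjSpace 1 k ⟶ Z) {M : Z.IdealSheafData},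
          PicF.IsInvertible (ClSub.idealMod M) →
          degOn j (CohB1.tensorMod (ClSub.idealMod M) (Coh.structureModule Z)) = degOn j (ClSub.idealMod M) :=
        fun j M _ => degP_congr (IntLib.mk_congr ((Scheme.Modules.pullback j).mapIso (AmpleLib.unitR (ClSub.idealMod M))))
      have hdB : ∀ {k : Type u} [Field k] (j : CohB1.ProjSpace 1 k ⟶ Z), degOn j (ClSub.idealMod B) =
          n * (degOn j (ClSub.idealMod j₂.ker) + degOn j (ClSub.idealMod j₁.ker)) := fun j => by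
        rw [degOn_mul j c2 c1, (degOn_pow j hC₂ n).2, (degOn_pow j hC₁ n).2]; ring
      have h1 : Subsingleton (Coh.HH Z
          (CohB1.tensorMod (ClSub.quotMod (j₁.ker * B)) (Coh.structureModule Z)) 1) := by
        refine peel_twist hO (subsingleton_H1_layer j₁ (AmpleLib.isInvertible_tensor hBi hO) ?_) ih
        rw [hdeg j₁ hBi, hdB j₁, d12, degOn_self e₁]
        simp
      have h2 := peel_twist (C := j₂.ker) hO (subsingleton_H1_layer j₂ (AmpleLib.isInvertible_tensor hB'i hO) (by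
        rw [hdeg j₂ hB'i, degOn_mul j₂ hC₁ hBc, hdB j₂, d21, degOn_self e₂]
        simp)) h1
      rwa [show j₂.ker * (j₁.ker * B) = j₂.ker ^ (n + 1) * j₁.ker ^ (n + 1) by
        simp only [B, pow_succ]; ac_rfl] at h2
  obtain ⟨ϖ, hϖ⟩ := IsDiscreteValuationRing.exists_irreducible R
  have hJst : ∀ z : Z, IntMult.stalkIdeal (fibreIdeal p) z =
      Ideal.span {(Z.presheaf.germ ⊤ z trivial).hom (Coh.toGlobal p ϖ)} := fun z => by
    rw [fibreIdeal, show IsLocalRing.maximalIdeal R = Ideal.span {ϖ} from hϖ.maximalIdeal_eq]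
    exact stalkIdeal_comap_principal p ϖ z
  have hc : Coh.toGlobal p ϖ ≠ 0 := fun h0 => by
    have h1 : genericPoint Z ∈ ((fibreIdeal p).support : Set Z) := by
      refine (H1ZeroLib.mem_support_iff_stalk _ _).2 ?_
      rw [hJst, h0, map_zero, Ideal.span_singleton_zero]
      exact bot_ne_top
    rw [support_fibreIdeal] at h1
    exact hgen h1
  obtain ⟨w, hS⟩ := shortExact_smul hc hJst
  refine AmpleEmb.subsingleton_HH_of_coker p (a := ϖ) hϖ.not_isUnit _ w hS 1
    (ProperFin.allFin_of_isCoh p (Coh.structureModule Z) (DevLib.isCoh_structureModule Z) 1) ?_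
  rw [hJ]
  exact CurveLib.subsingleton_HH_iso (AmpleLib.unitR _) 1 (hLJ a)

end Fibre

end Groth.Agent.SurfPtBlow
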