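import Groth.Agent.SurfPtBlow.Step
import Groth.Agent.BlowSurfLib.TwoChart
import Groth.Agent.BlowSurfLib.MV1
import Groth.Agent.CohBase.Affine
import Groth.Agent.GenBCLib.PushEdge
import Groth.Agent.BirQFLib.Conn
import Groth.Agent.ParaFPullLib.Basic
import Groth.Prelude.Def_ClSub2

/-!
# Direct images of the structure sheaf under blow-ups of points and birational morphisms to normal schemes
-/

set_option autoImplicit false
set_option backward.isDefEq.respectTransparency false
set_option linter.style.haveILetI false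
set_option maxHeartbeats 1000000

universe u

open CategoryTheory CategoryTheory.Limits AlgebraicGeometry TopologicalSpace Opposite
open Groth.Agent.TwistShriek Groth.Agent.TwistShriek.PointBlow Groth.Agent.CohBase

noncomputable section

namespace Groth.Agent.SurfPtBlow

/-- Over an affine open on which the centre has two generators, the structure sheaf is acyclic. -/
theorem subsingleton_HU_two_charts {X X' : Scheme.{u}} {I : X.IdealSheafData} {b : X' ⟶ X}
    (hb : BlowUp.IsBlowUp b I) (U : X.affineOpens) (a c : Γ(X, U.1)) (hI : I.ideal U = Ideal.span {a, c})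
    (n : ℕ) : Subsingleton (HU (b ⁻¹ᵁ U.1) (Coh.toAb (Coh.structureModule X')) (n + 1)) := by
  classical
  have ha : a ∈ I.ideal U := hI ▸ Ideal.subset_span (Set.mem_insert _ _)
  have hc : c ∈ I.ideal U := hI ▸ Ideal.subset_span (Set.mem_insert_of_mem _ rfl)
  let A := BlowSurfLib.chart hb ha
  let C := BlowSurfLib.chart hb hc
  have hA : IsAffineOpen A := (isAffineOpen_top _).image_of_isOpenImmersion _
  have hC : IsAffineOpen C := (isAffineOpen_top _).image_of_isOpenImmersion _
  have hW : IsAffineOpen (A ⊓ C) := by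
    show IsAffineOpen (BlowSurfLib.both hb ha hc)
    rw [BlowSurfLib.both_eq hb ha hc]
    exact hA.basicOpen _
  have hcov : A ⊔ C = b ⁻¹ᵁ U.1 := by
    refine le_antisymm (sup_le (BlowSurfLib.chart_le hb ha) (BlowSurfLib.chart_le hb hc)) ?_
    rw [← BlowExistsLib.iSup_chartOpen hb (U := U) {a, c} (by rw [Finset.coe_pair, hI])]
    refine iSup_le fun i => ?_
    simp only [A, C, BlowSurfLib.chart_eq]
    rcases Finset.mem_insert.1 i.2 with h | h
    · rw [h]; exact le_sup_left
    · rw [Finset.mem_singleton.1 h]; exact le_sup_right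
  let B : X'.Opens → Prop := fun V => V = A ∨ V = C ∨ V = A ⊓ C
  have hB : ∀ {V}, B V → IsAffineOpen V := fun {V} hV => by
    rcases hV with rfl | rfl | rfl
    exacts [hA, hC, hW]
  have hvan : ∀ {V}, B V → ∀ m, Subsingleton (HU V (Coh.toAb (Coh.structureModule X')) (m + 1)) :=
    fun hV m => affine_vanishing (Coh.structureModule X') (hB hV) m
  rcases n with _ | n
  · rw [← hcov]
    haveI := hvan (V := A) (Or.inl rfl) 0
    haveI := hvan (V := C) (Or.inr (Or.inl rfl)) 0
    refine BlowSurfLib.subsingleton_HU_one_sup _ A C fun s => ?_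
    obtain ⟨p, q, hpq⟩ := BlowSurfLib.exists_add hb ha hc hI s
    refine ⟨p, -q, ?_⟩
    rw [← hpq, map_neg, sub_neg_eq_add]
    rfl
  · have h := subsingleton_HU_iUnion (Coh.toAb (Coh.structureModule X')) B
      (fun {V V'} hV hV' => by
        rcases hV with rfl | rfl | rfl <;> rcases hV' with rfl | rfl | rfl
        exacts [Or.inl (inf_idem _), Or.inr (Or.inr rfl), Or.inr (Or.inr (by rw [← inf_assoc, inf_idem])),
          Or.inr (Or.inr (inf_comm _ _)), Or.inr (Or.inl (inf_idem _)),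
          Or.inr (Or.inr (by rw [inf_comm, inf_assoc, inf_idem])),
          Or.inr (Or.inr (by rw [inf_right_comm, inf_idem])), Or.inr (Or.inr (by rw [inf_assoc, inf_idem])),
          Or.inr (Or.inr (inf_idem _))])
      (fun hV m => hvan hV m) 2 ![A, C]
      (fun i => by fin_cases i <;> first | exact Or.inl rfl | exact Or.inr (Or.inl rfl)) (n + 1 + 1) (by omega)
    rwa [show (⨆ i, (![A, C] : Fin 2 → X'.Opens) i) = b ⁻¹ᵁ U.1 from by
      rw [← hcov]
      exact le_antisymm (iSup_le fun i => by fin_cases i <;> simp)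
        (sup_le (le_iSup (![A, C] : Fin 2 → X'.Opens) 0) (le_iSup (![A, C] : Fin 2 → X'.Opens) 1))] at h

variable {X X' : Scheme.{u}} {x : X} {hx : IsClosed ({x} : Set X)} {π : X' ⟶ X}

/-- The opens over which the blow-up of a point is understood. -/
def GoodOpen (P : PointParams hx) (V : X.Opens) : Prop := IsAffineOpen V ∧ (V ≤ P.U.1 ∨ x ∉ V)

theorem goodOpen_basis (P : PointParams hx) (W : X.Opens) (y : X) (hy : y ∈ W) :
    ∃ V, GoodOpen P V ∧ y ∈ V ∧ V ≤ W := by
  by_cases h : y = x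
  · obtain ⟨_, ⟨V : X.Opens, hV, rfl⟩, hyV, hVW⟩ :=
      X.isBasis_affineOpens.exists_subset_of_mem_open (a := y) (u := ↑(W ⊓ P.U.1)) ⟨hy, h ▸ P.mem⟩ (W ⊓ P.U.1).2
    exact ⟨V, ⟨hV, Or.inl fun z hz => (hVW hz).2⟩, hyV, fun z hz => (hVW hz).1⟩
  · obtain ⟨_, ⟨V : X.Opens, hV, rfl⟩, hyV, hVW⟩ :=
      X.isBasis_affineOpens.exists_subset_of_mem_open (a := y) (u := ↑(W ⊓ ⟨{x}ᶜ, hx.isOpen_compl⟩))
        ⟨hy, h⟩ (W ⊓ ⟨{x}ᶜ, hx.isOpen_compl⟩).2
    exact ⟨V, ⟨hV, Or.inr fun hxV => (hVW hxV).2 rfl⟩, hyV, fun z hz => (hVW hz).1⟩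

/-- The structure sheaf has no higher direct images. -/
theorem pushAcyclic (hb : BlowUp.IsBlowUp π (pointIdeal hx)) (P : PointParams hx) :
    PushAcyclic π.base (GoodOpen P) (Coh.toAb (Coh.structureModule X')) := by
  rintro V ⟨hV, hVx⟩ n
  rcases hVx with hle | hxV
  · refine subsingleton_HU_two_charts hb ⟨V, hV⟩ (X.presheaf.map (homOfLE hle).op (P.f 0))
      (X.presheaf.map (homOfLE hle).op (P.f 1)) ?_ n
    rw [← Scheme.IdealSheafData.map_ideal _ (U := ⟨V, hV⟩) (V := P.U) hle, P.span_eq, Ideal.map_span]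
    rw [show Set.range P.f = {P.f 0, P.f 1} from by
      ext z
      simp [Fin.exists_fin_two, eq_comm], Set.image_pair]
    rfl
  · haveI := isIso_restrict_compl hb V hxV
    haveI : IsAffine (Scheme.Opens.toScheme V) := hV
    have h : IsAffineOpen (π ⁻¹ᵁ V) := IsAffine.of_isIso (π ∣_ V)
    exact affine_vanishing (Coh.structureModule X') h n

/-- The edge maps of the blow-up of a point are bijective. -/
theorem bijective_edgeH (hb : BlowUp.IsBlowUp π (pointIdeal hx)) (P : PointParams hx) (p : ℕ) :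
    Function.Bijective (GenBCLib.edgeH π.base (Coh.toAb (Coh.structureModule X')) p) :=
  GenBCLib.bijective_edgeH π.base (goodOpen_basis P) p (pushAcyclic hb P)

/-- Over opens inside the locus of isomorphism the maps on sections are bijective. -/
theorem bijective_app_of_isIso_restrict {Y Z : Scheme.{u}} (f : Y ⟶ Z) (V : Z.Opens) [IsIso (f ∣_ V)]
    (U : Z.Opens) (hU : U ≤ V) : Function.Bijective (f.app U) := by
  have key : ∀ T : Z.Opens, T = U → Function.Bijective (f.app T) → Function.Bijective (f.app U) := by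
    rintro T rfl h; exact h
  refine key (V.ι ''ᵁ (V.ι ⁻¹ᵁ U)) (by
    rw [Scheme.Hom.image_preimage_eq_opensRange_inf, Scheme.Opens.opensRange_ι, inf_eq_right.2 hU]) ?_
  have h : IsIso ((f ∣_ V).app (V.ι ⁻¹ᵁ U)) := inferInstance
  rw [morphismRestrict_app] at h
  haveI := h
  haveI : IsIso (f.app (V.ι ''ᵁ (V.ι ⁻¹ᵁ U))) := IsIso.of_isIso_comp_right _ (Y.presheaf.map (eqToHom (image_morphismRestrict_preimage f V (V.ι ⁻¹ᵁ U))).op)
  exact ConcreteCategory.bijective_of_isIso _

/-- Sections of a proper birational morphism onto a normal scheme. -/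
theorem bijective_app_of_normal_or_iso {Y Z : Scheme.{u}} [IsIntegral Y] [IsIntegral Z] (f : Y ⟶ Z) [IsProper f]
    (hbir : ∃ V : Z.Opens, (V : Set Z).Nonempty ∧ IsIso (f ∣_ V))
    (hn : ∀ z : Z, IsIntegrallyClosed (Z.presheaf.stalk z) ∨ ∃ V : Z.Opens, z ∈ V ∧ IsIso (f ∣_ V))
    (O : Z.Opens) : Function.Bijective (f.app O) := by
  obtain ⟨V₀, hV₀, hiso⟩ := hbir
  obtain ⟨hgen, hst⟩ := BirQFLib.birational_of_isIso_restrict f V₀ hV₀ hiso
  refine ParaFPullLib.bijective_app_of_small_affine f (fun W => IsAffineOpen W ∧ (W : Set Z).Nonempty) ?_ ?_ O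
  · intro O t ht
    obtain ⟨_, ⟨W : Z.Opens, hW, rfl⟩, htW, hWO⟩ :=
      Z.isBasis_affineOpens.exists_subset_of_mem_open (a := t) ht O.2
    exact ⟨W, ⟨hW, t, htW⟩, htW, hWO⟩
  rintro W ⟨hW, hne⟩
  haveI : Nonempty W := ⟨⟨hne.some, hne.some_mem⟩⟩
  have hηW : genericPoint Z ∈ W := (genericPoint_specializes hne.some).mem_open W.2 hne.some_mem
  haveI : Nonempty (f ⁻¹ᵁ W) := ⟨⟨genericPoint Y, show f (genericPoint Y) ∈ W from hgen.symm ▸ hηW⟩⟩
  have hinj : Function.Injective (f.app W) := by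
    intro a a' h
    apply Z.germToFunctionField_injective W
    haveI : IsIso (Z.presheaf.stalkSpecializes (specializes_of_eq hgen)) :=
      ⟨Z.presheaf.stalkSpecializes (specializes_of_eq hgen.symm), by simp, by simp⟩
    have hb' := (ConcreteCategory.bijective_of_isIso
      (Z.presheaf.stalkSpecializes (specializes_of_eq hgen) ≫ f.stalkMap (genericPoint Y))).1
    apply hb'
    show f.stalkMap _ (Z.presheaf.stalkSpecializes _ (Z.presheaf.germ W (genericPoint Z) hηW a)) =
      f.stalkMap _ (Z.presheaf.stalkSpecializes _ (Z.presheaf.germ W (genericPoint Z) hηW a'))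
    rw [TopCat.Presheaf.germ_stalkSpecializes_apply, TopCat.Presheaf.germ_stalkSpecializes_apply,
      Scheme.Hom.germ_stalkMap_apply, Scheme.Hom.germ_stalkMap_apply, h]
  refine ⟨hinj, fun b => ?_⟩
  have hint : (f.app W).hom.IsIntegralElem b := by
    haveI : IsAffine W.toScheme := hW
    haveI : UniversallyClosed (f ∣_ W) := inferInstance
    have h1 := isIntegral_appTop_of_universallyClosed (f ∣_ W)
    have e : (f.app W) = (W.topIso.inv ≫ (f ∣_ W).appTop ≫ (f ⁻¹ᵁ W).topIso.hom) := by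
      simp [Scheme.Opens.topIso, Scheme.Hom.app_eq_appLE, morphismRestrict_appLE, Scheme.Hom.map_appLE]
    rw [e]
    exact (RingHom.IsIntegral.trans _ _ (RingHom.isIntegral_of_surjective _
      (ConcreteCategory.bijective_of_isIso W.topIso.inv).2) (RingHom.IsIntegral.trans _ _ h1
        (RingHom.isIntegral_of_surjective _ (ConcreteCategory.bijective_of_isIso (f ⁻¹ᵁ W).topIso.hom).2))) b
  let J : Ideal Γ(Z, W) :=
    { carrier := {s | ∃ a, f.app W s * b = f.app W a}
      add_mem' := fun {s t} ⟨a, ha⟩ ⟨a', ha'⟩ => ⟨a + a', by rw [map_add, map_add, add_mul, ha, ha']⟩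
      zero_mem' := ⟨0, by rw [map_zero, zero_mul]⟩
      smul_mem' := fun r s ⟨a, ha⟩ => ⟨r * a, by rw [smul_eq_mul, map_mul, map_mul, mul_assoc, ha]⟩ }
  have hJ : J = ⊤ := by
    by_contra h
    obtain ⟨M, hM, hJM⟩ := Ideal.exists_le_maximal J h
    let y := hW.fromSpec ⟨M, hM.isPrime⟩
    have hy : y ∈ W := hW.range_fromSpec.le ⟨_, rfl⟩
    obtain ⟨a, s, hs, he⟩ : ∃ a s : Γ(Z, W), y ∈ Z.basicOpen s ∧ f.app W s * b = f.app W a := by
      rcases hn y with hn | ⟨V, hyV, hV⟩
      · exact BirQFLib.exists_mul_eq f hgen hst hW y hy hn b hint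
      haveI := hV
      obtain ⟨s, hsV, hys⟩ := hW.exists_basicOpen_le ⟨y, hyV⟩ hy
      obtain ⟨a', ha'⟩ := (bijective_app_of_isIso_restrict f V (Z.basicOpen s) hsV).2
        (Y.presheaf.map (homOfLE (f.preimage_mono (Z.basicOpen_le s))).op b)
      haveI := hW.isLocalization_basicOpen s
      obtain ⟨⟨a, ⟨_, m, rfl⟩⟩, hm⟩ := IsLocalization.surj (Submonoid.powers s) a'
      refine ⟨s * a, s ^ (m + 1), ?_, ?_⟩
      · rw [Z.basicOpen_pow]; exact hys
        exact Nat.succ_pos m
      have key : f.app W (s ^ m) * b = f.app W a := by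
        haveI : Nonempty (f ⁻¹ᵁ Z.basicOpen s) := by
          have hηs : genericPoint Z ∈ Z.basicOpen s := (genericPoint_specializes y).mem_open (Z.basicOpen s).2 hys
          exact ⟨⟨genericPoint Y, show f (genericPoint Y) ∈ Z.basicOpen s from hgen.symm ▸ hηs⟩⟩
        apply AlgebraicGeometry.map_injective_of_isIntegral Y (homOfLE (f.preimage_mono (Z.basicOpen_le s)))
        have hnat : ∀ c : Γ(Z, W), Y.presheaf.map (homOfLE (f.preimage_mono (Z.basicOpen_le s))).op (f.app W c) =
            f.app (Z.basicOpen s) (Z.presheaf.map (homOfLE (Z.basicOpen_le s)).op c) := fun c =>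
          (ConcreteCategory.congr_hom (f.naturality (homOfLE (Z.basicOpen_le s)).op) c).symm
        rw [map_mul, hnat, hnat, ← ha', ← map_mul]
        refine congrArg _ ?_
        rw [mul_comm]
        exact hm
      rw [pow_succ', map_mul, map_mul, mul_assoc, key]
    have h2 : s ∈ M := hJM ⟨a, he⟩
    have h3 : (⟨M, hM.isPrime⟩ : PrimeSpectrum Γ(Z, W)) ∈ PrimeSpectrum.basicOpen s := by
      rw [← hW.fromSpec_preimage_basicOpen s]
      exact hs
    exact h3 h2
  obtain ⟨a, ha⟩ := (hJ ▸ Submodule.mem_top : (1 : Γ(Z, W)) ∈ J)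
  exact ⟨a, by rw [← ha, map_one, one_mul]⟩

/-- Sections of a proper birational morphism onto a normal scheme. -/
theorem bijective_app_of_normal {Y Z : Scheme.{u}} [IsIntegral Y] [IsIntegral Z] (f : Y ⟶ Z) [IsProper f]
    (hbir : ∃ V : Z.Opens, (V : Set Z).Nonempty ∧ IsIso (f ∣_ V))
    (hn : ∀ z : Z, IsIntegrallyClosed (Z.presheaf.stalk z)) (O : Z.Opens) : Function.Bijective (f.app O) :=
  bijective_app_of_normal_or_iso f hbir (fun z => Or.inl (hn z)) O

/-- `O_Z = f_* O_Y` for a proper birational morphism onto a normal scheme. -/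
theorem isIso_unitToPush {Y Z : Scheme.{u}} [IsIntegral Y] [IsIntegral Z] (f : Y ⟶ Z) [IsProper f]
    (hbir : ∃ V : Z.Opens, (V : Set Z).Nonempty ∧ IsIso (f ∣_ V))
    (hn : ∀ z : Z, IsIntegrallyClosed (Z.presheaf.stalk z)) : IsIso (ClSub.unitToPush f) := by
  refine Scheme.Modules.Hom.isIso_iff_isIso_app.2 fun O => (ConcreteCategory.isIso_iff_bijective _).2 ?_
  exact bijective_app_of_normal f hbir hn O

/-- The first edge map is injective. -/
theorem injective_edgeH_one {X Y : TopCat.{u}} (g : X ⟶ Y) (G : CohTop.Ab X) :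
    Function.Injective (GenBCLib.edgeH g G 1) := by
  haveI : PreservesFiniteLimits (CohTop.push g) :=
    haveI : PreservesLimitsOfSize.{0, 0} (CohTop.push g) :=
      (TopCat.Sheaf.pullbackPushforwardAdjunction AddCommGrpCat.{u} g).rightAdjoint_preservesLimits
    inferInstance
  let S := injSeq G
  have hS : S.ShortExact := injSeq_shortExact G
  haveI := hS.mono_f
  let F := CohTop.push g
  have hex : (S.map F).Exact := ShortComplex.exact_of_f_is_kernel _ (isLimitForkMapOfIsLimit' F S.zero hS.fIsKernel)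
  haveI : Mono (S.map F).f := inferInstanceAs (Mono (F.map S.f))
  let S' : ShortComplex (CohTop.Ab Y) := ShortComplex.mk (F.map S.f) (cokernel.π (F.map S.f)) (cokernel.condition _)
  have hS' : S'.ShortExact := ShortComplex.ShortExact.mk' (ShortComplex.exact_cokernel _) inferInstance inferInstance
  let m : S'.X₃ ⟶ F.obj S.X₃ := cokernel.desc (F.map S.f) (F.map S.g) (S.map F).zero
  haveI : Mono m := hex.mono_cokernelDesc
  have key : ∀ w : Sheaf.H S'.X₃ 0,
      GenBCLib.edgeH g S.X₁ 1 (w.comp hS'.extClass rfl) = (GenBCLib.pullH g m 0 w).comp hS.extClass rfl :=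
    fun w => GenBCLib.pullH_delta g hS' hS (𝟙 _) (𝟙 _) m ((Category.id_comp _).trans (Category.comp_id _).symm)
      ((Category.id_comp _).trans (cokernel.π_desc _ _ _).symm) 0 w
  refine (injective_iff_map_eq_zero _).2 fun x hx => ?_
  haveI : Subsingleton (Sheaf.H (F.obj S.X₂) 1) :=
    haveI := push_injective_acyclic g S.X₂ ⊤ 0
    (HEquiv (X := Y) ((pushS g).obj S.X₂) 1).injective.subsingleton
  obtain ⟨w, rfl⟩ : ∃ w : Sheaf.H S'.X₃ 0, w.comp hS'.extClass rfl = x :=
    Abelian.Ext.covariant_sequence_exact₁ _ hS' x (@Subsingleton.elim (Sheaf.H (F.obj S.X₂) 1) _ _ _) rfl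
  obtain ⟨z, hz⟩ := Abelian.Ext.covariant_sequence_exact₃ _ hS (GenBCLib.pullH g m 0 w) rfl ((key w).symm.trans hx)
  obtain ⟨z', rfl⟩ := (GenBCLib.bijective_edgeH_zero g S.X₂).2 z
  have e : ∀ v : Sheaf.H S'.X₃ 0, GenBCLib.pullH g m 0 v = GenBCLib.edgeH g S.X₃ 0 (Sheaf.H.map m 0 v) := fun v => by
    rw [GenBCLib.edgeH, GenBCLib.map_pullH, Category.comp_id]
  have hw : Sheaf.H.map (F.map S.g) 0 z' = Sheaf.H.map m 0 w := (GenBCLib.bijective_edgeH_zero g S.X₃).1 (by
    rw [GenBCLib.edgeH_map, ← e]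
    exact hz)
  have hinj : Function.Injective (Sheaf.H.map m 0) := fun v v' h => by
    have h1 := congrArg Abelian.Ext.addEquiv₀ h
    rw [Sheaf.H.addEquiv₀_map, Sheaf.H.addEquiv₀_map, cancel_mono] at h1
    exact Abelian.Ext.addEquiv₀.injective h1
  have hw' : Sheaf.H.map S'.g 0 z' = w := hinj (by
    rw [← hw, ← Sheaf.H.map_comp_apply]
    exact congrArg (fun k => Sheaf.H.map k 0 z') (cokernel.π_desc _ _ _))
  rw [← hw']
  exact Abelian.Ext.comp_assoc_of_second_deg_zero _ _ _ _ |>.trans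
    ((congrArg (fun t => Abelian.Ext.comp z' t (by omega)) hS'.comp_extClass).trans (Abelian.Ext.comp_zero ..))

end Groth.Agent.SurfPtBlow
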