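import Groth.Agent.SurfPtBlow.Principal
import Groth.Agent.S4362
import Groth.Agent.S1684
import Groth.Agent.AmpleFactLib.Main
import Groth.Agent.CurveLib.Components

/-!
# The divisorial part of an ideal on a regular surface
-/

set_option autoImplicit false
set_option backward.isDefEq.respectTransparency false
set_option linter.style.haveILetI false
set_option maxHeartbeats 1000000

universe u

open CategoryTheory CategoryTheory.Limits AlgebraicGeometry TopologicalSpace
open Groth.Agent.TwistShriek Groth.Agent.TwistShriek.PointBlow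

noncomputable section

namespace Groth.Agent.SurfPtBlow

variable {X : Scheme.{u}}

theorem eq_bot_of_stalkIdeal_eq_bot [IsIntegral X] {I : X.IdealSheafData} {x : X}
    (h : IntMult.stalkIdeal I x = ⊥) : I = ⊥ := by
  have key : ∀ (U : X.affineOpens) (y : X), y ∈ U.1 → IntMult.stalkIdeal I y = ⊥ → I.ideal U = ⊥ := fun U y hy hy0 => by
    rw [IdealStalkLib.stalkIdeal_eq I U y hy, Ideal.map_eq_bot_iff_le_ker] at hy0
    exact le_bot_iff.1 (hy0.trans ((RingHom.injective_iff_ker_eq_bot _).1 (germ_injective_of_isIntegral X y hy)).le)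
  obtain ⟨_, ⟨U : X.Opens, hU, rfl⟩, hxU, -⟩ := X.isBasis_affineOpens.exists_subset_of_mem_open (Set.mem_univ x) isOpen_univ
  have hgen : IntMult.stalkIdeal I (genericPoint X) = ⊥ := by
    have hη : genericPoint X ∈ U := (genericPoint_specializes x).mem_open U.2 hxU
    rw [IdealStalkLib.stalkIdeal_eq I ⟨U, hU⟩ _ hη, key ⟨U, hU⟩ x hxU h, Ideal.map_bot]
  refine Scheme.IdealSheafData.ext (funext fun V => ?_)
  rw [Scheme.IdealSheafData.ideal_bot]
  by_cases hne : (V.1 : Set X).Nonempty
  · obtain ⟨v, hv⟩ := hne
    exact key V _ ((genericPoint_specializes v).mem_open V.1.2 hv) hgen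
  · haveI : Subsingleton Γ(X, V.1) := by
      have : V.1 = ⊥ := TopologicalSpace.Opens.ext (Set.not_nonempty_iff_eq_empty.1 hne)
      rw [this]; infer_instance
    exact Subsingleton.elim _ _

/-- The ideal of a point of codimension one on a regular scheme is effective Cartier. -/
theorem isEffCartier_closure [IsLocallyNoetherian X] (hreg : ∀ x : X, IsRegularLocalRing (X.presheaf.stalk x)) (η : X)
    (h1 : Order.coheight η = 1) :
    BlowUp.IsEffCartierIdeal (Scheme.IdealSheafData.vanishingIdeal (⟨closure {η}, isClosed_closure⟩ : Closeds X)) := by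
  let C := Scheme.IdealSheafData.vanishingIdeal (⟨closure {η}, isClosed_closure⟩ : Closeds X)
  haveI : IsIntegral C.subscheme := CurveLib.isIntegral_vanishingIdeal isClosed_closure isIrreducible_singleton.closure
  have hs : Set.range C.subschemeι = closure {η} := by
    rw [Scheme.IdealSheafData.range_subschemeι, Scheme.IdealSheafData.coe_support_vanishingIdeal]; rfl
  have hgen : C.subschemeι (genericPoint C.subscheme) = η := by
    obtain ⟨w, hw⟩ : η ∈ Set.range C.subschemeι := hs ▸ subset_closure rfl
    have h2 : C.subschemeι (genericPoint C.subscheme) ⤳ η := hw ▸ (genericPoint_specializes w).map C.subschemeι.continuous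
    have h3 : η ⤳ C.subschemeι (genericPoint C.subscheme) := specializes_iff_mem_closure.2 (hs ▸ ⟨_, rfl⟩)
    exact (h2.antisymm h3).eq
  refine S1684.result X C ?_ fun x _ => ?_
  · rw [ringKrullDim_stalk_eq_coheight, hgen, h1]; rfl
  · exact ⟨(AmpleFactLib.factorial_of_regular X hreg).1 x, (AmpleFactLib.factorial_of_regular X hreg).2 x⟩

/-- An ideal on a regular surface is a Cartier ideal times an ideal with finite support. -/
theorem exists_cartier_mul [IsIntegral X] [IsNoetherian X] (hreg : ∀ x : X, IsRegularLocalRing (X.presheaf.stalk x))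
    (hdim : topologicalKrullDim X ≤ 2) (I : X.IdealSheafData) (hI : I ≠ ⊥) :
    ∃ D K : X.IdealSheafData, BlowUp.IsEffCartierIdeal D ∧ I = K * D ∧ (K.support : Set X).Finite ∧
      ∀ x ∈ K.support, IsRegPt x := by
  haveI := S4362.result X
  induction I using (WellFoundedGT.induction (α := X.IdealSheafData)) with
  | _ I ih =>
  by_cases hex : ∃ η ∈ I.support, Order.coheight η = 1
  · obtain ⟨η, hη, h1⟩ := hex
    let C := Scheme.IdealSheafData.vanishingIdeal (⟨closure {η}, isClosed_closure⟩ : Closeds X)
    have hC := isEffCartier_closure hreg η h1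
    have hle : I ≤ C := Scheme.IdealSheafData.le_support_iff_le_vanishingIdeal.1
      (show closure {η} ⊆ (I.support : Set X) from closure_minimal (Set.singleton_subset_iff.2 hη) I.support.isClosed)
    obtain ⟨I', hI'⟩ := exists_eq_mul hC hle
    have hlt : I < I' := by
      refine lt_of_le_of_ne ?_ fun h => hI ?_
      · refine DivisorialLib.le_of_stalk fun y => ?_
        rw [hI', DivisorialLib.stalkIdeal_mul]
        exact (Ideal.mul_le_inf.trans inf_le_left : IntMult.stalkIdeal I' y * IntMult.stalkIdeal C y ≤ IntMult.stalkIdeal I' y)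
      · have hm : IntMult.stalkIdeal C η ≤ IsLocalRing.maximalIdeal (X.presheaf.stalk η) :=
          IdealStalkLib.stalkIdeal_le_maximal C (by
            rw [← SetLike.mem_coe, Scheme.IdealSheafData.coe_support_vanishingIdeal]; exact subset_closure rfl)
        have h2 : IntMult.stalkIdeal I η ≤ IsLocalRing.maximalIdeal (X.presheaf.stalk η) • IntMult.stalkIdeal I η := by
          conv_lhs => rw [hI', ← h, DivisorialLib.stalkIdeal_mul, mul_comm]
          exact Ideal.mul_mono_left hm
        exact eq_bot_of_stalkIdeal_eq_bot (Submodule.eq_bot_of_le_smul_of_le_jacobson_bot _ _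
          (IsNoetherian.noetherian _) h2 (IsLocalRing.maximalIdeal_le_jacobson ⊥))
    obtain ⟨D, K, hD, hK, hfin, hpts⟩ := ih I' hlt (ne_bot_of_gt hlt)
    exact ⟨D * C, K, BlowCompLib.isEffCartier_mul hD hC, by rw [hI', hK, mul_assoc], hfin, hpts⟩
  push_neg at hex
  have hgen : genericPoint X ∉ I.support := fun h => hI (eq_bot_of_stalkIdeal_eq_bot (x := genericPoint X) (by
    by_contra hne
    exact (IdealStalkLib.stalkIdeal_le_maximal I h).not_gt (by
      have hF : IsField (X.presheaf.stalk (genericPoint X)) := Field.toIsField X.functionField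
      rw [IsLocalRing.isField_iff_maximalIdeal_eq.1 hF]
      exact bot_lt_iff_ne_bot.2 hne)))
  have hco : ∀ x ∈ I.support, Order.coheight x = 2 := fun x hx => by
    have hle : Order.coheight x ≤ 2 := by
      have h0 : Order.krullDim X ≤ 2 := by rw [← ASp.topologicalKrullDim_eq_krullDim]; exact hdim
      have h := (Order.coheight_le_krullDim x).trans h0
      exact WithBot.coe_le_coe.1 (h.trans_eq rfl)
    have h0 : Order.coheight x ≠ 0 := fun h => hgen (by
      have : genericPoint X = x := ((genericPoint_specializes x).antisymm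
        (Scheme.le_iff_specializes.1 ((Order.coheight_eq_zero.1 h) (Scheme.le_iff_specializes.2 (genericPoint_specializes x))))).eq
      exact this ▸ hx)
    have h1 := hex x hx
    revert hle h0 h1
    cases Order.coheight x with
    | top => intro h; simp at h
    | coe n => intro hle h0 h1; norm_cast at hle h0 h1 ⊢; omega
  have hclosed : ∀ x ∈ I.support, IsClosed ({x} : Set X) := fun x hx => by
    rw [← closure_subset_iff_isClosed]
    intro z hz
    by_contra hne
    have hsp : x ⤳ z := specializes_iff_mem_closure.2 hz
    have hlt : z < x := lt_of_le_not_ge (Scheme.le_iff_specializes.2 hsp) fun h =>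
      hne ((Scheme.le_iff_specializes.1 h).antisymm hsp).eq
    have h3 := Order.coheight_add_one_le hlt
    rw [hco x hx] at h3
    have := hco z (hsp.mem_closed I.support.isClosed hx)
    rw [this] at h3
    exact absurd h3 (by norm_num)
  refine ⟨⊤, I, BlowCompLib.isEffCartier_top, (mul_one I).symm, ?_, fun x hx => ⟨hclosed x hx, hreg x, ?_⟩⟩
  · haveI : NoetherianSpace X := inferInstance
    obtain ⟨S, hS, hSc, hSi, hSe⟩ := NoetherianSpace.exists_finite_set_isClosed_irreducible (α := X) I.support.isClosed
    rw [hSe]
    refine hS.sUnion fun T hT => Set.Subsingleton.finite fun a ha b hb => ?_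
    have hTi := hSi T hT
    have hTc := hSc T hT
    have hTI : T ⊆ (I.support : Set X) := hSe ▸ Set.subset_sUnion_of_mem hT
    obtain ⟨g, hg⟩ := QuasiSober.sober hTi hTc
    have hgc := hclosed g (hTI hg.mem)
    have hT1 : T = {g} := by rw [← hg.def, hgc.closure_eq]
    rw [hT1] at ha hb
    exact ha.trans hb.symm
  · rw [ringKrullDim_stalk_eq_coheight, hco x hx]; rfl

end Groth.Agent.SurfPtBlow
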