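import Groth.Agent.SurfPtBlow.PtSeq

/-!
# Principalisation of ideals by blowing up points
-/

set_option autoImplicit false
set_option backward.isDefEq.respectTransparency false
set_option linter.style.haveILetI false
set_option maxHeartbeats 1000000

universe u

open CategoryTheory CategoryTheory.Limits AlgebraicGeometry TopologicalSpace
open Groth.Agent.TwistShriek Groth.Agent.TwistShriek.PointBlow

noncomputable section

namespace Groth.Agent.SurfPtBlow

/-- A point good for principalisation. -/
def IsRegPt {X : Scheme.{u}} (x : X) : Prop :=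
  IsClosed ({x} : Set X) ∧ IsRegularLocalRing (X.presheaf.stalk x) ∧ ringKrullDim (X.presheaf.stalk x) = 2

/-- The result of principalising an ideal by a sequence of point blow-ups. -/
def Principalised {X : Scheme.{u}} (I : X.IdealSheafData) : Prop :=
  ∃ (X' : Scheme.{u}) (g : X' ⟶ X), IsNoetherian X' ∧ PtSeq g ∧
    (∀ U : X.Opens, (∀ x ∈ U, x ∉ I.support) → IsIso (g ∣_ U)) ∧
    BlowUp.IsEffCartierIdeal (I.comap g) ∧
    ∀ D : X.IdealSheafData, BlowUp.IsEffCartierIdeal D → BlowUp.IsEffCartierIdeal (D.comap g)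

theorem principalised_of_cartier {X : Scheme.{u}} [IsNoetherian X] (I : X.IdealSheafData)
    (hI : BlowUp.IsEffCartierIdeal I) : Principalised I :=
  ⟨X, 𝟙 X, ‹_›, .refl X, fun U _ => inferInstance,
    by rw [Scheme.IdealSheafData.comap_id]; exact hI, fun D hD => by rw [Scheme.IdealSheafData.comap_id]; exact hD⟩

/-- One step of principalisation. -/
theorem principalised_step {X : Scheme.{u}} [IsNoetherian X] (I : X.IdealSheafData) {x : X} (hxI : x ∈ I.support)
    (hxr : IsRegPt x) (hfin : colen I x ≠ ⊤) (hsupp : (I.support : Set X).Finite) (hpts : ∀ y ∈ I.support, IsRegPt y)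
    (next : ∀ {X' : Scheme.{u}} [IsNoetherian X'] (π : X' ⟶ X) (K : X'.IdealSheafData),
      (K.support : Set X').Finite → (∀ y ∈ K.support, IsRegPt y) →
      (∀ y ∈ K.support, π y ≠ x → colen K y = colen I (π y) ∧ ∀ z, π z = π y → z = y) →
      (∀ y ∈ K.support, π y = x → colen K y < colen I x) → (∀ y ∈ K.support, π y ∈ I.support) → Principalised K) :
    Principalised I := by
  classical
  obtain ⟨hx, hreg, hd⟩ := hxr
  obtain ⟨P⟩ := exists_pointParams hx hreg hd
  obtain ⟨X', π, hb⟩ := BlowExistsLib.exists_isBlowUp (pointIdeal hx)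
  haveI := isNoetherian_blowUp hb
  haveI := hreg
  let m := IsLocalRing.maximalIdeal (X.presheaf.stalk x)
  obtain ⟨N, hN⟩ := exists_pow_le_of_colen_ne_top I x hfin
  have hlast : ¬ IntMult.stalkIdeal I x ≤ m ^ (N + 1) := fun h => by
    have h1 : m ^ N ≤ m • m ^ N := by
      rw [smul_eq_mul, ← pow_succ']
      exact hN.trans h
    have h2 := Submodule.eq_bot_of_le_smul_of_le_jacobson_bot m (m ^ N) (IsNoetherian.noetherian _) h1
      (IsLocalRing.maximalIdeal_le_jacobson ⊥)
    haveI := RegLocal.isDomain (X.presheaf.stalk x)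
    have h3 : m = ⊥ := eq_zero_of_pow_eq_zero h2
    have h4 := ringKrullDim_eq_zero_of_isField (IsLocalRing.isField_iff_maximalIdeal_eq.2 h3)
    rw [hd] at h4
    exact absurd h4 (by norm_num)
  have hex : ∃ e, ¬ IntMult.stalkIdeal I x ≤ m ^ (e + 1) := ⟨N, hlast⟩
  let d := Nat.find hex
  have hd' : ¬ IntMult.stalkIdeal I x ≤ m ^ (d + 1) := Nat.find_spec hex
  have hd1 : 1 ≤ d := by
    refine Nat.one_le_iff_ne_zero.2 fun h => hd' ?_
    rw [h, zero_add, pow_one]
    exact IdealStalkLib.stalkIdeal_le_maximal I hxI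
  have hdle : IntMult.stalkIdeal I x ≤ m ^ d := by
    have h := Nat.find_min hex (show d - 1 < d by omega)
    rw [not_not, Nat.sub_add_cancel hd1] at h
    exact h
  have hle : I ≤ pointIdeal hx ^ d := DivisorialLib.le_of_stalk fun y => by
    rw [InfNbhdLib.stalkIdeal_pow]
    by_cases hy : y = x
    · subst hy
      rw [IdealStalkLib.stalkIdeal_eq (pointIdeal hx) P.U y P.mem,
        CurveP1Lib.map_vanishingIdeal_singleton hx P.U P.mem]
      exact hdle
    · rw [(stalkIdeal_eq_top_iff (pointIdeal hx) y).2 (fun h => hy (by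
        have h1 : y ∈ ((pointIdeal hx).support : Set X) := h
        rwa [Scheme.IdealSheafData.coe_support_vanishingIdeal] at h1)), Ideal.top_pow]
      exact le_top
  have hEd : BlowUp.IsEffCartierIdeal (BlowUp.exceptional π (pointIdeal hx) ^ d) := by
    clear_value d
    clear hle hdle hd1 hd'
    induction d with
    | zero => rw [pow_zero]; exact BlowCompLib.isEffCartier_top
    | succ e ihe => rw [pow_succ]; exact BlowCompLib.isEffCartier_mul ihe hb.1
  obtain ⟨K, hK⟩ := exists_eq_mul hEd (D := I.comap π) (by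
    rw [BlowUp.exceptional, ← comap_pow']
    exact (Scheme.IdealSheafData.comap_mono π) hle)
  obtain ⟨hKfin, hKpts⟩ := blowUp_drop hb P I K d hd1 hfin hdle hd' hK
  have hKI : ∀ y ∈ K.support, π y ∈ I.support := fun y hy => by
    by_cases h : π y = x
    · exact h ▸ hxI
    · exact ((off_point hb I K d hK y h).2.1).1 hy
  have hKreg : ∀ y ∈ K.support, IsRegPt y := fun y hy => by
    by_cases h : π y = x
    · obtain ⟨h1, h2, h3, -⟩ := hKpts y h hy
      exact ⟨h1, h2, h3⟩
    · obtain ⟨-, -, e, hinj⟩ := off_point hb I K d hK y h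
      obtain ⟨hc, hr, hdim⟩ := hpts _ (hKI y hy)
      haveI := hr
      refine ⟨?_, IsRegularLocalRing.of_ringEquiv e, (ringKrullDim_eq_of_ringEquiv e.symm).trans hdim⟩
      have : ({y} : Set X') = π ⁻¹' {π y} := by
        ext z
        exact ⟨fun hz => congrArg π (hz : z = y), fun hz => hinj z hz⟩
      rw [this]
      exact hc.preimage π.continuous
  have hKfin' : (K.support : Set X').Finite := by
    have hpre : ∀ z ∈ (I.support : Set X), {y | π y = z ∧ π y ≠ x}.Finite := fun z _ => by
      refine Set.Subsingleton.finite ?_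
      rintro y ⟨hy, hyx⟩ y' ⟨hy', -⟩
      obtain ⟨-, -, -, hinj⟩ := off_point hb I K d hK y hyx
      exact (hinj y' (hy'.trans hy.symm)).symm
    refine (hKfin.union (hsupp.biUnion hpre)).subset fun y hy => ?_
    by_cases h : π y = x
    · exact Or.inl ⟨h, hy⟩
    · exact Or.inr (Set.mem_biUnion (hKI y hy) ⟨rfl, h⟩)
  obtain ⟨X'', g, hX'', hseq, hiso, hcart, hpull⟩ := next π K hKfin' hKreg
    (fun y hy h => ⟨(off_point hb I K d hK y h).1, (off_point hb I K d hK y h).2.2.choose_spec⟩)
    (fun y hy h => (hKpts y h hy).2.2.2) hKI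
  refine ⟨X'', g ≫ π, hX'', ?_, fun U hU => ?_, ?_, fun D hD => ?_⟩
  · exact hseq.comp (PtSeq.single π x hx hreg hd hb)
  · rw [morphismRestrict_comp]
    haveI := isIso_restrict_compl hb U fun h => hU x h hxI
    haveI := hiso (π ⁻¹ᵁ U) fun y hy hyK => hU (π y) hy (hKI y hyK)
    infer_instance
  · rw [Scheme.IdealSheafData.comap_comp, hK, BlowCompLib.comap_mul]
    exact BlowCompLib.isEffCartier_mul hcart (hpull _ hEd)
  · rw [Scheme.IdealSheafData.comap_comp]
    exact hpull _ (isEffCartier_comap hb hD)

/-- **Principalisation**: an ideal supported at finitely many regular points of dimension two becomes invertible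
after finitely many blow-ups of points. -/
theorem principalised : ∀ {X : Scheme.{u}} [IsNoetherian X] (I : X.IdealSheafData), (I.support : Set X).Finite →
    (∀ x ∈ I.support, IsRegPt x) → Principalised I := by
  suffices key : ∀ (n : ℕ) {X : Scheme.{u}} [IsNoetherian X] (I : X.IdealSheafData), (I.support : Set X).Finite →
      (∀ x ∈ I.support, IsRegPt x) → (∀ x ∈ I.support, colen I x < n) → Principalised I by
    intro X _ I hfin hpts
    have hlt : ∀ x ∈ I.support, colen I x ≠ ⊤ := fun x hx => colen_ne_top_of_isolated I fun y hy hyI => by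
      exact (((hpts y hyI).1.closure_eq.symm ▸ hy.mem_closure : x ∈ ({y} : Set X)) : x = y).symm
    refine key ((hfin.toFinset.sup fun x => (colen I x).toNat) + 1) I hfin hpts fun x hx => ?_
    rw [← ENat.natCast_toNat (hlt x hx)]
    exact_mod_cast Nat.lt_succ_of_le (Finset.le_sup (f := fun x => (colen I x).toNat) (hfin.mem_toFinset.2 hx))
  intro n
  induction n with
  | zero =>
    intro X _ I _ _ h
    refine principalised_of_cartier I ?_
    have : I = ⊤ := (Scheme.IdealSheafData.support_eq_bot_iff I).1 (SetLike.ext' (Set.eq_empty_iff_forall_notMem.2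
      fun x hx => absurd (h x hx) (by simp)))
    rw [this]
    exact BlowCompLib.isEffCartier_top
  | succ n ih =>
    suffices key : ∀ (c : ℕ) {X : Scheme.{u}} [IsNoetherian X] (I : X.IdealSheafData), (I.support : Set X).Finite →
        (∀ x ∈ I.support, IsRegPt x) → (∀ x ∈ I.support, colen I x < (n + 1 : ℕ)) →
        ({x | x ∈ I.support ∧ colen I x = n}).ncard ≤ c → Principalised I by
      intro X _ I h1 h2 h3
      exact key _ I h1 h2 h3 le_rfl
    intro c
    induction c with
    | zero =>
      intro X _ I hfin hpts hlt hc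
      refine ih I hfin hpts fun x hx => lt_of_le_of_ne ?_ fun h => ?_
      · exact Order.le_of_lt_succ (by simpa using hlt x hx)
      · have h0 : {x | x ∈ I.support ∧ colen I x = n} = ∅ :=
          (Set.ncard_eq_zero (hfin.subset fun _ h => h.1)).1 (Nat.le_zero.1 hc)
        exact Set.eq_empty_iff_forall_notMem.1 h0 x ⟨hx, h⟩
    | succ c ihc =>
      intro X _ I hfin hpts hlt hc
      by_cases hbad : {x | x ∈ I.support ∧ colen I x = n} = ∅
      · exact ihc I hfin hpts hlt (by simp [hbad])
      obtain ⟨x, hxI, hxn⟩ := Set.nonempty_iff_ne_empty.2 hbad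
      refine principalised_step I hxI (hpts x hxI) (hlt x hxI).ne_top hfin hpts
        fun {X'} _ π K hKfin hKreg hoff hon hKI => ?_
      refine ihc K hKfin hKreg (fun y hy => ?_) ?_
      · by_cases h : π y = x
        · exact (hon y hy h).trans (hlt x hxI)
        · rw [(hoff y hy h).1]; exact hlt _ (hKI y hy)
      · have hne : ∀ y ∈ K.support, colen K y = n → π y ≠ x := fun y hy hyn h => by
          have := hon y hy h
          rw [hyn, hxn] at this
          exact lt_irrefl _ this
        refine le_trans (Set.ncard_le_ncard_of_injOn (t := {z | z ∈ I.support ∧ colen I z = n} \ {x}) π ?_ ?_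
          (((hfin.subset fun _ h => h.1) : {z | z ∈ I.support ∧ colen I z = n}.Finite).subset Set.sdiff_subset)) ?_
        · rintro y ⟨hy, hyn⟩
          exact ⟨⟨hKI y hy, ((hoff y hy (hne y hy hyn)).1).symm.trans hyn⟩, hne y hy hyn⟩
        · rintro y ⟨hy, hyn⟩ z ⟨hz, hzn⟩ hyz
          exact ((hoff y hy (hne y hy hyn)).2 z hyz.symm).symm
        · rw [Set.ncard_sdiff_singleton_of_mem (show x ∈ {z | z ∈ I.support ∧ colen I z = n} from ⟨hxI, hxn⟩)]
          omega

end Groth.Agent.SurfPtBlow
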