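import Groth.Agent.SurfPtBlow.Extend
import Groth.Agent.SurfPtBlow.Principal
import Groth.Agent.SurfPtBlow.CartierPart

/-!
# Point blow-ups of regular surfaces dominate modifications
-/

set_option autoImplicit false
set_option backward.isDefEq.respectTransparency false
set_option linter.style.haveILetI false
set_option maxHeartbeats 1000000

universe u

open CategoryTheory CategoryTheory.Limits AlgebraicGeometry TopologicalSpace

noncomputable section

namespace Groth.Agent.SurfPtBlow

variable {X Z S : Scheme.{u}} [IsIntegral X] [IsNoetherian X]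

/-- On a regular surface every ideal becomes invertible after point blow-ups. -/
theorem exists_ptSeq_cartier (hreg : ∀ x : X, IsRegularLocalRing (X.presheaf.stalk x))
    (hdim : topologicalKrullDim X ≤ 2) (I : X.IdealSheafData) (hI : I ≠ ⊥) :
    ∃ (X' : Scheme.{u}) (g : X' ⟶ X), PtSeq g ∧ BlowUp.IsEffCartierIdeal (I.comap g) := by
  obtain ⟨D, K, hD, hIK, hfin, hpts⟩ := exists_cartier_mul hreg hdim I hI
  obtain ⟨X', g, hX', hseq, -, hcart, hpull⟩ := principalised K hfin hpts
  refine ⟨X', g, hseq, ?_⟩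
  rw [hIK, BlowCompLib.comap_mul]
  exact BlowCompLib.isEffCartier_mul hcart (hpull D hD)

/-- A rational map from a regular surface to a proper scheme becomes a morphism after point blow-ups. -/
theorem exists_ptSeq_extend (hreg : ∀ x : X, IsRegularLocalRing (X.presheaf.stalk x))
    (hdim : topologicalKrullDim X ≤ 2) (sX : X ⟶ S) (sZ : Z ⟶ S) [IsProper sZ]
    (zK : Spec X.functionField ⟶ Z) (hzK : zK ≫ sZ = X.fromSpecStalk (genericPoint X) ≫ sX) :
    ∃ (X' : Scheme.{u}) (_ : IsIntegral X') (g : X' ⟶ X) (hg : g (genericPoint X') = genericPoint X) (h : X' ⟶ Z),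
      PtSeq g ∧ h ≫ sZ = g ≫ sX ∧
      X'.fromSpecStalk (genericPoint X') ≫ h = Spec.map (funMap g hg) ≫ zK := by
  obtain ⟨I, hI, hext⟩ := exists_ideal_extend sX sZ zK hzK
  obtain ⟨X', g, hseq, hc⟩ := exists_ptSeq_cartier hreg hdim I hI
  obtain ⟨hint, -, ⟨V, hV, hiso⟩, -⟩ := hseq.invariants hreg
  haveI := hint
  obtain ⟨hg, -⟩ := BirQFLib.birational_of_isIso_restrict g V hV hiso
  obtain ⟨h, h1, h2⟩ := hext g hg hc
  exact ⟨X', hint, g, hg, h, hseq, h1, h2⟩

/-- A proper birational morphism onto a regular surface is dominated by point blow-ups. -/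
theorem exists_dominating (hreg : ∀ x : X, IsRegularLocalRing (X.presheaf.stalk x))
    (hdim : topologicalKrullDim X ≤ 2) {Y : Scheme.{u}} [IsIntegral Y] (f : Y ⟶ X) [IsProper f]
    (hbir : ∃ V : X.Opens, (V : Set X).Nonempty ∧ IsIso (f ∣_ V)) :
    ∃ (X' : Scheme.{u}) (g : X' ⟶ X) (h : X' ⟶ Y), PtSeq g ∧ h ≫ f = g ∧ IsProper h ∧ IsIntegral X' ∧
      ∃ V : Y.Opens, (V : Set Y).Nonempty ∧ IsIso (h ∣_ V) := by
  obtain ⟨V, hV, hiso⟩ := hbir
  obtain ⟨hgen, hst⟩ := BirQFLib.birational_of_isIso_restrict f V hV hiso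
  haveI := hst
  haveI : IsIso (X.presheaf.stalkSpecializes (specializes_of_eq hgen)) :=
    ⟨X.presheaf.stalkSpecializes (specializes_of_eq hgen.symm), by simp, by simp⟩
  haveI : IsIso (funMap f hgen) := IsIso.comp_isIso' inferInstance inferInstance
  let zK : Spec X.functionField ⟶ Y := Spec.map (inv (funMap f hgen)) ≫ Y.fromSpecStalk (genericPoint Y)
  obtain ⟨X', hint, g, hg, h, hseq, h1, -⟩ := exists_ptSeq_extend hreg hdim (𝟙 X) f zK (by
    rw [Category.comp_id, Category.assoc, ← fromSpecStalk_funMap f hgen, ← Spec.map_comp_assoc, IsIso.hom_inv_id,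
      Spec.map_id, Category.id_comp])
  rw [Category.comp_id] at h1
  obtain ⟨-, -, ⟨V', hV', hiso'⟩, -⟩ := hseq.invariants hreg
  haveI := hseq.isNoetherian.2
  haveI : IsProper (h ≫ f) := h1.symm ▸ ‹IsProper g›
  haveI : IsProper h := IsProper.of_comp h f
  let W : X.Opens := V ⊓ V'
  have hW : (W : Set X).Nonempty := ⟨genericPoint X, (genericPoint_specializes hV.some).mem_open V.2 hV.some_mem,
    (genericPoint_specializes hV'.some).mem_open V'.2 hV'.some_mem⟩
  haveI := hiso
  haveI := hiso'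
  haveI : IsIso (f ∣_ W) := BMCohLib.isIso_restrict_le f inf_le_left
  have hgW : IsIso ((h ≫ f) ∣_ W) := by
    rw [h1]; exact BMCohLib.isIso_restrict_le g inf_le_right
  rw [morphismRestrict_comp] at hgW
  refine ⟨X', g, h, hseq, h1, inferInstance, hint, f ⁻¹ᵁ W, ⟨genericPoint Y, ?_⟩,
    IsIso.of_isIso_comp_right (h ∣_ (f ⁻¹ᵁ W)) (f ∣_ W)⟩
  show f (genericPoint Y) ∈ W
  rw [hgen]
  exact (genericPoint_specializes hW.some).mem_open W.2 hW.some_mem

end Groth.Agent.SurfPtBlow
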