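import Groth.Agent.SurfPtBlow.FactorAlg
import Groth.Agent.SurfPtBlow.Dominate
import Groth.Agent.AlmostBlowLib.Basic
import Groth.Agent.RegLocal.Basic

/-!
# Birational morphisms of regular surfaces are sequences of point blow-ups
-/

set_option autoImplicit false
set_option backward.isDefEq.respectTransparency false
set_option linter.style.haveILetI false
set_option maxHeartbeats 1000000

universe u

open CategoryTheory CategoryTheory.Limits AlgebraicGeometry TopologicalSpace
open Groth.Agent.TwistShriek Groth.Agent.TwistShriek.PointBlow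

noncomputable section

namespace Groth.Agent.SurfPtBlow

attribute [local instance 10] specializationOrder in
/-- Closed surjections do not raise the dimension. -/
theorem topologicalKrullDim_le_of_isClosedMap {A B : Type u} [TopologicalSpace A] [QuasiSober A] [T0Space A]
    [TopologicalSpace B] [QuasiSober B] [T0Space B] {f : A → B} (hc : Continuous f) (hf : IsClosedMap f) (hs : Function.Surjective f) :
    topologicalKrullDim B ≤ topologicalKrullDim A := by
  rw [ASp.topologicalKrullDim_eq_krullDim, ASp.topologicalKrullDim_eq_krullDim]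
  refine iSup_le fun p => ?_
  suffices h : ∃ q : LTSeries A, q.length = p.length ∧ f q.head = p.head by
    obtain ⟨q, hq, -⟩ := h
    exact le_of_eq_of_le (by rw [hq]) (le_iSup (fun q : LTSeries A => (q.length : WithBot ℕ∞)) q)
  induction p using RelSeries.inductionOn with
  | singleton b =>
    obtain ⟨a, ha⟩ := hs b
    exact ⟨RelSeries.singleton _ a, rfl, ha⟩
  | cons p b hb ih =>
    obtain ⟨q, hq, hqh⟩ := ih
    have hsp : f q.head ⤳ b := hqh ▸ (show b ≤ p.head from (show b < p.head from hb).le)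
    obtain ⟨a, ha, hab⟩ := (hf _ isClosed_closure).closure_subset_iff.2 (Set.Subset.refl _)
      (closure_mono (Set.singleton_subset_iff.2 (Set.mem_image_of_mem f (subset_closure (Set.mem_singleton _)))) hsp.mem_closure)
    have hlt : a < q.head := lt_of_le_of_ne (specializes_iff_mem_closure.2 ha : q.head ⤳ a) fun e =>
      (show b < p.head from hb).ne (by rw [← hab, e, hqh])
    exact ⟨q.cons a hlt, by simp [hq], by simpa using hab⟩

/-- A principal ideal containing a power of the maximal ideal only exists in dimension at most one. -/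
theorem ringKrullDim_le_one_of_pow_le_span {A : Type u} [CommRing A] [IsNoetherianRing A] [IsLocalRing A] (k : A)
    (hk : k ∈ IsLocalRing.maximalIdeal A) (N : ℕ) (h : IsLocalRing.maximalIdeal A ^ N ≤ Ideal.span {k}) :
    ringKrullDim A ≤ 1 := by
  have hle : Ideal.span {k} ≤ IsLocalRing.maximalIdeal A := (Ideal.span_singleton_le_iff_mem _).2 hk
  have hmin : IsLocalRing.maximalIdeal A ∈ (Ideal.span {k}).minimalPrimes :=
    ⟨⟨inferInstance, hle⟩, fun q hq _ => hq.1.le_of_pow_le (n := N) (h.trans hq.2)⟩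
  have h1 := Ideal.height_le_one_of_isPrincipal_of_mem_minimalPrimes (Ideal.span {k}) _ hmin
  rw [← IsLocalRing.maximalIdeal_height_eq_ringKrullDim]
  exact_mod_cast h1

theorem dvd_zero_or {A : Type u} [CommRing A] (p q : A) (h : p ∣ q) : Ideal.span {p, q} = Ideal.span {p} :=
  le_antisymm (Ideal.span_le.2 (Set.insert_subset (Ideal.subset_span rfl)
    (Set.singleton_subset_iff.2 (Ideal.mem_span_singleton.2 h)))) (Ideal.span_mono (Set.singleton_subset_iff.2 (Set.mem_insert _ _)))

variable {X Y : Scheme.{u}} [IsIntegral X] [IsNoetherian X] [IsIntegral Y] [IsNoetherian Y]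

/-- The stalk of the ideal of a closed point. -/
theorem stalkIdeal_pointIdeal {y : Y} (hy : IsClosed ({y} : Set Y)) :
    IntMult.stalkIdeal (pointIdeal hy) y = IsLocalRing.maximalIdeal (Y.presheaf.stalk y) := by
  obtain ⟨V, hV, hyV, -⟩ := exists_isAffineOpen_mem_and_subset (X := Y) (U := ⊤) (x := y) trivial
  rw [IdealStalkLib.stalkIdeal_eq (pointIdeal hy) ⟨V, hV⟩ y hyV,
    CurveP1Lib.map_vanishingIdeal_singleton hy ⟨V, hV⟩ hyV]

/-- A regular local ring of dimension two has a maximal ideal with two generators. -/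
theorem exists_two_gen {A : Type u} [CommRing A] [IsRegularLocalRing A] (hd : ringKrullDim A = 2) :
    ∃ a b : A, IsLocalRing.maximalIdeal A = Ideal.span {a, b} := by
  obtain ⟨g, hg⟩ := RegLocal.exists_generators A
  have h2 : (IsLocalRing.maximalIdeal A).spanFinrank = 2 := by
    have h := IsRegularLocalRing.spanFinrank_maximalIdeal (R := A)
    rw [hd] at h
    exact_mod_cast h
  refine ⟨g (Fin.cast h2.symm 0), g (Fin.cast h2.symm 1), ?_⟩
  refine hg.symm.trans (congrArg Ideal.span ?_)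
  rw [← (finCongr h2.symm).surjective.range_comp g]
  ext z
  simp only [Set.mem_range, Function.comp_apply, Fin.exists_fin_two, Set.mem_insert_iff, Set.mem_singleton_iff, finCongr_apply]
  exact ⟨fun h => h.imp Eq.symm Eq.symm, fun h => h.imp Eq.symm Eq.symm⟩

/-- Every element of a local ring upstairs is a fraction of elements downstairs. -/
theorem stalkMap_birational (f : X ⟶ Y) (hgen : f (genericPoint X) = genericPoint Y)
    (hst : IsIso (f.stalkMap (genericPoint X))) (x : X) :
    Function.Injective (f.stalkMap x).hom ∧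
      ∀ z : X.presheaf.stalk x, ∃ r s, s ≠ 0 ∧ z * (f.stalkMap x).hom s = (f.stalkMap x).hom r := by
  let φ := (f.stalkMap x).hom
  have hfun : ∀ v, funMap f hgen (algebraMap (Y.presheaf.stalk (f x)) Y.functionField v) =
      algebraMap (X.presheaf.stalk x) X.functionField (φ v) := funMap_stalk f hgen x
  haveI : IsIso (Y.presheaf.stalkSpecializes (specializes_of_eq hgen)) :=
    ⟨Y.presheaf.stalkSpecializes (specializes_of_eq hgen.symm), by simp, by simp⟩
  haveI := hst
  haveI : IsIso (funMap f hgen) := IsIso.comp_isIso' inferInstance inferInstance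
  have hbij := ConcreteCategory.bijective_of_isIso (funMap f hgen)
  have halY : Function.Injective (algebraMap (Y.presheaf.stalk (f x)) Y.functionField) := IsFractionRing.injective _ _
  have halX : Function.Injective (algebraMap (X.presheaf.stalk x) X.functionField) := IsFractionRing.injective _ _
  have hφinj : Function.Injective φ := fun v w h => halY (hbij.1 (by rw [hfun, hfun, h]))
  have hfrac : ∀ z : X.presheaf.stalk x, ∃ r s, s ≠ 0 ∧ z * φ s = φ r := fun z => by
    obtain ⟨w, hw⟩ := hbij.2 (algebraMap _ X.functionField z)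
    obtain ⟨r, s, hs, hrs⟩ := IsFractionRing.div_surjective (A := Y.presheaf.stalk (f x)) w
    refine ⟨r, s, nonZeroDivisors.ne_zero hs, halX ?_⟩
    rw [map_mul, ← hw, ← hfun, ← hfun, ← map_mul, ← hrs,
      div_mul_cancel₀ _ ((map_ne_zero_iff _ halY).2 (nonZeroDivisors.ne_zero hs))]
  haveI : IsLocalHom φ := inferInstanceAs (IsLocalHom (f.stalkMap x).hom)
  exact ⟨hφinj, hfrac⟩

/-- A factor `K` of a principal ideal `K * (c)` with `c` regular is principal. -/
theorem exists_span_of_mul {A : Type u} [CommRing A] [IsDomain A] (Kx J : Ideal A) (c e' : A) (hc0 : c ≠ 0)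
    (hJK : J = Kx * Ideal.span {c}) (he' : J = Ideal.span {e'}) : ∃ k, Kx = Ideal.span {k} := by
  have hce : c ∣ e' := by
    have h1 : e' ∈ Kx * Ideal.span {c} := by
      rw [← hJK, he']; exact Ideal.mem_span_singleton_self e'
    obtain ⟨z, -, hz⟩ := Ideal.mem_mul_span_singleton.1 h1
    exact ⟨z, hz.symm.trans (mul_comm z c)⟩
  obtain ⟨k, rfl⟩ := hce
  refine ⟨k, le_antisymm (fun z hz => ?_) ((Ideal.span_singleton_le_iff_mem _).2 ?_)⟩
  · have h1 : z * c ∈ J := hJK ▸ Ideal.mul_mem_mul hz (Ideal.mem_span_singleton_self c)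
    rw [he', Ideal.mem_span_singleton] at h1
    obtain ⟨q, hq⟩ := h1
    exact Ideal.mem_span_singleton.2 ⟨q, mul_right_cancel₀ hc0 (by rw [hq]; ring)⟩
  · have h1 : c * k ∈ J := he' ▸ Ideal.mem_span_singleton_self _
    rw [hJK, Ideal.mem_mul_span_singleton] at h1
    obtain ⟨z, hz, hzc⟩ := h1
    rwa [mul_left_cancel₀ hc0 (hzc.symm.trans (mul_comm z c))]

/-- At a point through which a curve of the fibre passes, the ideal of the image point is principal. -/
theorem exists_principal_stalk (f : X ⟶ Y) (hgen : f (genericPoint X) = genericPoint Y)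
    (hst : IsIso (f.stalkMap (genericPoint X))) (x : X) (hy : IsClosed ({f x} : Set Y))
    [IsRegularLocalRing (Y.presheaf.stalk (f x))] [IsRegularLocalRing (X.presheaf.stalk x)]
    (hd : ringKrullDim (Y.presheaf.stalk (f x)) = 2) (c : X.presheaf.stalk x)
    (hcm : c ∈ IsLocalRing.maximalIdeal (X.presheaf.stalk x))
    (hle : IntMult.stalkIdeal ((pointIdeal hy).comap f) x ≤ Ideal.span {c}) :
    ∃ e, IntMult.stalkIdeal ((pointIdeal hy).comap f) x = Ideal.span {e} := by
  haveI := RegLocal.isDomain (Y.presheaf.stalk (f x))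
  haveI := RegLocal.isDomain (X.presheaf.stalk x)
  haveI := (PurityLib.isIntegrallyClosed_of_regular (X.presheaf.stalk x)).2
  obtain ⟨a, b, hm⟩ := exists_two_gen hd
  obtain ⟨hφinj, hfrac⟩ := stalkMap_birational f hgen hst x
  let φ := (f.stalkMap x).hom
  haveI : IsLocalHom φ := inferInstanceAs (IsLocalHom (f.stalkMap x).hom)
  have hJ : IntMult.stalkIdeal ((pointIdeal hy).comap f) x = Ideal.span {φ a, φ b} := by
    rw [IdealStalkLib.stalkIdeal_comap, stalkIdeal_pointIdeal hy, hm, Ideal.map_span, Set.image_pair]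
  rcases dvd_or_dvd_of_common_factor φ hφinj hfrac a b hm c hcm
      (Ideal.mem_span_singleton.1 (hle (hJ ▸ Ideal.subset_span (Set.mem_insert _ _))))
      (Ideal.mem_span_singleton.1 (hle (hJ ▸ Ideal.subset_span (Set.mem_insert_of_mem _ rfl)))) with h | h
  · exact ⟨φ a, by rw [hJ]; exact dvd_zero_or _ _ h⟩
  · exact ⟨φ b, by rw [hJ, Set.pair_comm]; exact dvd_zero_or _ _ h⟩

/-- **The ideal of a fundamental point becomes invertible.** -/
theorem isEffCartier_comap_point (hX : ∀ x : X, IsRegularLocalRing (X.presheaf.stalk x))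
    (hdX : topologicalKrullDim X ≤ 2) (f : X ⟶ Y) [IsProper f]
    (hbir : ∃ V : Y.Opens, (V : Set Y).Nonempty ∧ IsIso (f ∣_ V)) (y : Y) (hy : IsClosed ({y} : Set Y))
    (hreg : IsRegularLocalRing (Y.presheaf.stalk y)) (hd : ringKrullDim (Y.presheaf.stalk y) = 2)
    (hnot : ∀ V : Y.Opens, y ∈ V → ¬ IsIso (f ∣_ V)) :
    BlowUp.IsEffCartierIdeal ((pointIdeal hy).comap f) := by
  obtain ⟨V₀, hV₀, hiso⟩ := hbir
  obtain ⟨hgen, hst⟩ := BirQFLib.birational_of_isIso_restrict f V₀ hV₀ hiso
  have hyη : y ≠ genericPoint Y := ne_generic hd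
  let I := (pointIdeal hy).comap f
  have hsI : ∀ x : X, x ∈ I.support ↔ f x = y := fun x => by
    rw [← SetLike.mem_coe, Scheme.IdealSheafData.support_comap, TopologicalSpace.Closeds.coe_preimage,
      Scheme.IdealSheafData.coe_support_vanishingIdeal]
    exact Iff.rfl
  have hI0 : I ≠ ⊥ := fun h => hyη (by
    have h1 : genericPoint X ∈ I.support := by rw [h, Scheme.IdealSheafData.support_bot]; trivial
    exact ((hsI _).1 h1).symm.trans hgen)
  obtain ⟨D, K, hD, hIK, hfin, hpts⟩ := exists_cartier_mul hX hdX I hI0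
  suffices hK : ∀ x, x ∉ K.support by
    have hK' : K = ⊤ := (Scheme.IdealSheafData.support_eq_bot_iff K).1
      (SetLike.ext' (Set.eq_empty_iff_forall_notMem.2 hK))
    show BlowUp.IsEffCartierIdeal I
    rw [hIK, hK', ← Scheme.IdealSheafData.one_eq_top, one_mul]
    exact hD
  intro x hx
  have hxI : x ∈ I.support := by
    rw [hIK, Scheme.IdealSheafData.support_mul]; exact Or.inl hx
  have hfx : f x = y := (hsI x).1 hxI
  subst hfx
  obtain ⟨hxc, -, hdx⟩ := hpts x hx
  haveI := hreg
  haveI := RegLocal.isDomain (Y.presheaf.stalk (f x))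
  haveI := hX x
  haveI := RegLocal.isDomain (X.presheaf.stalk x)
  haveI := (PurityLib.isIntegrallyClosed_of_regular (X.presheaf.stalk x)).2
  by_cases hxD : x ∈ D.support
  swap
  · -- `x` is isolated in its fibre
    have hclosed : IsClosed ((K.support : Set X) \ {x}) := by
      rw [← Set.biUnion_of_singleton ((K.support : Set X) \ {x})]
      exact (hfin.subset Set.sdiff_subset).isClosed_biUnion fun z hz => (hpts z hz.1).1
    let O : X.Opens := ⟨((K.support : Set X) \ {x})ᶜ ∩ (D.support : Set X)ᶜ,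
      hclosed.isOpen_compl.inter D.support.isClosed.isOpen_compl⟩
    have hO : ∀ z ∈ O, f z = f x → z = x := fun z hz hzy => by
      have h1 : z ∈ (K * D).support := hIK ▸ (hsI z).2 hzy
      rw [Scheme.IdealSheafData.support_mul] at h1
      rcases h1 with h1 | h1
      · by_contra hne; exact hz.1 ⟨h1, hne⟩
      · exact absurd h1 hz.2
    have hq : f.QuasiFiniteAt x := by
      rw [Scheme.Hom.quasiFiniteAt_iff_isOpen_singleton_asFiber]
      have e : ({f.asFiber x} : Set ↥(f.fiber (f x))) = f.fiberι (f x) ⁻¹' (O : Set X) := by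
        ext w
        constructor
        · rintro rfl
          show f.fiberι (f x) (f.asFiber x) ∈ O
          rw [f.fiberι_asFiber]
          exact ⟨fun h => h.2 rfl, hxD⟩
        · intro hw
          have hfw : f (f.fiberι (f x) w) = f x := (f.range_fiberι (f x)).le ⟨w, rfl⟩
          exact (f.fiberι (f x)).isEmbedding.injective ((hO _ hw hfw).trans (f.fiberι_asFiber x).symm)
      rw [e]
      exact O.2.preimage (f.fiberι (f x)).continuous
    obtain ⟨V, hV, hV'⟩ := BirQFLib.exists_nhd_isIso_of_normal_stalk f hgen hst x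
      (PurityLib.isIntegrallyClosed_of_regular _).2 hq
    exact hnot V hV hV'
  -- a curve of the fibre passes through `x`
  obtain ⟨U, hxU, e, he, hU⟩ := hD x
  haveI : Nonempty U.1 := ⟨⟨x, hxU⟩⟩
  let c := X.presheaf.germ U.1 x hxU e
  have hc0 : c ≠ 0 := fun h => nonZeroDivisors.ne_zero he (germ_injective_of_isIntegral X x hxU (h.trans (map_zero _).symm))
  have hDx : IntMult.stalkIdeal D x = Ideal.span {c} := by
    rw [IdealStalkLib.stalkIdeal_eq _ U x hxU, hU, Ideal.map_span, Set.image_singleton]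
  have hcm : c ∈ IsLocalRing.maximalIdeal (X.presheaf.stalk x) :=
    IdealStalkLib.stalkIdeal_le_maximal D hxD (hDx ▸ Ideal.mem_span_singleton_self c)
  have hJK : IntMult.stalkIdeal I x = IntMult.stalkIdeal K x * Ideal.span {c} := by
    rw [hIK, DivisorialLib.stalkIdeal_mul, hDx]
  obtain ⟨e', he'⟩ := exists_principal_stalk f hgen hst x hy hd c hcm (hJK.le.trans Ideal.mul_le_right)
  obtain ⟨k, hKk⟩ := exists_span_of_mul _ _ c e' hc0 hJK he'
  obtain ⟨N, hN⟩ := exists_pow_le_of_isolated K (x := x) fun z hzx hz =>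
    ((hpts z hz).1.closure_eq ▸ hzx.mem_closure : x ∈ ({z} : Set X)).symm
  rw [hKk] at hN
  have hkm : k ∈ IsLocalRing.maximalIdeal (X.presheaf.stalk x) :=
    IdealStalkLib.stalkIdeal_le_maximal K hx (hKk ▸ Ideal.mem_span_singleton_self k)
  have hcontra := ringKrullDim_le_one_of_pow_le_span k hkm N hN
  rw [hdx] at hcontra
  exact absurd (WithBot.coe_le_coe.1 (show ((2 : ℕ∞) : WithBot ℕ∞) ≤ ((1 : ℕ∞) : WithBot ℕ∞) from hcontra)) (by decide)

/-- Points without a neighbourhood over which a birational morphism onto a normal surface is an isomorphism. -/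
theorem closed_of_not_iso (hY : ∀ y : Y, IsRegularLocalRing (Y.presheaf.stalk y))
    (hdY : topologicalKrullDim Y ≤ 2) (f : X ⟶ Y) [IsProper f]
    (hbir : ∃ V : Y.Opens, (V : Set Y).Nonempty ∧ IsIso (f ∣_ V)) (y : Y)
    (hnot : ∀ V : Y.Opens, y ∈ V → ¬ IsIso (f ∣_ V)) :
    IsClosed ({y} : Set Y) ∧ ringKrullDim (Y.presheaf.stalk y) = 2 := by
  obtain ⟨V₀, hV₀, hiso⟩ := hbir
  obtain ⟨hgen, hst⟩ := BirQFLib.birational_of_isIso_restrict f V₀ hV₀ hiso
  have hYn : Pi1.IsNormalScheme Y := fun z => by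
    haveI := hY z
    exact PurityLib.isIntegrallyClosed_of_regular _
  have h2 : ¬ ringKrullDim (Y.presheaf.stalk y) ≤ 1 := fun h => by
    obtain ⟨V, hV, hV'⟩ := BirQFLib.exists_nhd_isIso_of_dim_le_one hYn f hgen hst y h
    exact hnot V hV hV'
  rw [ringKrullDim_stalk_eq_coheight] at h2 ⊢
  have h0 : Order.krullDim Y ≤ 2 := by rw [← ASp.topologicalKrullDim_eq_krullDim]; exact hdY
  have hle : Order.coheight y ≤ 2 := WithBot.coe_le_coe.1 (((Order.coheight_le_krullDim y).trans h0).trans_eq rfl)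
  have hco : Order.coheight y = 2 := by
    revert hle h2
    cases Order.coheight y with
    | top => intro _ h; simp at h
    | coe n =>
      intro h2 hle
      norm_cast at h2 hle ⊢
      omega
  refine ⟨?_, by rw [hco]; rfl⟩
  rw [← closure_subset_iff_isClosed]
  intro z hz
  by_contra hne
  have hsp : y ⤳ z := specializes_iff_mem_closure.2 hz
  have hlt : z < y := lt_of_le_not_ge (Scheme.le_iff_specializes.2 hsp) fun h =>
    hne ((Scheme.le_iff_specializes.1 h).antisymm hsp).eq
  have h3 := Order.coheight_add_one_le hlt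
  rw [hco] at h3
  have h4 : Order.coheight z ≤ 2 := WithBot.coe_le_coe.1 (((Order.coheight_le_krullDim z).trans h0).trans_eq rfl)
  exact absurd (h3.trans h4) (by decide)

/-- The curves contracted to closed points. -/
def contracted {X Y : Scheme.{u}} (f : X ⟶ Y) : Set X := {ξ | ¬ IsClosed ({ξ} : Set X) ∧ IsClosed ({f ξ} : Set Y)}

theorem mem_not_iso_of_contracted (f : X ⟶ Y) {ξ : X} (hξ : ξ ∈ contracted f) (V : Y.Opens) (hV : f ξ ∈ V) :
    ¬ IsIso (f ∣_ V) := fun hiso => by
  haveI := hiso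
  refine hξ.1 ?_
  have e : f ⁻¹' {f ξ} = {ξ} := Set.eq_singleton_iff_unique_mem.2 ⟨rfl, fun z hz => by
    have hzV : z ∈ f ⁻¹ᵁ V := show f z ∈ V from (show f z = f ξ from hz).symm ▸ hV
    exact congrArg Subtype.val ((f ∣_ V).homeomorph.injective (a₁ := ⟨z, hzV⟩) (a₂ := ⟨ξ, hV⟩) (Subtype.ext (by
      rw [Scheme.Hom.homeomorph_apply, Scheme.Hom.homeomorph_apply, morphismRestrict_base]
      exact hz)))⟩
  rw [← e]
  exact hξ.2.preimage f.continuous

/-- Over a point without isomorphic neighbourhood some curve is contracted. -/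
theorem exists_contracted (f : X ⟶ Y) [IsProper f] (hbir : ∃ V : Y.Opens, (V : Set Y).Nonempty ∧ IsIso (f ∣_ V))
    (y : Y) (hy : IsClosed ({y} : Set Y)) (hn : IsIntegrallyClosed (Y.presheaf.stalk y)) (hs : Function.Surjective f)
    (hnot : ∀ V : Y.Opens, y ∈ V → ¬ IsIso (f ∣_ V)) :
    ∃ ξ ∈ contracted f, f ξ = y := by
  by_contra h
  push Not at h
  have hfib : ∀ z : X, f z = y → IsClosed ({z} : Set X) := fun z hz => by
    by_contra hzc
    exact h z ⟨hzc, hz ▸ hy⟩ hz
  obtain ⟨x, rfl⟩ := hs y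
  obtain ⟨V₀, hV₀, hiso⟩ := hbir
  obtain ⟨hgen, hst⟩ := BirQFLib.birational_of_isIso_restrict f V₀ hV₀ hiso
  have hfin : (f ⁻¹' {f x}).Finite := by
    haveI : NoetherianSpace X := inferInstance
    obtain ⟨S, hS, hSc, hSi, hSe⟩ :=
      NoetherianSpace.exists_finite_set_isClosed_irreducible (α := X) (hy.preimage f.continuous)
    rw [hSe]
    refine hS.sUnion fun T hT => Set.Subsingleton.finite fun a ha b hb => ?_
    have hTI : T ⊆ f ⁻¹' {f x} := hSe ▸ Set.subset_sUnion_of_mem hT
    obtain ⟨g, hg⟩ := QuasiSober.sober (hSi T hT) (hSc T hT)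
    have hT1 : T = {g} := by rw [← hg.def, (hfib g (hTI hg.mem)).closure_eq]
    rw [hT1] at ha hb
    exact ha.trans hb.symm
  have hq : f.QuasiFiniteAt x := by
    rw [Scheme.Hom.quasiFiniteAt_iff_isOpen_singleton_asFiber]
    haveI : Finite ↥(f.fiber (f x)) := by
      haveI := hfin.to_subtype
      exact Finite.of_equiv _ (f.fiberHomeo (f x)).toEquiv.symm
    haveI : T1Space ↥(f.fiber (f x)) := by
      refine ⟨fun p => ?_⟩
      have e : ({p} : Set ↥(f.fiber (f x))) = f.fiberι (f x) ⁻¹' {f.fiberι (f x) p} := by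
        ext w
        exact ⟨fun h => congrArg _ h, fun h => (f.fiberι (f x)).isEmbedding.injective h⟩
      rw [e]
      exact (hfib _ ((f.range_fiberι (f x)).le ⟨p, rfl⟩)).preimage (f.fiberι (f x)).continuous
    exact isOpen_discrete _
  obtain ⟨V, hV, hV'⟩ := BirQFLib.exists_nhd_isIso_of_normal_stalk f hgen hst x hn hq
  exact hnot V hV hV'

/-- In a proper closed irreducible subset of a surface only the generic point is not closed. -/
theorem eq_of_not_closed {X : Scheme.{u}} [IsIntegral X] (hdX : topologicalKrullDim X ≤ 2) {C : Set X} {g : X}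
    (hg : IsGenericPoint g C) (hη : genericPoint X ∉ C) {ξ : X} (hξC : ξ ∈ C) (hξc : ¬ IsClosed ({ξ} : Set X)) :
    ξ = g := by
  by_contra hne
  have h0 : Order.krullDim X ≤ 2 := by rw [← ASp.topologicalKrullDim_eq_krullDim]; exact hdX
  obtain ⟨z, hz, hzξ⟩ : ∃ z, z ∈ closure ({ξ} : Set X) ∧ z ≠ ξ := by
    by_contra hcl
    push Not at hcl
    exact hξc (isClosed_of_closure_subset fun z hz => hcl z hz)
  have hgC : g ⤳ ξ := hg.specializes hξC
  have hgη : g ≠ genericPoint X := fun h => hη (h ▸ hg.mem)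
  have lt : ∀ {p q : X}, p ⤳ q → q ≠ p → q < p := fun {p q} h hne => lt_of_le_not_ge
    (Scheme.le_iff_specializes.2 h) fun h' => hne ((Scheme.le_iff_specializes.1 h').antisymm h).eq
  have e1 := Order.coheight_add_one_le (lt (genericPoint_specializes g) hgη)
  have e2 := Order.coheight_add_one_le (lt hgC hne)
  have e3 := Order.coheight_add_one_le (lt (specializes_iff_mem_closure.2 hz) hzξ)
  have e4 : Order.coheight z ≤ 2 := WithBot.coe_le_coe.1 (((Order.coheight_le_krullDim z).trans h0).trans_eq rfl)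
  have e5 : (3 : ℕ∞) ≤ Order.coheight z := by
    calc (3 : ℕ∞) = 0 + 1 + 1 + 1 := by norm_num
      _ ≤ Order.coheight (genericPoint X) + 1 + 1 + 1 := by gcongr; exact zero_le
      _ ≤ Order.coheight g + 1 + 1 := by gcongr
      _ ≤ Order.coheight ξ + 1 := by gcongr
      _ ≤ Order.coheight z := e3
  exact absurd (e5.trans e4) (by decide)

/-- Finitely many curves are contracted. -/
theorem finite_contracted (hY : ∀ y : Y, IsRegularLocalRing (Y.presheaf.stalk y)) (hdX : topologicalKrullDim X ≤ 2)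
    (hdY : topologicalKrullDim Y ≤ 2) (f : X ⟶ Y) [IsProper f]
    (hbir : ∃ V : Y.Opens, (V : Set Y).Nonempty ∧ IsIso (f ∣_ V)) : (contracted f).Finite := by
  obtain ⟨V, hVi, hVmax⟩ := BirQFLib.exists_isIso_sSup f
  let T : Set X := f ⁻¹' (V : Set Y)ᶜ
  have hT : IsClosed T := V.2.isClosed_compl.preimage f.continuous
  have hηT : genericPoint X ∉ T := fun h => by
    obtain ⟨V₀, hV₀, hiso⟩ := hbir
    obtain ⟨hgen, -⟩ := BirQFLib.birational_of_isIso_restrict f V₀ hV₀ hiso
    exact h (hVmax V₀ hiso (show f (genericPoint X) ∈ V₀ from hgen.symm ▸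
      (genericPoint_specializes hV₀.some).mem_open V₀.2 hV₀.some_mem))
  have hsub : contracted f ⊆ T := fun ξ hξ hξV => mem_not_iso_of_contracted f hξ V hξV hVi
  haveI : NoetherianSpace X := inferInstance
  obtain ⟨S, hS, hSc, hSi, hSe⟩ := NoetherianSpace.exists_finite_set_isClosed_irreducible (α := X) hT
  refine (hS.biUnion fun C hC => (Set.Subsingleton.finite (s := {ξ | ξ ∈ C ∧ ¬ IsClosed ({ξ} : Set X)}) ?_)).subset
    fun ξ hξ => by
      obtain ⟨C, hC, hξC⟩ := Set.mem_sUnion.1 (hSe ▸ hsub hξ)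
      exact Set.mem_biUnion hC ⟨hξC, hξ.1⟩
  obtain ⟨g, hg⟩ := QuasiSober.sober (hSi C hC) (hSc C hC)
  suffices h : ∀ ξ ∈ C, ¬ IsClosed ({ξ} : Set X) → ξ = g by
    rintro a ⟨ha, ha'⟩ b ⟨hb, hb'⟩
    rw [h a ha ha', h b hb hb']
  intro ξ hξC hξc
  exact eq_of_not_closed hdX hg (fun h => hηT (hSe ▸ Set.mem_sUnion_of_mem h hC)) hξC hξc

/-- One step of the factorisation through point blow-ups. -/
theorem exists_factor_step (hX : ∀ x : X, IsRegularLocalRing (X.presheaf.stalk x))
    (hdX : topologicalKrullDim X ≤ 2) (hY : ∀ y : Y, IsRegularLocalRing (Y.presheaf.stalk y))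
    (hdY : topologicalKrullDim Y ≤ 2) (f : X ⟶ Y) [IsProper f]
    (hbir : ∃ V : Y.Opens, (V : Set Y).Nonempty ∧ IsIso (f ∣_ V)) (y : Y)
    (hnot : ∀ V : Y.Opens, y ∈ V → ¬ IsIso (f ∣_ V)) :
    ∃ (hy : IsClosed ({y} : Set Y)) (_ : ringKrullDim (Y.presheaf.stalk y) = 2) (Y' : Scheme.{u}) (π : Y' ⟶ Y)
      (_ : BlowUp.IsBlowUp π (pointIdeal hy)) (g : X ⟶ Y'), g ≫ π = f := by
  obtain ⟨hy, hd⟩ := closed_of_not_iso hY hdY f hbir y hnot
  obtain ⟨Y', π, hπ⟩ := BlowExistsLib.exists_isBlowUp (pointIdeal hy)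
  obtain ⟨g, hg, -⟩ := hπ.2 X f (isEffCartier_comap_point hX hdX f hbir y hy (hY y) hd hnot)
  exact ⟨hy, hd, Y', π, hπ, g, hg⟩

/-- Facts about the factor. -/
theorem factor_props (f : X ⟶ Y) [IsProper f] (hbir : ∃ V : Y.Opens, (V : Set Y).Nonempty ∧ IsIso (f ∣_ V))
    {y : Y} {hy : IsClosed ({y} : Set Y)} (hd : ringKrullDim (Y.presheaf.stalk y) = 2)
    {Y' : Scheme.{u}} (π : Y' ⟶ Y) (hπ : BlowUp.IsBlowUp π (pointIdeal hy)) (g : X ⟶ Y') (hg : g ≫ π = f) :
    IsNoetherian Y' ∧ IsIntegral Y' ∧ IsProper g ∧ (∃ V : Y'.Opens, (V : Set Y').Nonempty ∧ IsIso (g ∣_ V)) ∧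
      Function.Surjective g := by
  haveI := PointBlow.isProper hπ
  haveI := isNoetherian_blowUp hπ
  obtain ⟨hint, W, hW, hWiso⟩ := integral_blowUp hπ hd
  haveI := hint
  haveI : IsProper (g ≫ π) := hg.symm ▸ ‹IsProper f›
  haveI : IsProper g := IsProper.of_comp g π
  obtain ⟨V, hV, hiso⟩ := hbir
  have hηV : genericPoint Y ∈ V := (genericPoint_specializes hV.some).mem_open V.2 hV.some_mem
  have hηW : genericPoint Y ∈ W := (genericPoint_specializes hW.some).mem_open W.2 hW.some_mem
  obtain ⟨hπgen, -⟩ := BirQFLib.birational_of_isIso_restrict π W hW hWiso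
  haveI := hiso
  haveI := hWiso
  haveI : IsIso (π ∣_ (V ⊓ W)) := BMCohLib.isIso_restrict_le π inf_le_right
  have h1 : IsIso ((g ≫ π) ∣_ (V ⊓ W)) := by
    rw [hg]; exact BMCohLib.isIso_restrict_le f inf_le_left
  rw [morphismRestrict_comp] at h1
  have hbg : ∃ V' : Y'.Opens, (V' : Set Y').Nonempty ∧ IsIso (g ∣_ V') :=
    ⟨π ⁻¹ᵁ (V ⊓ W), ⟨genericPoint Y', show π (genericPoint Y') ∈ V ⊓ W from hπgen.symm ▸ ⟨hηV, hηW⟩⟩,
      IsIso.of_isIso_comp_right (g ∣_ (π ⁻¹ᵁ (V ⊓ W))) (π ∣_ (V ⊓ W))⟩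
  refine ⟨inferInstance, inferInstance, inferInstance, hbg, fun z => ?_⟩
  obtain ⟨V', hV', hiso'⟩ := hbg
  obtain ⟨hggen, -⟩ := BirQFLib.birational_of_isIso_restrict g V' hV' hiso'
  have hz := BirQFLib.denseRange_generic g hggen z
  rwa [g.isClosedMap.isClosed_range.closure_eq] at hz

/-- The factor contracts fewer curves. -/
theorem exists_contracted_sdiff (hY : ∀ y : Y, IsRegularLocalRing (Y.presheaf.stalk y)) (f : X ⟶ Y)
    {y : Y} {hy : IsClosed ({y} : Set Y)} (hd : ringKrullDim (Y.presheaf.stalk y) = 2)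
    {Y' : Scheme.{u}} (π : Y' ⟶ Y) (hπ : BlowUp.IsBlowUp π (pointIdeal hy)) (g : X ⟶ Y') [IsProper g] (hg : g ≫ π = f)
    (hsurj : Function.Surjective g) : ∃ ξ ∈ contracted f, ξ ∉ contracted g := by
  haveI := PointBlow.isProper hπ
  haveI := isNoetherian_blowUp hπ
  haveI := (integral_blowUp hπ hd).1
  have hπsurj : Function.Surjective π := fun z => by
    obtain ⟨hi, W, hW, hWiso⟩ := integral_blowUp hπ hd
    obtain ⟨hπgen, -⟩ := BirQFLib.birational_of_isIso_restrict π W hW hWiso
    have hz := BirQFLib.denseRange_generic π hπgen z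
    rwa [π.isClosedMap.isClosed_range.closure_eq] at hz
  obtain ⟨η', hη', hη'y⟩ := exists_contracted π (integral_blowUp hπ hd).2 y hy
    (haveI := hY y; (PurityLib.isIntegrallyClosed_of_regular _).2) hπsurj fun V hV hiso => by
      obtain ⟨P⟩ := exists_pointParams hy (hY y) hd
      haveI := hiso
      obtain ⟨w, hw⟩ := hπsurj y
      have hc : IntMult.stalkIdeal ((pointIdeal hy).comap π) w = (IsLocalRing.maximalIdeal _).map (π.stalkMap w).hom := by
        rw [IdealStalkLib.stalkIdeal_comap]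
        subst hw
        rw [stalkIdeal_pointIdeal hy]
      have hwV : w ∈ π ⁻¹ᵁ V := show π w ∈ V from hw.symm ▸ hV
      haveI : IsIso (π.stalkMap w) := ((MorphismProperty.isomorphisms CommRingCat).arrow_mk_iso_iff
        (morphismRestrictStalkMap π V ⟨w, hwV⟩)).1 (inferInstanceAs (IsIso _))
      let e := (asIso (π.stalkMap w)).commRingCatIsoToRingEquiv
      obtain ⟨U, hwU, k, hk, hkU⟩ := hπ.1 w
      have hck : IntMult.stalkIdeal ((pointIdeal hy).comap π) w = Ideal.span {Y'.presheaf.germ U.1 w hwU k} := by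
        rw [IdealStalkLib.stalkIdeal_eq _ U w hwU, hkU, Ideal.map_span, Set.image_singleton]
      have hmap : (IsLocalRing.maximalIdeal _).map (π.stalkMap w).hom = IsLocalRing.maximalIdeal (Y'.presheaf.stalk w) :=
        IsLocalRing.map_ringEquiv_maximalIdeal e
      rw [hc, hmap] at hck
      have hle := ringKrullDim_le_one_of_pow_le_span (Y'.presheaf.germ U.1 w hwU k)
        (hck ▸ Ideal.mem_span_singleton_self _) 1 (by rw [pow_one]; exact hck.le)
      rw [← ringKrullDim_eq_of_ringEquiv e] at hle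
      subst hw
      rw [hd] at hle
      exact absurd (WithBot.coe_le_coe.1 (show ((2 : ℕ∞) : WithBot ℕ∞) ≤ ((1 : ℕ∞) : WithBot ℕ∞) from hle)) (by decide)
  obtain ⟨ξ, hξ⟩ := hsurj η'
  refine ⟨ξ, ⟨fun hc => hη'.1 ?_, by rw [← hg, Scheme.Hom.comp_apply, hξ, hη'y]; exact hy⟩,
    fun h => hη'.1 (hξ ▸ h.2)⟩
  rw [← hξ, ← Set.image_singleton]
  exact g.isClosedMap _ hc

/-- **A proper birational morphism of regular surfaces is a composite of point blow-ups.** -/
theorem isIso_or_ptSeq (hX : ∀ x : X, IsRegularLocalRing (X.presheaf.stalk x))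
    (hdX : topologicalKrullDim X ≤ 2) : ∀ (n : ℕ) {Y : Scheme.{u}} [IsIntegral Y] [IsNoetherian Y]
    (_ : ∀ y : Y, IsRegularLocalRing (Y.presheaf.stalk y)) (_ : topologicalKrullDim Y ≤ 2)
    (f : X ⟶ Y) [IsProper f] (_ : ∃ V : Y.Opens, (V : Set Y).Nonempty ∧ IsIso (f ∣_ V)),
    (contracted f).ncard ≤ n → IsIso f ∨ PtSeq f := by
  intro n
  induction n using Nat.strong_induction_on with
  | _ n ih =>
  intro Y _ _ hY hdY f _ hbir hn
  by_cases hall : ∀ y : Y, ∃ V : Y.Opens, y ∈ V ∧ IsIso (f ∣_ V)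
  · refine Or.inl ?_
    choose V hV hiso using hall
    refine (IsZariskiLocalAtTarget.iff_of_iSup_eq_top (P := MorphismProperty.isomorphisms Scheme) V
      (top_le_iff.1 fun y _ => Opens.mem_iSup.2 ⟨y, hV y⟩)).2 hiso
  push Not at hall
  obtain ⟨y, hnot⟩ := hall
  obtain ⟨hy, hd, Y', π, hπ, g, hg⟩ := exists_factor_step hX hdX hY hdY f hbir y hnot
  obtain ⟨hN, hint, hprop, hbg, hsurj⟩ := factor_props f hbir hd π hπ g hg
  haveI := hN
  haveI := hint
  haveI := hprop
  haveI := PointBlow.isProper hπ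
  have hY' := regular_blowUp hπ hY hd
  have hdY' : topologicalKrullDim Y' ≤ 2 :=
    (topologicalKrullDim_le_of_isClosedMap g.continuous g.isClosedMap hsurj).trans hdX
  have hsub : contracted g ⊆ contracted f := fun ξ hξ => ⟨hξ.1, by
    rw [← hg, Scheme.Hom.comp_apply, ← Set.image_singleton]
    exact π.isClosedMap _ hξ.2⟩
  have hne := exists_contracted_sdiff hY f hd π hπ g hg hsurj
  have hfin := finite_contracted hY hdX hdY f hbir
  have hlt : (contracted g).ncard < (contracted f).ncard := by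
    obtain ⟨ξ, h1, h2⟩ := hne
    exact Set.ncard_lt_ncard ⟨hsub, fun h => h2 (h h1)⟩ hfin
  rw [← hg]
  rcases ih _ (hlt.trans_le hn) hY' hdY' g hbg le_rfl with h | h
  · haveI := h
    exact Or.inr (PtSeq.single (g ≫ π) y hy (hY y) hd (AlmostBlowLib.isBlowUp_of_iso hπ (asIso g)))
  · exact Or.inr (h.comp (PtSeq.single π y hy (hY y) hd hπ))

end Groth.Agent.SurfPtBlow
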