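import Groth.Agent.TwistShriek.PointCurve
import Groth.Agent.CurveP1Lib.DegOne
import Groth.Agent.CurveP1Lib.PointIdeal
import Groth.Agent.PointTwistLib.Basic
import Groth.Agent.ClSubLib.ProperOver
import Groth.Agent.CurveFF.Point2

/-!
# The exceptional curve of the blow-up of a regular point of dimension two
-/

set_option autoImplicit false
set_option backward.isDefEq.respectTransparency false
set_option linter.style.haveILetI false
set_option maxHeartbeats 1000000

universe u

open CategoryTheory CategoryTheory.Limits AlgebraicGeometry TopologicalSpace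
open Groth.Agent.TwistShriek Groth.Agent.TwistShriek.PointBlow

noncomputable section

namespace Groth.Agent.SurfPtBlow

variable {X X' : Scheme.{u}} {x : X} {hx : IsClosed ({x} : Set X)} {π : X' ⟶ X}
variable [IsLocallyNoetherian X] (hb : BlowUp.IsBlowUp π (pointIdeal hx)) (P : PointParams hx)

include hb P in
/-- The exceptional divisor is a projective line on which its conormal bundle is `O(1)`. -/
theorem exists_P1 : ∃ (κ : Type u) (_ : Field κ) (e : CohB1.ProjSpace 1 κ ≅ E π hx),
    Nonempty ((Scheme.Modules.pullback (e.hom ≫ jE π hx)).obj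
      (ClSub.idealMod (BlowUp.exceptional π (pointIdeal hx))) ≅ Twist.twistProjSpace 1 κ 1) := by
  haveI := isProper hb
  haveI : IsLocallyNoetherian X' := LocallyOfFiniteType.isLocallyNoetherian π
  haveI := isIntegral_E hb P
  haveI : IsLocallyNoetherian (E π hx) := LocallyOfFiniteType.isLocallyNoetherian (jE π hx)
  obtain ⟨F, hF, σ, hσc, hker, hτc, hσE, hmk⟩ := exists_point_exceptional hb P
  haveI := hσc
  haveI := hτc
  let τ := σ ≫ jE π hx ≫ π
  have hle : τ.ker ≤ (jE π hx ≫ π).ker := by
    rw [show τ.ker = pointIdeal hx from hker, Scheme.Hom.ker_comp, Scheme.IdealSheafData.le_map_iff_comap_le,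
      Scheme.IdealSheafData.ker_subschemeι]
  let p : E π hx ⟶ Spec (CommRingCat.of F) := IsClosedImmersion.lift τ (jE π hx ≫ π) hle
  have hp : p ≫ τ = jE π hx ≫ π := IsClosedImmersion.lift_fac _ _ _
  have hσp : σ ≫ p = 𝟙 _ := by
    rw [← cancel_mono τ, Category.assoc, hp, Category.id_comp]
  haveI : IsProper (p ≫ τ) := by rw [hp]; infer_instance
  haveI : IsProper p := IsProper.of_comp p τ
  letI : (E π hx).Over (Spec (CommRingCat.of F)) := ⟨p⟩
  haveI : IsProper (E π hx ↘ Spec (CommRingCat.of F)) := ‹IsProper p›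
  haveI : Subsingleton ↥(Spec (CommRingCat.of F)) := inferInstanceAs (Subsingleton (PrimeSpectrum F))
  let q : E π hx := σ default
  have hqr : Set.range σ = {q} := Set.eq_singleton_iff_unique_mem.2 ⟨⟨_, rfl⟩, by
    rintro _ ⟨a, rfl⟩
    rw [Subsingleton.elim a default]⟩
  have hqc : IsClosed ({q} : Set (E π hx)) := hqr ▸ σ.isClosedEmbedding.isClosed_range
  have hsk : σ.ker = Scheme.IdealSheafData.vanishingIdeal (⟨{q}, hqc⟩ : Closeds (E π hx)) := by
    have h1 : σ.ker = Scheme.IdealSheafData.vanishingIdeal σ.ker.support := by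
      rw [Scheme.IdealSheafData.vanishingIdeal_support]
      refine le_antisymm (Scheme.IdealSheafData.le_radical _) fun U a ha => ?_
      rw [Scheme.Hom.ker_apply, RingHom.mem_ker]
      obtain ⟨n, hn⟩ := ha
      rw [Scheme.Hom.ker_apply, RingHom.mem_ker, map_pow] at hn
      exact IsReduced.eq_zero _ ⟨n, hn⟩
    rw [h1]
    congr 1
    refine SetLike.coe_injective ?_
    rw [Scheme.Hom.support_ker, σ.isClosedEmbedding.isClosed_range.closure_eq, hqr]
    rfl
  have hpr : ∃ g : (E π hx).presheaf.stalk q, g ≠ 0 ∧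
      IsLocalRing.maximalIdeal ((E π hx).presheaf.stalk q) = Ideal.span {g} := by
    obtain ⟨g, hg, hgs⟩ := BlowExistsLib.exists_stalk_generator (hsk ▸ hσE) q
    rw [(CurveFF.stalkIdeal_point hqc).1] at hgs
    exact ⟨g, nonZeroDivisors.ne_zero hg, hgs⟩
  -- the point is a Cartier divisor, so it is not the generic point
  have hne : q ≠ genericPoint (E π hx) := fun h => by
    obtain ⟨g, hg, hgs⟩ := hpr
    have hF : IsField ((E π hx).presheaf.stalk q) := h ▸ Field.toIsField (E π hx).functionField
    have h1 : IsLocalRing.maximalIdeal ((E π hx).presheaf.stalk q) = ⊥ := IsLocalRing.isField_iff_maximalIdeal_eq.1 hF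
    exact hg (Ideal.span_singleton_eq_bot.1 (hgs.symm.trans h1))
  have hdim : topologicalKrullDim (E π hx) = 1 := by
    refine le_antisymm (topologicalKrullDim_E_le hb P) ?_
    rw [ASp.topologicalKrullDim_eq_krullDim]
    have hlt : q < genericPoint (E π hx) := lt_of_le_not_ge (genericPoint_specializes q)
      fun h => hne (Specializes.antisymm h (genericPoint_specializes q)).eq
    exact le_trans (by simp) (Order.LTSeries.length_le_krullDim ((RelSeries.singleton _ q).snoc (genericPoint (E π hx)) hlt))
  have hI : PicF.IsInvertible (ClSub.idealMod (BlowUp.exceptional π (pointIdeal hx))) := (S8914.result _).2 hb.1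
  have hL := AmpleLib.isInvertible_pullback (jE π hx) hI
  have hσI : PicF.IsInvertible (ClSub.idealMod σ.ker) := (S8914.result _).2 hσE
  obtain ⟨eL⟩ := IntLib.mk_eq_mk.1 (show IntLib.mk (CohB1.tensorMod ((Scheme.Modules.pullback (jE π hx)).obj
      (ClSub.idealMod (BlowUp.exceptional π (pointIdeal hx)))) (ClSub.idealMod σ.ker)) =
      IntLib.mk (Coh.structureModule (E π hx)) by rw [IntLib.mk_tensor, IntLib.mk_structureModule, hmk])
  obtain ⟨M, hM, hdegM, ⟨eM⟩, -⟩ := CurveP1Lib.exists_deg_one hdim σ hσp q hqr.le hqc hpr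
  rw [← hsk] at eM
  have hdeg : Curv2.deg F (E π hx)
      ((Scheme.Modules.pullback (jE π hx)).obj (ClSub.idealMod (BlowUp.exceptional π (pointIdeal hx)))) 1 = 1 := by
    have h1 := CurveLib.deg_tensor_add (k := F) hdim.le hL hσI
    rw [CurveLib.deg_iso (k := F) eL, CurveLib.deg_structureModule] at h1
    have h2 := CurveLib.deg_tensor_add (k := F) hdim.le hM hσI
    rw [CurveLib.deg_iso (k := F) eM, CurveLib.deg_structureModule, hdegM] at h2
    omega
  have hg : Curv2.genus F (E π hx) = 0 := by
    haveI := subsingleton_H1_E hb P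
    exact Module.finrank_zero_of_subsingleton
  have hbj := CurveP1Lib.bijective_toGlobal hL hdeg
  have h0 : Module.finrank F (Coh.HH (E π hx) (Coh.structureModule (E π hx)) 0) = 1 := by
    refine finrank_eq_one ((CurveLib.secOf (Coh.structureModule (E π hx))).symm (1 : Γ(E π hx, ⊤))) ?_ fun w => ?_
    · exact fun h => one_ne_zero (α := Γ(E π hx, ⊤))
        (((CurveLib.secOf (Coh.structureModule (E π hx))).apply_symm_apply _).symm.trans
          ((congrArg (CurveLib.secOf (Coh.structureModule (E π hx))) h).trans (map_zero _)))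
    · obtain ⟨c, hc⟩ := hbj.2 (CurveLib.secOf (Coh.structureModule (E π hx)) w)
      exact ⟨c, (CurveLib.secOf (Coh.structureModule (E π hx))).injective (by
        rw [CurveLib.secOf_smul, AddEquiv.apply_symm_apply]
        show _ • (1 : Γ(E π hx, ⊤)) = _
        rw [smul_eq_mul, mul_one]
        exact hc)⟩
  have h2 := (CurveLib.genus_zero_sections (k := F) hdim.le h0 hg hL (d := 1) (by exact_mod_cast hdeg)).1
  obtain ⟨e, -, ⟨τL⟩⟩ := CurveP1Lib.exists_iso_P1_twist hdim hL hdeg h2.ge
  exact ⟨F, hF, e.symm, ⟨((Scheme.Modules.pullbackComp e.inv (jE π hx)).app _).symm ≪≫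
    (Scheme.Modules.pullback e.inv).mapIso τL.symm ≪≫ (Scheme.Modules.pullbackComp e.inv e.hom).app _ ≪≫
      eqToIso (by rw [Iso.inv_hom_id]; rfl) ≪≫ (Scheme.Modules.pullbackId _).app _⟩⟩

include hb P in
/-- The exceptional divisor is an exceptional curve of the first kind. -/
theorem isExcCurve : Models.IsExcCurve (jE π hx) := by
  obtain ⟨κ, hκ, e, he⟩ := exists_P1 hb P
  rw [Models.IsExcCurve, Scheme.IdealSheafData.ker_subschemeι]
  exact ⟨hb.1, κ, hκ, e, he⟩

include hb P in
/-- The blow-up contracts the exceptional divisor. -/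
theorem isContractionOf [CompactSpace X] (hreg : IsRegularLocalRing (X.presheaf.stalk x))
    (hd : ringKrullDim (X.presheaf.stalk x) = 2) : Models.IsContractionOf (jE π hx) π := by
  refine ⟨{ }, isProper hb, x, hx, ?_, hreg, hd, hb⟩
  haveI := isIntegral_E hb P
  refine Set.eq_singleton_iff_nonempty_unique_mem.2 ⟨⟨_, genericPoint _, rfl⟩, ?_⟩
  rintro _ ⟨y, rfl⟩
  have h : jE π hx y ∈ (((pointIdeal hx).comap π).support : Set X') := by
    rw [← Scheme.IdealSheafData.range_subschemeι]; exact ⟨y, rfl⟩
  rw [Scheme.IdealSheafData.support_comap, TopologicalSpace.Closeds.coe_preimage,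
    Scheme.IdealSheafData.coe_support_vanishingIdeal] at h
  exact h

include hb in
omit [IsLocallyNoetherian X] in
/-- Composing a contraction sequence with one further point blow-up. -/
theorem isContractionSeq_comp [IsNoetherian X] {Y : Scheme.{u}} {r : X ⟶ Y} (hr : Models.IsContractionSeq r)
    (hreg : IsRegularLocalRing (X.presheaf.stalk x)) (hd : ringKrullDim (X.presheaf.stalk x) = 2) :
    Models.IsContractionSeq (π ≫ r) := by
  obtain ⟨P⟩ := exists_pointParams hx hreg hd
  exact .step (jE π hx) π r inferInstance (isExcCurve hb P) (isContractionOf hb P hreg hd) hr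

end Groth.Agent.SurfPtBlow
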