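import Groth.Agent.SurfPtBlow.LocalExtend
import Groth.Agent.SurfPtBlow.Exc

/-!
# Sections of the blow-up of a regular point and morphisms contracting the exceptional curve
-/

set_option autoImplicit false
set_option backward.isDefEq.respectTransparency false
set_option linter.style.haveILetI false
set_option maxHeartbeats 1000000

universe u

open CategoryTheory CategoryTheory.Limits AlgebraicGeometry TopologicalSpace
open Groth.Agent.TwistShriek Groth.Agent.TwistShriek.PointBlow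

noncomputable section

namespace Groth.Agent.SurfPtBlow

variable {X X' : Scheme.{u}} {x : X} {hx : IsClosed ({x} : Set X)} {π : X' ⟶ X} [IsNoetherian X]
  (hb : BlowUp.IsBlowUp π (pointIdeal hx))

include hb in
/-- **`O_X = π_* O_{X'}`** for the blow-up of a closed point with regular two-dimensional local ring. -/
theorem bijective_app_blowUp (hreg : IsRegularLocalRing (X.presheaf.stalk x))
    (hd : ringKrullDim (X.presheaf.stalk x) = 2) (O : X.Opens) : Function.Bijective (π.app O) := by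
  haveI := hreg
  haveI := RegLocal.isDomain (X.presheaf.stalk x)
  haveI := PointBlow.isProper hb
  obtain ⟨W₀, hxW₀, -, hint⟩ := exists_integral_nhd x ⊤ trivial
  haveI := hint
  obtain ⟨hint', hbir⟩ := (PtSeq.single π x hx hreg hd hb).integral_restrict W₀
  haveI := hint'
  have hW₀ : ∀ T : W₀.toScheme.Opens, Function.Bijective ((π ∣_ W₀).app T) :=
    bijective_app_of_normal_or_iso (π ∣_ W₀) hbir fun z => by
      by_cases hz : W₀.ι z = x
      · haveI : IsRegularLocalRing (W₀.toScheme.presheaf.stalk z) := by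
          have key : ∀ w : X, w = x → IsRegularLocalRing (X.presheaf.stalk w) := by
            rintro w rfl; exact hreg
          haveI := key _ hz
          exact IsRegularLocalRing.of_ringEquiv (R := X.presheaf.stalk (W₀.ι z))
            (W₀.stalkIso z).symm.commRingCatIsoToRingEquiv
        exact Or.inl (PurityLib.isIntegrallyClosed_of_regular _).2
      · let C : X.Opens := ⟨{x}ᶜ, hx.isOpen_compl⟩
        refine Or.inr ⟨W₀.ι ⁻¹ᵁ C, hz, ?_⟩
        refine ((MorphismProperty.isomorphisms Scheme).arrow_mk_iso_iff (morphismRestrictRestrict π W₀ _)).2 ?_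
        exact isIso_restrict_compl hb _ fun ⟨w, hw, hwx⟩ => hw hwx
  refine ParaFPullLib.bijective_app_of_small_affine π (fun W => W ≤ W₀ ∨ x ∉ W) ?_ ?_ O
  · intro O t ht
    by_cases h : t = x
    · exact ⟨O ⊓ W₀, Or.inl inf_le_right, ⟨ht, h ▸ hxW₀⟩, inf_le_left⟩
    · exact ⟨O ⊓ ⟨{x}ᶜ, hx.isOpen_compl⟩, Or.inr fun h => h.2 rfl, ⟨ht, h⟩, inf_le_left⟩
  rintro W (hW | hW)
  · have h := hW₀ (W₀.ι ⁻¹ᵁ W)
    have h' : Function.Bijective (π.app (W₀.ι ''ᵁ (W₀.ι ⁻¹ᵁ W))) := by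
      haveI : IsIso ((π ∣_ W₀).app (W₀.ι ⁻¹ᵁ W)) := (ConcreteCategory.isIso_iff_bijective _).2 h
      haveI : IsIso (π.app (W₀.ι ''ᵁ (W₀.ι ⁻¹ᵁ W)) ≫
          X'.presheaf.map (eqToHom (image_morphismRestrict_preimage π W₀ (W₀.ι ⁻¹ᵁ W))).op) := by
        rw [← morphismRestrict_app]; infer_instance
      haveI := IsIso.of_isIso_comp_right (π.app (W₀.ι ''ᵁ (W₀.ι ⁻¹ᵁ W)))
        (X'.presheaf.map (eqToHom (image_morphismRestrict_preimage π W₀ (W₀.ι ⁻¹ᵁ W))).op)
      exact ConcreteCategory.bijective_of_isIso _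
    have key : ∀ T : X.Opens, T = W → Function.Bijective (π.app T) → Function.Bijective (π.app W) := by
      rintro T rfl h; exact h
    exact key _ (by rw [Scheme.Hom.image_preimage_eq_opensRange_inf, Scheme.Opens.opensRange_ι, inf_eq_right.2 hW]) h'
  · haveI := isIso_restrict_compl hb W hW
    exact bijective_app_of_isIso_restrict π W W le_rfl

include hb in
theorem surjective_blowUp (hreg : IsRegularLocalRing (X.presheaf.stalk x))
    (hd : ringKrullDim (X.presheaf.stalk x) = 2) : Function.Surjective π := by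
  intro z
  by_contra hz
  haveI := PointBlow.isProper hb
  let O : X.Opens := ⟨(Set.range π)ᶜ, π.isClosedMap.isClosed_range.isOpen_compl⟩
  have h0 : π ⁻¹ᵁ O = ⊥ := Opens.ext (Set.eq_empty_iff_forall_notMem.2 fun w hw => hw ⟨w, rfl⟩)
  haveI : Subsingleton Γ(X', π ⁻¹ᵁ O) := h0 ▸ inferInstance
  have hsub : Subsingleton Γ(X, O) := (bijective_app_blowUp hb hreg hd O).1.subsingleton
  have h1 : (0 : X.presheaf.stalk z) = 1 := by
    rw [← map_zero (X.presheaf.germ O z hz).hom, ← map_one (X.presheaf.germ O z hz).hom, hsub.elim (0 : Γ(X, O)) 1]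
  exact zero_ne_one h1

include hb in
/-- Morphisms constant on the exceptional curve descend uniquely. -/
theorem existsUnique_desc (hreg : IsRegularLocalRing (X.presheaf.stalk x))
    (hd : ringKrullDim (X.presheaf.stalk x) = 2) {Y : Scheme.{u}} (φ : X' ⟶ Y) (y : Y)
    (hφ : ∀ z, π z = x → φ z = y) : ∃! ψ : X ⟶ Y, π ≫ ψ = φ := by
  haveI := PointBlow.isProper hb
  have hsurj := surjective_blowUp hb hreg hd
  let C : X.Opens := ⟨{x}ᶜ, hx.isOpen_compl⟩
  haveI hisoC : IsIso (π ∣_ C) := isIso_restrict_compl hb C fun h => h rfl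
  obtain ⟨_, ⟨V : Y.Opens, hV, rfl⟩, hyV, -⟩ := Y.isBasis_affineOpens.exists_subset_of_mem_open (Set.mem_univ y) isOpen_univ
  let W' : X.Opens := ⟨(π '' ((φ ⁻¹ᵁ V : X'.Opens) : Set X')ᶜ)ᶜ,
    (π.isClosedMap _ (φ ⁻¹ᵁ V).2.isClosed_compl).isOpen_compl⟩
  have hxW' : x ∈ W' := fun ⟨z, hz, hzx⟩ => hz (show φ z ∈ V from (hφ z hzx).symm ▸ hyV)
  obtain ⟨_, ⟨W : X.Opens, hW, rfl⟩, hxW, hWW⟩ := X.isBasis_affineOpens.exists_subset_of_mem_open hxW' W'.2
  have hle : π ⁻¹ᵁ W ≤ φ ⁻¹ᵁ V := fun z hz => by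
    by_contra h
    exact hWW hz ⟨z, h, rfl⟩
  let e := CommRingCat.ofHom (RingEquiv.ofBijective (π.app W).hom (bijective_app_blowUp hb hreg hd W)).symm.toRingHom
  let ρ : Γ(Y, V) ⟶ Γ(X, W) := φ.appLE V (π ⁻¹ᵁ W) hle ≫ e
  haveI : IsAffine V.toScheme := hV
  haveI : IsAffine W.toScheme := hW
  let ψW : W.toScheme ⟶ Y := hW.isoSpec.hom ≫ Spec.map ρ ≫ hV.fromSpec
  have hρ : ρ ≫ π.app W = φ.appLE V (π ⁻¹ᵁ W) hle := by
    refine CommRingCat.hom_ext (RingHom.ext fun a => ?_)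
    exact (RingEquiv.ofBijective (π.app W).hom (bijective_app_blowUp hb hreg hd W)).apply_symm_apply _
  have hψW : (π ∣_ W) ≫ ψW = (π ⁻¹ᵁ W).ι ≫ φ := by
    have h1 : (π ∣_ W) ≫ hW.isoSpec.hom = (π ⁻¹ᵁ W).toSpecΓ ≫ Spec.map (π.app W) := by
      show (π ∣_ W) ≫ W.toSpecΓ = _
      rw [Scheme.Hom.app_eq_appLE, Scheme.Opens.toSpecΓ_SpecMap_appLE]
      simp [Scheme.Hom.resLE_eq_morphismRestrict]
    show (π ∣_ W) ≫ hW.isoSpec.hom ≫ Spec.map ρ ≫ hV.fromSpec = _
    rw [reassoc_of% h1, ← Spec.map_comp_assoc, hρ, Scheme.Opens.toSpecΓ_SpecMap_appLE_assoc]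
    rw [show V.toSpecΓ ≫ hV.fromSpec = V.ι from by
      show hV.isoSpec.hom ≫ hV.fromSpec = V.ι
      rw [← hV.isoSpec_inv_ι, Iso.hom_inv_id_assoc]]
    exact Scheme.Hom.resLE_comp_ι φ hle
  let ψC : C.toScheme ⟶ Y := inv (π ∣_ C) ≫ (π ⁻¹ᵁ C).ι ≫ φ
  have hψC : (π ∣_ C) ≫ ψC = (π ⁻¹ᵁ C).ι ≫ φ := IsIso.hom_inv_id_assoc _ _
  have hcov : (⨆ b : Bool, (bif b then W else C)) = ⊤ := eq_top_iff.2 fun z _ => by
    by_cases h : z = x
    · exact Opens.mem_iSup.2 ⟨true, h ▸ hxW⟩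
    · exact Opens.mem_iSup.2 ⟨false, h⟩
  have hagree : X.homOfLE (inf_le_left : W ⊓ C ≤ W) ≫ ψW = X.homOfLE (inf_le_right : W ⊓ C ≤ C) ≫ ψC := by
    haveI : IsIso (π ∣_ (W ⊓ C)) := isIso_restrict_compl hb _ fun h => h.2 rfl
    rw [← cancel_epi (π ∣_ (W ⊓ C))]
    have h1 : ∀ (T : X.Opens) (hT : W ⊓ C ≤ T),
        (π ∣_ (W ⊓ C)) ≫ X.homOfLE hT = X'.homOfLE (π.preimage_mono hT) ≫ (π ∣_ T) := fun T hT => by
      rw [← cancel_mono T.ι]
      simp [morphismRestrict_ι]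
    rw [reassoc_of% (h1 W inf_le_left), reassoc_of% (h1 C inf_le_right), hψW, hψC, Scheme.homOfLE_ι_assoc,
      Scheme.homOfLE_ι_assoc]
  let O : Bool → X.Opens := fun b => bif b then W else C
  let 𝒪 : X.OpenCover := X.openCoverOfIsOpenCover O hcov
  let H : ∀ b, (O b).toScheme ⟶ Y := fun b => match b with
    | true => ψW
    | false => ψC
  have hcompat : ∀ (o o' : Bool), pullback.fst (𝒪.f o) (𝒪.f o') ≫ H o = pullback.snd (𝒪.f o) (𝒪.f o') ≫ H o' := by
    have key : pullback.fst W.ι C.ι ≫ ψW = pullback.snd W.ι C.ι ≫ ψC := by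
      let q := (isPullback_opens_inf W C).isoPullback
      rw [← cancel_epi q.hom, (isPullback_opens_inf W C).isoPullback_hom_fst_assoc,
        (isPullback_opens_inf W C).isoPullback_hom_snd_assoc]
      exact hagree
    rintro (_ | _) (_ | _)
    · exact congrArg (· ≫ ψC) ((cancel_mono C.ι).1 pullback.condition)
    · show pullback.fst C.ι W.ι ≫ ψC = pullback.snd C.ι W.ι ≫ ψW
      rw [← pullbackSymmetry_hom_comp_snd C.ι W.ι, ← pullbackSymmetry_hom_comp_fst C.ι W.ι, Category.assoc,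
        Category.assoc, key]
    · exact key
    · exact congrArg (· ≫ ψW) ((cancel_mono W.ι).1 pullback.condition)
  refine ⟨𝒪.glueMorphisms H hcompat, ?_, fun ψ hψ => ?_⟩
  · show π ≫ _ = φ
    have hcov' : (⨆ b : Bool, π ⁻¹ᵁ O b) = ⊤ := by
      rw [← Scheme.Hom.preimage_iSup, hcov, Scheme.Hom.preimage_top]
    refine Scheme.Cover.hom_ext (X'.openCoverOfIsOpenCover _ hcov') _ _ fun b => ?_
    show (π ⁻¹ᵁ O b).ι ≫ π ≫ _ = (π ⁻¹ᵁ O b).ι ≫ φ
    rw [← morphismRestrict_ι_assoc, show (O b).ι ≫ 𝒪.glueMorphisms H hcompat = H b from 𝒪.ι_glueMorphisms H hcompat b]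
    cases b
    · exact hψC
    · exact hψW
  · have hψ' : ∀ z, ψ (π z) = φ z := fun z => by rw [← Scheme.Hom.comp_apply]; rw [show π ≫ ψ = φ from hψ]
    have hWV : W ≤ ψ ⁻¹ᵁ V := fun z hz => by
      obtain ⟨w, rfl⟩ := hsurj z
      show ψ (π w) ∈ V
      rw [hψ']
      exact hle hz
    refine Scheme.Cover.hom_ext 𝒪 _ _ fun b => ?_
    show (O b).ι ≫ ψ = (O b).ι ≫ _
    rw [show (O b).ι ≫ 𝒪.glueMorphisms H hcompat = H b from 𝒪.ι_glueMorphisms H hcompat b]
    cases b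
    · show C.ι ≫ ψ = ψC
      rw [← cancel_epi (π ∣_ C), hψC, morphismRestrict_ι_assoc, show π ≫ ψ = φ from hψ]
    · show W.ι ≫ ψ = ψW
      have h2 : φ.appLE V (π ⁻¹ᵁ W) hle = ψ.appLE V W hWV ≫ π.app W := by
        rw [Scheme.Hom.app_eq_appLE, Scheme.Hom.appLE_comp_appLE]
        have key : ∀ (g : X' ⟶ Y) (h : π ⁻¹ᵁ W ≤ g ⁻¹ᵁ V), g = φ → φ.appLE V (π ⁻¹ᵁ W) hle = g.appLE V (π ⁻¹ᵁ W) h := by
          rintro g h rfl; rfl
        exact key _ _ (show π ≫ ψ = φ from hψ)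
      have h3 : ρ = ψ.appLE V W hWV := by
        refine CommRingCat.hom_ext (RingHom.ext fun a => (bijective_app_blowUp hb hreg hd W).1 ?_)
        exact (ConcreteCategory.congr_hom hρ a).trans (ConcreteCategory.congr_hom h2 a)
      show W.ι ≫ ψ = hW.isoSpec.hom ≫ Spec.map ρ ≫ hV.fromSpec
      rw [h3, IsAffineOpen.SpecMap_appLE_fromSpec ψ hV hW hWV, ← hW.isoSpec_inv_ι]
      simp

end Groth.Agent.SurfPtBlow
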