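import Groth.Agent.SurfPtBlow.GenFibre
import Groth.Agent.SurfPtBlow.ArSurfFacts
import Groth.Agent.SurfPtBlow.PointPush
import Groth.Prelude.Def_Neron

/-!
# Contractions of arithmetic surfaces inducing isomorphisms on generic fibres
-/

set_option autoImplicit false
set_option backward.isDefEq.respectTransparency false
set_option linter.style.haveILetI false
set_option maxHeartbeats 1000000

universe u

open CategoryTheory CategoryTheory.Limits AlgebraicGeometry TopologicalSpace
open Groth.Agent.TwistShriek Groth.Agent.TwistShriek.PointBlow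

noncomputable section

namespace Groth.Agent.SurfPtBlow

variable {R : Type u} [CommRing R] [IsDedekindDomain R] {X Y : Over (Spec (CommRingCat.of R))}

theorem le_one_of_lt_two {a : WithBot ℕ∞} (h : a < 2) : a ≤ 1 := by
  induction a using WithBot.recBotCoe with
  | bot => exact bot_le
  | coe a =>
    have h' : a < 1 + 1 := by exact_mod_cast (show (a : WithBot ℕ∞) < ((2 : ℕ∞) : WithBot ℕ∞) from h)
    exact_mod_cast (ENat.lt_add_one_iff ENat.one_ne_top).1 h'

theorem genPt_apply (t : Spec (CommRingCat.of (FractionRing R))) :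
    Neron.genPt R t = genericPoint (Spec (CommRingCat.of R)) := by
  refine ((genericPoint_spec (Spec (CommRingCat.of R))).eq ?_).symm
  rw [isGenericPoint_iff_specializes]
  refine fun z => iff_of_true ((PrimeSpectrum.le_iff_specializes _ _).1 fun a ha => ?_) (Set.mem_univ _)
  have h0 : algebraMap R (FractionRing R) a ∈ (t : PrimeSpectrum (FractionRing R)).asIdeal := ha
  rw [(Ideal.eq_bot_or_top (t : PrimeSpectrum (FractionRing R)).asIdeal).resolve_right
    (t : PrimeSpectrum (FractionRing R)).2.ne_top, Ideal.mem_bot] at h0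
  rw [(map_eq_zero_iff _ (IsFractionRing.injective R (FractionRing R))).1 h0]
  exact Ideal.zero_mem _

instance : IsPreimmersion (Neron.genPt R) :=
  IsPreimmersion.of_isLocalization (R := R) (S := FractionRing R) (nonZeroDivisors R)

theorem range_genPt : Set.range (Neron.genPt R) = {genericPoint (Spec (CommRingCat.of R))} := by
  refine Set.eq_singleton_iff_nonempty_unique_mem.2 ⟨⟨_, ⟨Classical.arbitrary _, rfl⟩⟩, ?_⟩
  rintro _ ⟨t, rfl⟩
  exact genPt_apply t

/-- The generic fibre. -/
def genSet (X : Over (Spec (CommRingCat.of R))) : Set X.left :=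
  X.hom ⁻¹' {genericPoint (Spec (CommRingCat.of R))}

theorem range_fst (X : Over (Spec (CommRingCat.of R))) :
    Set.range (pullback.fst X.hom (Neron.genPt R)) = genSet X := by
  rw [Scheme.Pullback.range_fst, range_genPt]
  rfl

theorem genSet_preimage (f : X ⟶ Y) (a : X.left) : f.left a ∈ genSet Y ↔ a ∈ genSet X := by
  show Y.hom (f.left a) = _ ↔ X.hom a = _
  rw [← Scheme.Hom.comp_apply, Over.w f]

theorem genMap_fst (f : X ⟶ Y) :
    ((Neron.genericFibre R).map f).left ≫ pullback.fst Y.hom (Neron.genPt R) =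
      pullback.fst X.hom (Neron.genPt R) ≫ f.left := by
  simp

variable {f : X ⟶ Y} (hf : IsIso ((Neron.genericFibre R).map f))

include hf in
theorem eq_of_genSet {a b : X.left} (ha : a ∈ genSet X) (hb : b ∈ genSet X) (h : f.left a = f.left b) : a = b := by
  haveI := hf
  haveI : IsIso ((Neron.genericFibre R).map f).left := inferInstance
  obtain ⟨a', rfl⟩ := (range_fst X).ge ha
  obtain ⟨b', rfl⟩ := (range_fst X).ge hb
  rw [← Scheme.Hom.comp_apply, ← Scheme.Hom.comp_apply, ← genMap_fst f, Scheme.Hom.comp_apply,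
    Scheme.Hom.comp_apply] at h
  rw [((Neron.genericFibre R).map f).left.homeomorph.injective
    ((pullback.fst Y.hom (Neron.genPt R)).isEmbedding.injective h)]

include hf in
theorem mem_range_of_genSet {b : Y.left} (hb : b ∈ genSet Y) : b ∈ Set.range f.left := by
  haveI := hf
  haveI : IsIso ((Neron.genericFibre R).map f).left := inferInstance
  obtain ⟨b', rfl⟩ := (range_fst Y).ge hb
  obtain ⟨a', rfl⟩ := ((Neron.genericFibre R).map f).left.homeomorph.surjective b'
  exact ⟨pullback.fst X.hom (Neron.genPt R) a', by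
    rw [← Scheme.Hom.comp_apply, ← genMap_fst f]; rfl⟩

theorem isIso_stalkMap_fst (X : Over (Spec (CommRingCat.of R))) (a : (pullback X.hom (Neron.genPt R) : Scheme)) :
    IsIso ((pullback.fst X.hom (Neron.genPt R)).stalkMap a) := by
  haveI : Flat (Neron.genPt R) := (HasRingHomProperty.Spec_iff (P := @Flat)).2 <| by
    show (algebraMap R (FractionRing R)).Flat
    rw [RingHom.flat_algebraMap_iff]
    exact IsLocalization.flat (FractionRing R) (nonZeroDivisors R)
  let p := pullback.fst X.hom (Neron.genPt R)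
  haveI : Flat p := MorphismProperty.pullback_fst X.hom (Neron.genPt R) inferInstance
  refine (ConcreteCategory.isIso_iff_bijective _).2 ⟨?_, p.stalkMap_surjective a⟩
  letI := (p.stalkMap a).hom.toAlgebra
  haveI : Module.Flat (X.left.presheaf.stalk (p a)) ((pullback X.hom (Neron.genPt R) : Scheme).presheaf.stalk a) :=
    Flat.stalkMap p a
  haveI : IsLocalHom (algebraMap (X.left.presheaf.stalk (p a))
      ((pullback X.hom (Neron.genPt R) : Scheme).presheaf.stalk a)) := inferInstanceAs (IsLocalHom (p.stalkMap a).hom)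
  haveI := Module.FaithfullyFlat.of_flat_of_isLocalHom (A := X.left.presheaf.stalk (p a))
    (B := (pullback X.hom (Neron.genPt R) : Scheme).presheaf.stalk a)
  exact FaithfulSMul.algebraMap_injective (X.left.presheaf.stalk (p a))
    ((pullback X.hom (Neron.genPt R) : Scheme).presheaf.stalk a)

include hf in
theorem isIso_stalkMap_of_genSet {a : X.left} (ha : a ∈ genSet X) : IsIso (f.left.stalkMap a) := by
  haveI := hf
  haveI : IsIso ((Neron.genericFibre R).map f).left := inferInstance
  obtain ⟨a', rfl⟩ := (range_fst X).ge ha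
  let p := pullback.fst X.hom (Neron.genPt R)
  let q := pullback.fst Y.hom (Neron.genPt R)
  let gK := ((Neron.genericFibre R).map f).left
  haveI := isIso_stalkMap_fst X a'
  haveI := isIso_stalkMap_fst Y (gK a')
  have key : ∀ (m : (pullback X.hom (Neron.genPt R) : Scheme) ⟶ Y.left), m = gK ≫ q → IsIso (m.stalkMap a') := by
    rintro m rfl
    rw [Scheme.Hom.stalkMap_comp]
    infer_instance
  have h := key (p ≫ f.left) (genMap_fst f).symm
  rw [Scheme.Hom.stalkMap_comp] at h
  exact IsIso.of_isIso_comp_right (f.left.stalkMap (p a')) (p.stalkMap a')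

theorem genericPoint_mem_genSet (hX : ArSurf.IsArithSurface R X) :
    haveI := hX.2.1; genericPoint X.left ∈ genSet X := by
  haveI := hX.2.1
  haveI := hX.2.2.2.1
  obtain ⟨a, ha, haη⟩ := Flat.generalizingMap X.hom
    (genericPoint_specializes (X.hom (genericPoint X.left)))
  rw [← (ha.antisymm (genericPoint_specializes a)).eq] at *
  exact haη

include hf in
/-- A regular flat projective scheme below an arithmetic surface with the same generic fibre. -/
theorem arith_of_generic_iso (hX : ArSurf.IsArithSurface R X)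
    (hYreg : ∀ y : Y.left, IsRegularLocalRing (Y.left.presheaf.stalk y))
    (hYproj : Neron.IsProjectiveOver R Y) (hYflat : Flat Y.hom) :
    ArSurf.IsArithSurface R Y ∧ ∃ V : Y.left.Opens, (V : Set Y.left).Nonempty ∧ IsIso (f.left ∣_ V) := by
  haveI := hX.2.1
  haveI := hYflat
  haveI := (arSurf_facts hX).1
  obtain ⟨n, i, hi, hiY⟩ := id hYproj
  haveI := hi
  haveI : IsProper (CohB1.ProjSpaceOver.toBase n (Spec (CommRingCat.of R))) := BCLib.isProper_toBase _ _
  haveI : IsProper Y.hom := hiY ▸ inferInstance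
  haveI : IsLocallyNoetherian Y.left := LocallyOfFiniteType.isLocallyNoetherian Y.hom
  haveI : IsProper (f.left ≫ Y.hom) := (Over.w f).symm ▸ inferInstance
  haveI : IsProper f.left := IsProper.of_comp f.left Y.hom
  have hsurj : Function.Surjective f.left := fun y => by
    obtain ⟨y₀, hy₀, hy₀η⟩ := Flat.generalizingMap Y.hom (genericPoint_specializes (Y.hom y))
    exact hy₀.mem_closed f.left.isClosedMap.isClosed_range (mem_range_of_genSet hf hy₀η)
  haveI : IrreducibleSpace Y.left := by
    haveI : Nonempty Y.left := ⟨f.left (genericPoint X.left)⟩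
    haveI : PreirreducibleSpace Y.left := ⟨hsurj.range_eq ▸ (by
      rw [← Set.image_univ]
      exact (PreirreducibleSpace.isPreirreducible_univ).image _ f.left.continuous.continuousOn)⟩
    exact ⟨inferInstance⟩
  haveI : ∀ y : Y.left, _root_.IsReduced (Y.left.presheaf.stalk y) := fun y => by
    haveI := hYreg y
    haveI := RegLocal.isDomain (Y.left.presheaf.stalk y)
    infer_instance
  haveI : IsReduced Y.left := isReduced_of_isReduced_stalk _
  haveI : IsIntegral Y.left := isIntegral_of_irreducibleSpace_of_isReduced _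
  have hYn : Pi1.IsNormalScheme Y.left := fun y => by
    haveI := hYreg y
    exact PurityLib.isIntegrallyClosed_of_regular _
  have hgen : f.left (genericPoint X.left) = genericPoint Y.left := by
    obtain ⟨x₀, hx₀⟩ := hsurj (genericPoint Y.left)
    exact (((genericPoint_specializes x₀).map f.left.continuous).trans (specializes_of_eq hx₀)).antisymm
      (genericPoint_specializes _) |>.eq
  have hst := isIso_stalkMap_of_genSet hf (genericPoint_mem_genSet hX)
  have h0η : ringKrullDim (Y.left.presheaf.stalk (genericPoint Y.left)) ≤ 1 :=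
    (ringKrullDim_eq_zero_of_field Y.left.functionField).le.trans zero_le_one
  obtain ⟨V, hηV, hV⟩ := BirQFLib.exists_nhd_isIso_of_dim_le_one hYn f.left hgen hst (genericPoint Y.left) h0η
  refine ⟨⟨hYreg, inferInstance, ?_, hYflat, hYproj⟩, V, ⟨_, hηV⟩, hV⟩
  have hle : topologicalKrullDim Y.left ≤ 2 :=
    (topologicalKrullDim_le_of_isClosedMap f.left.continuous f.left.isClosedMap hsurj).trans hX.2.2.1.le
  refine hle.antisymm ?_
  by_contra hlt
  push Not at hlt
  have h1 : ∀ y : Y.left, ringKrullDim (Y.left.presheaf.stalk y) ≤ 1 := fun y => by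
    rw [ringKrullDim_stalk_eq_coheight]
    refine (Order.coheight_le_krullDim y).trans ?_
    rw [← ASp.topologicalKrullDim_eq_krullDim]
    exact le_one_of_lt_two hlt
  choose W hW hWi using fun y => BirQFLib.exists_nhd_isIso_of_dim_le_one hYn f.left hgen hst y (h1 y)
  have hiso : IsIso f.left := (IsZariskiLocalAtTarget.iff_of_iSup_eq_top (P := MorphismProperty.isomorphisms Scheme) W
      (top_le_iff.1 fun y _ => Opens.mem_iSup.2 ⟨y, hW y⟩)).2 hWi
  haveI := hiso
  rw [← IsHomeomorph.topologicalKrullDim_eq _ f.left.homeomorph.isHomeomorph, hX.2.2.1] at hlt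
  exact lt_irrefl _ hlt

theorem isMaximal_of_ne_bot (hX : ArSurf.IsArithSurface R X) (q : Ideal Γ(X.left, ⊤)) [hq : q.IsPrime] (h : q ≠ ⊥) :
    q.IsMaximal := by
  haveI := hX.2.1
  haveI := (arSurf_facts hX).1
  haveI : Nonempty (⊤ : X.left.Opens) := ⟨⟨genericPoint X.left, trivial⟩⟩
  haveI : IsDomain Γ(X.left, ⊤) := inferInstance
  let α : R →+* Γ(X.left, ⊤) := ((Scheme.ΓSpecIso (CommRingCat.of R)).inv ≫ X.hom.appTop).hom
  letI := α.toAlgebra
  haveI : Algebra.IsIntegral R Γ(X.left, ⊤) := ⟨fun v => by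
    have hi : α.IsIntegral := RingHom.IsIntegral.trans _ _
      (RingHom.isIntegral_of_surjective _ (ConcreteCategory.bijective_of_isIso (Scheme.ΓSpecIso (CommRingCat.of R)).inv).2)
      (isIntegral_appTop_of_universallyClosed X.hom)
    exact hi v⟩
  refine Ideal.isMaximal_of_isIntegral_of_isMaximal_comap (R := R) q ?_
  exact Ideal.IsPrime.isMaximal (Ideal.IsPrime.comap _) fun h' => h (Ideal.eq_bot_of_comap_eq_bot h')

/-- The curves which can be contracted: those in reducible fibres over the ring of global functions. -/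
def badSet (X : Scheme.{u}) : Set X :=
  {ξ | ¬ IsClosed ({ξ} : Set X) ∧ ¬ IsPreirreducible (X.toSpecΓ ⁻¹' {X.toSpecΓ ξ})}

theorem isProper_toSpecΓ (hX : ArSurf.IsArithSurface R X) : IsProper X.left.toSpecΓ := by
  haveI := (arSurf_facts hX).1
  haveI : IsProper (X.left.toSpecΓ ≫ Spec.map X.hom.appTop ≫ (Spec (CommRingCat.of R)).isoSpec.inv) := by
    rw [← Scheme.toSpecΓ_naturality_assoc]
    simpa [Scheme.isoSpec] using (arSurf_facts hX).1
  exact IsProper.of_comp X.left.toSpecΓ (Spec.map X.hom.appTop ≫ (Spec (CommRingCat.of R)).isoSpec.inv)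

theorem finite_badSet (hX : ArSurf.IsArithSurface R X) : (badSet X.left).Finite := by
  haveI := hX.2.1
  haveI := (arSurf_facts hX).2
  haveI := isProper_toSpecΓ hX
  have hn : Pi1.IsNormalScheme X.left := fun y => by
    haveI := hX.1 y
    exact PurityLib.isIntegrallyClosed_of_regular _
  obtain ⟨Z, hZ, hηZ, hirr⟩ := exists_irreducible_fibres hn
  obtain ⟨S, hS, hSc, hSi, hSe⟩ := NoetherianSpace.exists_finite_set_isClosed_irreducible (α := X.left) hZ
  refine (hS.biUnion fun C hC => (Set.Subsingleton.finite (s := {ξ | ξ ∈ C ∧ ¬ IsClosed ({ξ} : Set X.left)}) ?_)).subset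
    fun ξ hξ => by
      obtain ⟨C, hC, hξC⟩ := Set.mem_sUnion.1 (hSe ▸ (by_contra fun h => hξ.2 (hirr ξ h) : ξ ∈ Z))
      exact Set.mem_biUnion hC ⟨hξC, hξ.1⟩
  obtain ⟨g, hg⟩ := QuasiSober.sober (hSi C hC) (hSc C hC)
  have hηC : genericPoint X.left ∉ C := fun h => hηZ (hSe ▸ Set.mem_sUnion_of_mem h hC)
  rintro a ⟨ha, ha'⟩ b ⟨hb, hb'⟩
  rw [eq_of_not_closed hX.2.2.1.le hg hηC ha ha', eq_of_not_closed hX.2.2.1.le hg hηC hb hb']

/-- Through a closed point of a normal surface and inside the zero set of a function there is a curve. -/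
theorem exists_curve_through {W : Scheme.{u}} [IsIntegral W] [IsNoetherian W] {y : W}
    (hd : ringKrullDim (W.presheaf.stalk y) = 2) (c : W.presheaf.stalk y) (hc : c ≠ 0)
    (hcm : c ∈ IsLocalRing.maximalIdeal (W.presheaf.stalk y)) :
    ∃ (ζ : W) (p : PrimeSpectrum (W.presheaf.stalk y)), ζ ⤳ y ∧ ζ ≠ y ∧ c ∈ p.asIdeal ∧ W.fromSpecStalk y p = ζ := by
  have hle : Ideal.span {c} ≤ IsLocalRing.maximalIdeal _ := (Ideal.span_singleton_le_iff_mem _).2 hcm
  obtain ⟨q, hq, hqle⟩ := Ideal.exists_minimalPrimes_le hle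
  haveI : q.IsPrime := hq.1.1
  let p : PrimeSpectrum (W.presheaf.stalk y) := ⟨q, inferInstance⟩
  refine ⟨_, p, ?_, fun h => ?_, hq.1.2 (Ideal.mem_span_singleton_self c), rfl⟩
  · exact (W.range_fromSpecStalk (x := y)).le ⟨p, rfl⟩
  · have h1 : W.fromSpecStalk y p = W.fromSpecStalk y (IsLocalRing.closedPoint _) := by
      rw [Scheme.fromSpecStalk_closedPoint]; exact h
    have h2 : q = IsLocalRing.maximalIdeal _ :=
      congrArg PrimeSpectrum.asIdeal ((W.fromSpecStalk y).isEmbedding.injective h1)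
    have h3 := Ideal.height_le_one_of_isPrincipal_of_mem_minimalPrimes (Ideal.span {c}) q hq
    rw [h2] at h3
    have h4 : ringKrullDim (W.presheaf.stalk y) ≤ ((1 : ℕ∞) : WithBot ℕ∞) := by
      rw [← IsLocalRing.maximalIdeal_height_eq_ringKrullDim]
      exact_mod_cast h3
    rw [hd] at h4
    exact absurd (WithBot.coe_le_coe.1 (show ((2 : ℕ∞) : WithBot ℕ∞) ≤ ((1 : ℕ∞) : WithBot ℕ∞) from h4)) (by decide)

include hf in
/-- Contracted curves lie in reducible fibres. -/
theorem contracted_subset_badSet (hX : ArSurf.IsArithSurface R X) (hY : ArSurf.IsArithSurface R Y)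
    (hbir : ∃ V : Y.left.Opens, (V : Set Y.left).Nonempty ∧ IsIso (f.left ∣_ V)) :
    contracted f.left ⊆ badSet X.left := by
  intro ξ hξ
  refine ⟨hξ.1, fun hirr => ?_⟩
  haveI := hX.2.1
  haveI := hY.2.1
  haveI := (arSurf_facts hX).2
  haveI := (arSurf_facts hY).2
  haveI := (arSurf_facts hX).1
  haveI := isProper_hom_left hX hY f
  let y := f.left ξ
  have hyg : y ∉ genSet Y := fun h => by
    refine hξ.1 ?_
    have hfib : f.left ⁻¹' {y} = {ξ} := Set.eq_singleton_iff_unique_mem.2 ⟨rfl, fun z (hz : f.left z = y) =>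
      eq_of_genSet hf ((genSet_preimage f z).1 (hz.symm ▸ h)) ((genSet_preimage f ξ).1 h) hz⟩
    rw [← hfib]
    exact hξ.2.preimage f.left.continuous
  have hYn : Pi1.IsNormalScheme Y.left := fun z => by
    haveI := hY.1 z
    exact PurityLib.isIntegrallyClosed_of_regular _
  obtain ⟨hyc, hd⟩ := closed_of_not_iso hY.1 hY.2.2.1.le f.left hbir y fun V hV => mem_not_iso_of_contracted f.left hξ V hV
  -- the ring of global functions does not change
  haveI : IsIso f.left.appTop := by
    refine (ConcreteCategory.isIso_iff_bijective _).2 ?_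
    exact bijective_app_of_normal_or_iso f.left hbir (fun z => Or.inl (hYn z).2) ⊤
  let q : Y.left ⟶ Spec Γ(X.left, ⊤) := Y.left.toSpecΓ ≫ Spec.map (inv f.left.appTop)
  have hq : f.left ≫ q = X.left.toSpecΓ := by
    show f.left ≫ Y.left.toSpecΓ ≫ _ = _
    rw [Scheme.toSpecΓ_naturality_assoc, ← Spec.map_comp, IsIso.inv_hom_id, Spec.map_id, Category.comp_id]
  let t := q y
  have hπξ : X.left.toSpecΓ ξ = t := by rw [← hq]; rfl
  haveI : IsDomain Γ(X.left, ⊤) := by
    haveI : Nonempty (⊤ : X.left.Opens) := ⟨⟨genericPoint X.left, trivial⟩⟩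
    infer_instance
  -- `t` is not the generic point
  have ht : t ≠ genericPoint (Spec Γ(X.left, ⊤)) := fun h => by
    refine hyg ?_
    show Y.hom (f.left ξ) = _
    have h1 : X.hom ξ = X.hom (genericPoint X.left) := by
      have e : X.hom = X.left.toSpecΓ ≫ Spec.map X.hom.appTop ≫ (Spec (CommRingCat.of R)).isoSpec.inv := by
        rw [← Scheme.toSpecΓ_naturality_assoc]
        simp [Scheme.isoSpec]
      conv_lhs => rw [e]
      conv_rhs => rw [e]
      rw [Scheme.Hom.comp_apply, Scheme.Hom.comp_apply X.left.toSpecΓ, hπξ, h, toSpecΓ_genericPoint]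
    rw [← Scheme.Hom.comp_apply, Over.w f, h1]
    exact genericPoint_mem_genSet hX
  -- hence closed
  let T := (t : PrimeSpectrum Γ(X.left, ⊤))
  have hTbot : T.asIdeal ≠ ⊥ := fun h => ht (((genericPoint_spec (Spec Γ(X.left, ⊤))).eq (by
    rw [isGenericPoint_iff_specializes]
    exact fun z => iff_of_true ((PrimeSpectrum.le_iff_specializes T z).1 (show T.asIdeal ≤ _ from h ▸ bot_le))
      (Set.mem_univ _))).symm)
  have hTmax : T.asIdeal.IsMaximal := isMaximal_of_ne_bot hX T.asIdeal hTbot
  obtain ⟨a, haT, ha0⟩ := (Submodule.ne_bot_iff _).1 hTbot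
  let γ : Γ(X.left, ⊤) →+* Y.left.presheaf.stalk y :=
    (inv f.left.appTop ≫ Y.left.presheaf.germ ⊤ y trivial).hom
  have hqs : Y.left.fromSpecStalk y ≫ q = Spec.map (CommRingCat.ofHom γ) := by
    show Y.left.fromSpecStalk y ≫ Y.left.toSpecΓ ≫ _ = _
    rw [Scheme.fromSpecStalk_toSpecΓ_assoc, ← Spec.map_comp]
    rfl
  have hcm : γ a ∈ IsLocalRing.maximalIdeal (Y.left.presheaf.stalk y) := by
    have h : q (Y.left.fromSpecStalk y (IsLocalRing.closedPoint _)) = t := by
      rw [Scheme.fromSpecStalk_closedPoint]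
    rw [← Scheme.Hom.comp_apply, hqs] at h
    have h' : T.asIdeal = (IsLocalRing.maximalIdeal (Y.left.presheaf.stalk y)).comap γ :=
      (congrArg PrimeSpectrum.asIdeal h).symm
    exact h'.le haT
  haveI : Nonempty (⊤ : Y.left.Opens) := ⟨⟨y, trivial⟩⟩
  have hc : γ a ≠ 0 := fun h => ha0 ((ConcreteCategory.bijective_of_isIso (inv f.left.appTop)).1
    (((germ_injective_of_isIntegral Y.left y (U := ⊤) trivial) (h.trans (map_zero _).symm)).trans (map_zero _).symm))
  obtain ⟨ζ, p, hζy, hne, hcp, hpζ⟩ := exists_curve_through hd (γ a) hc hcm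
  have hqζ : q ζ = t := by
    have h2 : q ζ ⤳ t := hζy.map q.continuous
    rw [← hpζ, ← Scheme.Hom.comp_apply, hqs] at h2 ⊢
    have h3 : p.asIdeal.comap γ ≤ T.asIdeal := (PrimeSpectrum.le_iff_specializes _ _).2 h2
    haveI : (p.asIdeal.comap γ).IsPrime := Ideal.IsPrime.comap γ
    have h4 : (p.asIdeal.comap γ).IsMaximal := isMaximal_of_ne_bot hX _ fun h =>
      ha0 (Ideal.mem_bot.1 (h ▸ (hcp : a ∈ p.asIdeal.comap γ)))
    exact PrimeSpectrum.ext (h4.eq_of_le hTmax.ne_top h3)
  have hζc : ¬ IsClosed ({ζ} : Set Y.left) := fun hc => hne (hζy.mem_closed hc rfl).symm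
  have hsurj : Function.Surjective f.left := fun z => by
    obtain ⟨hgen, -⟩ := BirQFLib.birational_of_isIso_restrict f.left _ hbir.choose_spec.1 hbir.choose_spec.2
    have hz := BirQFLib.denseRange_generic f.left hgen z
    rwa [f.left.isClosedMap.isClosed_range.closure_eq] at hz
  obtain ⟨ζ', hζ'⟩ := hsurj ζ
  have hζ'c : ¬ IsClosed ({ζ'} : Set X.left) := fun hc => hζc (by
    rw [← hζ', ← Set.image_singleton]; exact f.left.isClosedMap _ hc)
  have hne' : ζ' ≠ ξ := fun h => hne (hζ'.symm.trans (congrArg f.left h))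
  -- both curves lie in the same irreducible fibre
  have hcl : IsClosed ({t} : Set (Spec Γ(X.left, ⊤))) := (PrimeSpectrum.isClosed_singleton_iff_isMaximal T).2 hTmax
  have hin : ∀ z, z ∈ X.left.toSpecΓ ⁻¹' {t} ↔ X.left.toSpecΓ z = t := fun z => Iff.rfl
  rw [hπξ] at hirr
  obtain ⟨g, hg⟩ := QuasiSober.sober (α := X.left) ⟨⟨ξ, hπξ⟩, hirr⟩ (hcl.preimage X.left.toSpecΓ.continuous)
  have hη : genericPoint X.left ∉ X.left.toSpecΓ ⁻¹' {t} := fun h => ht ((hin _).1 h ▸ toSpecΓ_genericPoint)
  have hζt : ζ' ∈ X.left.toSpecΓ ⁻¹' {t} := by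
    rw [hin, ← hq, Scheme.Hom.comp_apply, hζ', hqζ]
  exact hne' ((eq_of_not_closed hX.2.2.1.le hg hη hζt hζ'c).trans
    (eq_of_not_closed hX.2.2.1.le hg hη hπξ hξ.1).symm)

end Groth.Agent.SurfPtBlow
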