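import Groth.Agent.SurfPtBlow.DvrMinimal
import Groth.Prelude.Def_Curve

/-!
# The mapping property for models of curves of positive genus
-/

set_option autoImplicit false
set_option backward.isDefEq.respectTransparency false
set_option linter.style.haveILetI false

universe u

open CategoryTheory CategoryTheory.Limits AlgebraicGeometry

noncomputable section

namespace Groth.Agent.SurfPtBlow

variable {R : Type u} [CommRing R] [IsDomain R] [IsDiscreteValuationRing R] {C X Y : Scheme.{u}}
  {f : C ⟶ Spec (CommRingCat.of (FractionRing R))}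

/-- What we use about a regular proper model. -/
theorem model_facts (hC : Curve.IsSmoothProperCurve (FractionRing R) C f)
    {p : X ⟶ Spec (CommRingCat.of R)} (hX : Models.IsRegularProperModel R X p C f) {g : C ⟶ X}
    (hg : IsPullback g f p (Spec.map (CommRingCat.ofHom (algebraMap R (FractionRing R))))) :
    IsProper p ∧ IsIntegral X ∧ IsNoetherian X ∧ topologicalKrullDim X ≤ 2 := by
  obtain ⟨⟨hflat, hlft, -, -⟩, hp, hreg⟩ := hX
  obtain ⟨-, -, hCi, hdC⟩ := hC
  haveI := hflat
  haveI := hlft
  haveI := hp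
  haveI := hCi
  haveI := isIntegral_model hg hreg
  haveI : IsLocallyNoetherian X := LocallyOfFiniteType.isLocallyNoetherian p
  haveI : CompactSpace X := QuasiCompact.compactSpace_of_compactSpace p
  haveI : IsNoetherian X := { }
  exact ⟨hp, inferInstance, inferInstance, dim_model hg hdC.le⟩

theorem minimal_mapping (hC : Curve.IsSmoothProperCurve (FractionRing R) C f) (hH0 : IsIso f.appTop)
    (hg : 0 < Models.curveGenus (FractionRing R) C f)
    {p : X ⟶ Spec (CommRingCat.of R)} {q : Y ⟶ Spec (CommRingCat.of R)}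
    (hX : Models.IsMinimalModel R X p C f) (hY : Models.IsRegularProperModel R Y q C f) {gX : C ⟶ X}
    (hgX : IsPullback gX f p (Spec.map (CommRingCat.ofHom (algebraMap R (FractionRing R))))) {gY : C ⟶ Y}
    (hgY : IsPullback gY f q (Spec.map (CommRingCat.ofHom (algebraMap R (FractionRing R))))) :
    (∃! b : Y ⟶ X, b ≫ p = q ∧ gY ≫ b = gX) ∧
      ∀ b : Y ⟶ X, b ≫ p = q → gY ≫ b = gX → Models.IsContractionSeq b := by
  obtain ⟨hp, hXi, hXn, hXd⟩ := model_facts hC hX.1 hgX
  obtain ⟨hq, hYi, hYn, hYd⟩ := model_facts hC hY hgY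
  obtain ⟨hfp, -, hCi, hdC⟩ := hC
  haveI := hp
  haveI := hq
  haveI := hXi
  haveI := hYi
  haveI := hXn
  haveI := hYn
  haveI := hCi
  haveI := hfp
  haveI : Flat p := hX.1.1.1
  refine exists_hom_to_minimal hX.1.2.2 hXd ⟨?_, toGlobal_surjective hgX hH0, not_subsingleton_H1 hgX hdC.le hg⟩
    hX.2 hY.2.2 hYd hgX hgY
  haveI := isOpenImmersion_gen hgX
  rw [← genericPoint_eq_of_isOpenImmersion gX]
  exact p_apply_gen hgX _

end Groth.Agent.SurfPtBlow
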