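import Groth.Agent.SurfPtBlow.PointPush
import Groth.Agent.S10829
import Groth.Agent.REqLib.P1Line

/-!
# The fibre of a contraction, and its universal property
-/

set_option autoImplicit false
set_option backward.isDefEq.respectTransparency false
set_option linter.style.haveILetI false

universe u

open CategoryTheory CategoryTheory.Limits AlgebraicGeometry TopologicalSpace
open Groth.Agent.TwistShriek Groth.Agent.TwistShriek.PointBlow

noncomputable section

namespace Groth.Agent.SurfPtBlow

variable {C X X' : Scheme.{u}} [IsNoetherian X] {ι : C ⟶ X} [IsClosedImmersion ι] {b : X ⟶ X'}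

/-- A contraction collapses nothing but the exceptional curve. -/
theorem range_eq_fibre (hE : Models.IsExcCurve ι) [IsNoetherian X'] {y : X'} (hy : IsClosed ({y} : Set X'))
    (hr : Set.range ((ι ≫ b).base : C → X') = {y}) (hreg : IsRegularLocalRing (X'.presheaf.stalk y))
    (hd : ringKrullDim (X'.presheaf.stalk y) = 2) (hb : BlowUp.IsBlowUp b (pointIdeal hy)) :
    Set.range ι = b ⁻¹' {y} := by
  obtain ⟨P⟩ := exists_pointParams hy hreg hd
  haveI := PointBlow.isProper hb
  haveI : IsLocallyNoetherian X := inferInstance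
  haveI := PointBlow.isIntegral_E hb P
  obtain ⟨-, k, hk, e, -⟩ := hE
  have hfib : Set.range (jE b hy) = b ⁻¹' {y} := by
    rw [Scheme.IdealSheafData.range_subschemeι]
    show (((pointIdeal hy).comap b).support : Set X) = _
    rw [Scheme.IdealSheafData.support_comap, TopologicalSpace.Closeds.coe_preimage,
      Scheme.IdealSheafData.coe_support_vanishingIdeal]
    rfl
  have hsub : Set.range ι ⊆ b ⁻¹' {y} := by
    rintro _ ⟨z, rfl⟩
    exact hr.le ⟨z, rfl⟩
  haveI : IsIntegral (CohB1.ProjSpace 1 k) := Groth.Agent.REqLib.isIntegral_proj_domain 1 k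
  haveI : Nonempty C := ⟨e.hom (genericPoint (CohB1.ProjSpace 1 k))⟩
  haveI : IsIntegral C := isIntegral_of_isOpenImmersion e.inv
  let η : X := ι (genericPoint C)
  obtain ⟨η', hη'⟩ : η ∈ Set.range (jE b hy) := hfib ▸ hsub ⟨_, rfl⟩
  refine hsub.antisymm ?_
  rw [← hfib]
  rintro _ ⟨z, rfl⟩
  have hclosed : IsClosed (Set.range ι) := ι.isClosedEmbedding.isClosed_range
  by_cases hg : η' = genericPoint (E b hy)
  · exact ((genericPoint_specializes z).map (jE b hy).continuous).mem_closed hclosed (hg ▸ hη' ▸ ⟨_, rfl⟩)
  -- otherwise the exceptional curve would be a point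
  exfalso
  have hsingle : Subsingleton C := ⟨fun a c => ι.isClosedEmbedding.injective (by
    have key : ∀ a : C, ι a = η := fun a => by
      obtain ⟨a', ha'⟩ : ι a ∈ Set.range (jE b hy) := hfib ▸ hsub ⟨_, rfl⟩
      have hsp : η' ⤳ a' := (jE b hy).isClosedEmbedding.isInducing.specializes_iff.1
        (by rw [ha', hη']; exact (genericPoint_specializes a).map ι.continuous)
      by_contra hne
      have h1 : a' < η' := lt_of_le_not_ge hsp fun h => hne (by rw [← ha', ← hη', (hsp.antisymm h).eq])
      have h2 : η' < genericPoint (E b hy) := lt_of_le_not_ge (genericPoint_specializes η')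
        fun h => hg (Specializes.antisymm h (genericPoint_specializes η')).eq
      have h3 := le_trans (Order.LTSeries.length_le_krullDim
        (((RelSeries.singleton _ a').snoc η' h1).snoc (genericPoint (E b hy)) (by simpa using h2)))
        (ASp.topologicalKrullDim_eq_krullDim.symm.le.trans (topologicalKrullDim_E_le hb P))
      norm_num at h3
    rw [key a, key c])⟩
  have h0 : topologicalKrullDim C ≤ 0 := topologicalKrullDim_zero_of_discreteTopology C
  have h1 : topologicalKrullDim C = 1 := by
    rw [← IsHomeomorph.topologicalKrullDim_eq _ (Scheme.homeoOfIso e).isHomeomorph]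
    exact_mod_cast Groth.Agent.S10829.result k 1
  rw [h1] at h0
  exact absurd h0 (by norm_num)

/-- **Universal property of a contraction.** -/
theorem contraction_existsUnique (hE : Models.IsExcCurve ι) (hb : Models.IsContractionOf ι b)
    {Y : Scheme.{u}} (φ : X ⟶ Y) (y : Y) (hφ : Set.range ((ι ≫ φ).base : C → Y) = {y}) :
    ∃! ψ : X' ⟶ Y, b ≫ ψ = φ := by
  obtain ⟨hN, -, y', hy', hr, hreg, hd, hbl⟩ := hb
  haveI := hN
  refine existsUnique_desc hbl hreg hd φ y fun z hz => ?_
  obtain ⟨w, rfl⟩ := (range_eq_fibre hE hy' hr hreg hd hbl).ge hz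
  exact hφ.le ⟨w, rfl⟩

end Groth.Agent.SurfPtBlow
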