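import Groth.Agent.SurfPtBlow.Push
import Groth.Agent.SurfPtBlow.Exc
import Groth.Agent.BlowChartLib.RegStalk
import Groth.Agent.ProjSmoothLib.Basic
import Groth.Agent.S2348
import Groth.Agent.PurityLib.Normal

/-!
# Sequences of blow-ups at regular closed points of dimension two
-/

set_option autoImplicit false
set_option backward.isDefEq.respectTransparency false
set_option linter.style.haveILetI false
set_option maxHeartbeats 1000000

universe u

open CategoryTheory CategoryTheory.Limits AlgebraicGeometry TopologicalSpace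
open Groth.Agent.TwistShriek Groth.Agent.TwistShriek.PointBlow

noncomputable section

namespace Groth.Agent.SurfPtBlow

/-- A composite of blow-ups at closed points with regular two-dimensional local rings. -/
inductive PtSeq : ∀ {Y X : Scheme.{u}}, (Y ⟶ X) → Prop
  | refl (X : Scheme.{u}) : PtSeq (𝟙 X)
  | step {Y Z X : Scheme.{u}} (b : Y ⟶ Z) (r : Z ⟶ X) (z : Z) (hz : IsClosed ({z} : Set Z))
      (hreg : IsRegularLocalRing (Z.presheaf.stalk z)) (hd : ringKrullDim (Z.presheaf.stalk z) = 2)
      (hb : BlowUp.IsBlowUp b (pointIdeal hz)) (hr : PtSeq r) : PtSeq (b ≫ r)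

theorem PtSeq.single {Y Z : Scheme.{u}} (b : Y ⟶ Z) (z : Z) (hz : IsClosed ({z} : Set Z))
    (hreg : IsRegularLocalRing (Z.presheaf.stalk z)) (hd : ringKrullDim (Z.presheaf.stalk z) = 2)
    (hb : BlowUp.IsBlowUp b (pointIdeal hz)) : PtSeq b := by
  have h := PtSeq.step b (𝟙 Z) z hz hreg hd hb (.refl Z)
  rwa [Category.comp_id] at h

theorem PtSeq.comp {Y X W : Scheme.{u}} {g : Y ⟶ X} (hg : PtSeq g) {r : X ⟶ W} (hr : PtSeq r) : PtSeq (g ≫ r) := by
  induction hg with
  | refl X => rwa [Category.id_comp]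
  | step b g' z hz hreg hd hb _ ih =>
    rw [Category.assoc]
    exact .step b _ z hz hreg hd hb (ih hr)

theorem PtSeq.isNoetherian {Y X : Scheme.{u}} {g : Y ⟶ X} (hg : PtSeq g) [hX : IsNoetherian X] :
    IsNoetherian Y ∧ IsProper g := by
  revert hX
  induction hg with
  | refl X => intro hX; exact ⟨hX, inferInstance⟩
  | step b r z hz hreg hd hb _ ih =>
    intro hX
    obtain ⟨h1, h2⟩ := ih
    haveI := h1
    haveI := h2
    haveI := PointBlow.isProper hb
    exact ⟨isNoetherian_blowUp hb, inferInstance⟩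

theorem PtSeq.isContractionSeq_comp {Y X W : Scheme.{u}} {g : Y ⟶ X} (hg : PtSeq g) [hX : IsNoetherian X]
    {r : X ⟶ W} (hr : Models.IsContractionSeq r) : Models.IsContractionSeq (g ≫ r) := by
  revert hX hr r
  induction hg with
  | refl X => intro hX r hr; rwa [Category.id_comp]
  | step b g' z hz hreg hd hb hg' ih =>
    intro hX r hr
    rw [Category.assoc]
    haveI := hg'.isNoetherian.1
    exact SurfPtBlow.isContractionSeq_comp hb (ih hr) hreg hd

theorem PtSeq.isContractionSeq {Y X : Scheme.{u}} {g : Y ⟶ X} (hg : PtSeq g) [IsNoetherian X] :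
    Models.IsContractionSeq g := by
  have h := hg.isContractionSeq_comp (.iso (Iso.refl X))
  rwa [Iso.refl_hom, Category.comp_id] at h

section

variable {X X' : Scheme.{u}} {x : X} {hx : IsClosed ({x} : Set X)} {π : X' ⟶ X}
variable [IsLocallyNoetherian X] (hb : BlowUp.IsBlowUp π (pointIdeal hx))

include hb in
/-- The blow-up of a regular scheme at a closed point of dimension two is regular. -/
theorem regular_blowUp (hreg : ∀ y : X, IsRegularLocalRing (X.presheaf.stalk y))
    (hd : ringKrullDim (X.presheaf.stalk x) = 2) (y : X') : IsRegularLocalRing (X'.presheaf.stalk y) := by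
  haveI := BlowChartLib.isLocallyNoetherian_blowUp (hb := hb)
  by_cases hy : π y ∈ (pointIdeal hx).support
  · obtain ⟨P⟩ := exists_pointParams hx (hreg x) hd
    obtain ⟨κ, hκ, e, -⟩ := exists_P1 hb P
    obtain ⟨w, rfl⟩ : y ∈ Set.range (jE π hx) := by
      have : y ∈ (((pointIdeal hx).comap π).support : Set X') := by
        rw [Scheme.IdealSheafData.support_comap]; exact hy
      rwa [← Scheme.IdealSheafData.range_subschemeι] at this
    haveI : Smooth (CohB1.ProjSpace.toSpec 1 κ) := ProjSmoothLib.smooth_toSpec 1 κ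
    haveI : Smooth (e.inv ≫ CohB1.ProjSpace.toSpec 1 κ) := inferInstance
    refine BlowChartLib.regular_stalk_of_divisor _ hb.1 w
      (BlowChartLib.regular_stalk_of_smooth (e.inv ≫ CohB1.ProjSpace.toSpec 1 κ) w ?_)
    rw [Subsingleton.elim ((e.inv ≫ CohB1.ProjSpace.toSpec 1 κ) w) (genericPoint (Spec (CommRingCat.of κ)))]
    exact inferInstanceAs (IsRegularLocalRing (Spec (CommRingCat.of κ)).functionField)
  · exact (BlowChartLib.regular_stalk_off_exceptional_iff _ π hb y hy).2 (hreg _)

theorem ne_generic [IsIntegral X] (hd : ringKrullDim (X.presheaf.stalk x) = 2) : x ≠ genericPoint X := fun h => by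
  subst h
  rw [ringKrullDim_eq_zero_of_isField (Field.toIsField X.functionField)] at hd
  exact absurd hd (by norm_num)

include hb in
theorem integral_blowUp [IsIntegral X] (hd : ringKrullDim (X.presheaf.stalk x) = 2) :
    IsIntegral X' ∧ ∃ V : X.Opens, (V : Set X).Nonempty ∧ IsIso (π ∣_ V) := by
  have hne : x ≠ genericPoint X := ne_generic hd
  refine ⟨(S2348.result (pointIdeal hx) (fun h => hne ?_) π hb).choose, ⟨{x}ᶜ, hx.isOpen_compl⟩,
    ⟨genericPoint X, fun h => hne h.symm⟩, isIso_restrict_compl hb _ (fun h => h rfl)⟩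
  have h1 : ((pointIdeal hx).support : Set X) = {x} := Scheme.IdealSheafData.coe_support_vanishingIdeal _
  rw [h, Scheme.IdealSheafData.support_bot] at h1
  exact (h1 ▸ (trivial : genericPoint X ∈ (Set.univ : Set X)) : genericPoint X ∈ ({x} : Set X)).symm

include hb in
/-- Blowing up a regular point keeps the first cohomology of the structure sheaf zero. -/
theorem subsingleton_HH_one_blowUp [IsIntegral X] (hreg : ∀ y : X, IsRegularLocalRing (X.presheaf.stalk y))
    (hd : ringKrullDim (X.presheaf.stalk x) = 2) (h : Subsingleton (Coh.HH X (Coh.structureModule X) 1)) :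
    Subsingleton (Coh.HH X' (Coh.structureModule X') 1) := by
  obtain ⟨P⟩ := exists_pointParams hx (hreg x) hd
  obtain ⟨hint, hbir⟩ := integral_blowUp hb hd
  haveI := hint
  haveI := PointBlow.isProper hb
  haveI := isIso_unitToPush π hbir fun (z : X) => by
    haveI := hreg z
    haveI := RegLocal.isDomain (X.presheaf.stalk z)
    exact (PurityLib.isIntegrallyClosed_of_regular (X.presheaf.stalk z)).2
  let u := (SheafOfModules.toSheaf X.ringCatSheaf).map (ClSub.unitToPush π)
  haveI : Subsingleton (Sheaf.H ((CohTop.push π.base).obj (Coh.toAb (Coh.structureModule X'))) 1) := by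
    have hs : Function.Surjective (Sheaf.H.map u 1) := fun y => ⟨Sheaf.H.map (inv u) 1 y, by
      rw [← Sheaf.H.map_comp_apply]
      exact (congrArg (fun k => Sheaf.H.map k 1 y) (IsIso.inv_hom_id u)).trans (Sheaf.H.map_id_apply _)⟩
    exact hs.subsingleton
  exact (bijective_edgeH hb P 1).2.subsingleton

end

/-- Point blow-ups of an integral regular scheme. -/
theorem PtSeq.invariants {Y X : Scheme.{u}} {g : Y ⟶ X} (hg : PtSeq g) [hX : IsNoetherian X] [hI : IsIntegral X]
    (hreg : ∀ x : X, IsRegularLocalRing (X.presheaf.stalk x)) :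
    IsIntegral Y ∧ (∀ y : Y, IsRegularLocalRing (Y.presheaf.stalk y)) ∧
      (∃ V : X.Opens, (V : Set X).Nonempty ∧ IsIso (g ∣_ V)) ∧
      (Subsingleton (Coh.HH X (Coh.structureModule X) 1) → Subsingleton (Coh.HH Y (Coh.structureModule Y) 1)) := by
  revert hX hI hreg
  induction hg with
  | refl X => intro hX hI hreg; exact ⟨hI, hreg, ⟨⊤, ⟨genericPoint X, trivial⟩, inferInstance⟩, id⟩
  | @step Y Z X b r z hz hreg' hd hb hr ih =>
    intro hX hI hreg
    obtain ⟨hint, hreg₁, ⟨V, hV, hiso⟩, hvan⟩ := ih hreg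
    haveI := hr.isNoetherian.1
    haveI := hint
    obtain ⟨hint', V', hV', hiso'⟩ := integral_blowUp hb hd
    refine ⟨hint', regular_blowUp hb hreg₁ hd, ?_, fun h => subsingleton_HH_one_blowUp hb hreg₁ hd (hvan h)⟩
    obtain ⟨hgr, -⟩ := BirQFLib.birational_of_isIso_restrict r V hV hiso
    haveI := hr.isNoetherian.2
    haveI := hiso
    have hc : IsClosed ({r z} : Set X) := by
      simpa only [Set.image_singleton] using r.isClosedMap _ hz
    have hηV : genericPoint X ∈ V := (genericPoint_specializes hV.some).mem_open V.2 hV.some_mem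
    have hne : r z ≠ genericPoint X := fun h => ne_generic hd (by
      have hzV : z ∈ r ⁻¹ᵁ V := show r z ∈ V from h.symm ▸ hηV
      have hgV : genericPoint _ ∈ r ⁻¹ᵁ V := show r (genericPoint _) ∈ V from hgr.symm ▸ hηV
      have e := (r ∣_ V).homeomorph.injective (a₁ := ⟨z, hzV⟩) (a₂ := ⟨_, hgV⟩) (Subtype.ext (by
        rw [Scheme.Hom.homeomorph_apply, Scheme.Hom.homeomorph_apply, morphismRestrict_base]
        exact h.trans hgr.symm))
      exact congrArg Subtype.val e)
    let W : X.Opens := V ⊓ ⟨{r z}ᶜ, hc.isOpen_compl⟩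
    refine ⟨W, ⟨genericPoint X, hηV, fun h => hne h.symm⟩, ?_⟩
    rw [morphismRestrict_comp]
    haveI : IsIso (r ∣_ W) := BMCohLib.isIso_restrict_le r (inf_le_left (b := (⟨{r z}ᶜ, hc.isOpen_compl⟩ : X.Opens)))
    haveI : IsIso (b ∣_ (r ⁻¹ᵁ W)) := isIso_restrict_compl hb _ fun h => h.2 rfl
    infer_instance

end Groth.Agent.SurfPtBlow
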