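import Groth.Agent.ModelDual.Generic
import Groth.Agent.DimFormulaLib.Scheme
import Groth.Agent.FibreVanishQC.BaseChange
import Groth.Agent.SteinConn.Special
import Groth.Agent.ASp.OnePoint
import Groth.Agent.SurfPtBlow.PtSeq
import Groth.Agent.S4932
import Groth.Prelude.Def_ModelsG

/-!
# Regular proper models: integrality, dimension, functions, first cohomology
-/

set_option autoImplicit false
set_option backward.isDefEq.respectTransparency false
set_option linter.style.haveILetI false
set_option maxHeartbeats 1000000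

universe u

open CategoryTheory CategoryTheory.Limits AlgebraicGeometry TopologicalSpace

noncomputable section

namespace Groth.Agent.SurfPtBlow

variable {R : Type u} [CommRing R] [IsDomain R] [IsDiscreteValuationRing R]

/-- Surfaces over a discrete valuation ring with constants `R` and nonzero first cohomology. -/
structure Good {Z : Scheme.{u}} [IsIntegral Z] (p : Z ⟶ Spec (CommRingCat.of R)) : Prop where
  gen_ne : p (genericPoint Z) ≠ IsLocalRing.closedPoint R
  surj : Function.Surjective (Coh.toGlobal p)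
  h1 : ¬ Subsingleton (Coh.HH Z (Coh.structureModule Z) 1)

/-- Proper birational morphisms onto normal schemes keep goodness. -/
theorem Good.comp {Z X : Scheme.{u}} [IsIntegral X] [IsIntegral Z] {p : X ⟶ Spec (CommRingCat.of R)} (hp : Good p)
    (hX : ∀ x : X, IsIntegrallyClosed (X.presheaf.stalk x)) (g : Z ⟶ X) [IsProper g]
    (hg : ∃ V : X.Opens, (V : Set X).Nonempty ∧ IsIso (g ∣_ V)) : Good (g ≫ p) := by
  obtain ⟨V, hV, hVi⟩ := id hg
  obtain ⟨hgen, -⟩ := BirQFLib.birational_of_isIso_restrict g V hV hVi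
  refine ⟨by rw [Scheme.Hom.comp_apply, hgen]; exact hp.gen_ne, fun a => ?_, fun hs => hp.h1 ?_⟩
  · obtain ⟨b, hb⟩ := (bijective_app_of_normal g hg hX ⊤).2 a
    obtain ⟨r, hr⟩ := hp.surj b
    refine ⟨r, ?_⟩
    rw [← hb, ← hr]
    rfl
  · haveI := isIso_unitToPush g hg hX
    haveI := hs
    let u := (SheafOfModules.toSheaf X.ringCatSheaf).map (ClSub.unitToPush g)
    have hsub : Subsingleton (Sheaf.H ((CohTop.push g.base).obj (Coh.toAb (Coh.structureModule Z))) 1) :=
      (injective_edgeH_one g.base (Coh.toAb (Coh.structureModule Z))).subsingleton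
    have hinj : Function.Injective (Sheaf.H.map u 1) := fun a b e => by
      have e' := congrArg (Sheaf.H.map (inv u) 1) e
      rwa [← Sheaf.H.map_comp_apply, ← Sheaf.H.map_comp_apply,
        show Sheaf.H.map (u ≫ inv u) 1 = Sheaf.H.map (𝟙 _) 1 from congrArg (fun k => Sheaf.H.map k 1) (IsIso.hom_inv_id u),
        Sheaf.H.map_id_apply, Sheaf.H.map_id_apply] at e'
    exact @Function.Injective.subsingleton _ _ (Sheaf.H.map u 1) hinj hsub

section Model

variable {C X : Scheme.{u}} {f : C ⟶ Spec (CommRingCat.of (FractionRing R))} {p : X ⟶ Spec (CommRingCat.of R)}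
  {g : C ⟶ X} (hg : IsPullback g f p (Spec.map (CommRingCat.ofHom (algebraMap R (FractionRing R)))))

theorem range_specGen : Set.range (Spec.map (CommRingCat.ofHom (algebraMap R (FractionRing R)))) =
    {(⟨⊥, Ideal.isPrime_bot⟩ : PrimeSpectrum R)} := by
  refine Set.eq_singleton_iff_nonempty_unique_mem.2 ⟨⟨_, IsLocalRing.closedPoint _, rfl⟩, ?_⟩
  rintro _ ⟨t, rfl⟩
  refine PrimeSpectrum.ext ?_
  show Ideal.comap (algebraMap R (FractionRing R)) t.asIdeal = ⊥
  rw [show (t : PrimeSpectrum (FractionRing R)).asIdeal = ⊥ from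
    ((IsSimpleOrder.eq_bot_or_eq_top _).resolve_right t.isPrime.ne_top)]
  exact Ideal.comap_bot_of_injective _ (IsFractionRing.injective R _)

include hg in
theorem isOpenImmersion_gen : IsOpenImmersion g := by
  obtain ⟨π, hπ⟩ := IsDiscreteValuationRing.exists_irreducible R
  letI : X.Over (Spec (CommRingCat.of R)) := ⟨p⟩
  exact ModelDual.isOpenImmersion_g R hπ (X := X) hg

include hg in
theorem p_apply_gen (c : C) : p (g c) ≠ IsLocalRing.closedPoint R := by
  have h1 : p (g c) = (⟨⊥, Ideal.isPrime_bot⟩ : PrimeSpectrum R) := by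
    have h2 : p (g c) ∈ Set.range (Spec.map (CommRingCat.ofHom (algebraMap R (FractionRing R)))) :=
      ⟨f c, by rw [← Scheme.Hom.comp_apply, ← hg.w, Scheme.Hom.comp_apply]⟩
    rwa [range_specGen] at h2
  rw [h1]
  exact fun h => IsDiscreteValuationRing.not_a_field R (congrArg PrimeSpectrum.asIdeal h).symm

include hg in
theorem mem_range_gen {x : X} (hx : p x ≠ IsLocalRing.closedPoint R) : x ∈ Set.range g := by
  have h1 : p x = (⟨⊥, Ideal.isPrime_bot⟩ : PrimeSpectrum R) := PrimeSpectrum.ext (by
    by_contra hne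
    exact hx (PrimeSpectrum.ext (IsLocalRing.eq_maximalIdeal ((p x : PrimeSpectrum R).isPrime.isMaximal hne))))
  rw [← hg.isoPullback_hom_fst, Scheme.Hom.comp_base, TopCat.coe_comp, Set.range_comp,
    Set.range_eq_univ.2 (Scheme.Hom.surjective hg.isoPullback.hom), Set.image_univ, Scheme.Pullback.range_fst]
  show p x ∈ Set.range (Spec.map (CommRingCat.ofHom (algebraMap R (FractionRing R))))
  rw [range_specGen]
  exact h1

include hg in
theorem isIntegral_model [Flat p] [LocallyOfFiniteType p] [IsIntegral C] (hreg : Models.IsRegularScheme X) :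
    IsIntegral X := by
  haveI : ∀ x : X, _root_.IsReduced (X.presheaf.stalk x) := fun x => by
    haveI := hreg x
    haveI : IsDomain (X.presheaf.stalk x) := RegLocal.isDomain _
    infer_instance
  haveI : AlgebraicGeometry.IsReduced X := isReduced_of_isReduced_stalk X
  haveI : LocallyOfFinitePresentation p := ASp.locallyOfFinitePresentation_of_noetherian p
  have hdense : DenseRange g := by
    rw [DenseRange, ← hg.isoPullback_hom_fst]
    show Dense (Set.range ((Limits.pullback.fst p _) ∘ hg.isoPullback.hom))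
    erw [Function.Surjective.range_comp (f := ⇑hg.isoPullback.hom)
      (Scheme.Hom.homeomorph hg.isoPullback.hom).surjective]
    rw [Scheme.Pullback.range_fst]
    refine Dense.preimage ?_ p.isOpenMap
    haveI := (PrimeSpectrum.denseRange_comap_iff_ker_le_nilRadical (algebraMap R (FractionRing R))).2
      (by rw [(RingHom.injective_iff_ker_eq_bot _).1 (IsFractionRing.injective R _)]; exact bot_le)
    exact this
  haveI : IrreducibleSpace X := by
    haveI : Nonempty X := ⟨g (genericPoint C)⟩
    refine (irreducibleSpace_def _).2 ?_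
    show IsIrreducible (Set.univ : Set X)
    rw [← hdense.closure_range, isIrreducible_iff_closure, ← Set.image_univ]
    exact (IrreducibleSpace.isIrreducible_univ C).image g g.continuous.continuousOn
  exact isIntegral_of_irreducibleSpace_of_isReduced X

include hg in
theorem toGlobal_surjective [Flat p] [IsProper p] (hH0 : IsIso f.appTop) :
    Function.Surjective (Coh.toGlobal p) := by
  obtain ⟨π, hπ⟩ := IsDiscreteValuationRing.exists_irreducible R
  letI : X.Over (Spec (CommRingCat.of R)) := ⟨p⟩
  haveI : CompactSpace X := QuasiCompact.compactSpace_of_compactSpace p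
  haveI : Flat (X ↘ Spec (CommRingCat.of R)) := ‹Flat p›
  have hinj := ModelDual.appTop_injective R hπ (X := X) hg
  haveI := hH0
  intro a
  let i := Scheme.ΓSpecIso (CommRingCat.of (FractionRing R))
  let Φ : Γ(X, ⊤) →+* FractionRing R := (g.appTop ≫ inv f.appTop ≫ i.hom).hom
  have hΦ : Φ.comp (Coh.toGlobal p) = algebraMap R (FractionRing R) := RingHom.ext fun r => by
    show ((Scheme.ΓSpecIso (CommRingCat.of R)).inv ≫ p.appTop ≫ g.appTop ≫ inv f.appTop ≫ i.hom).hom r = _
    rw [← Scheme.Hom.comp_appTop_assoc, hg.w, Scheme.Hom.comp_appTop_assoc, ← Scheme.ΓSpecIso_inv_naturality_assoc]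
    simp [i]
  have hint : _root_.IsIntegral R (Φ a) := by
    obtain ⟨q, hq, hqa⟩ := (RingHom.IsIntegral.trans _ _
      (RingHom.isIntegral_of_surjective _ (ConcreteCategory.bijective_of_isIso (Scheme.ΓSpecIso (CommRingCat.of R)).inv).2)
      (isIntegral_appTop_of_universallyClosed p) : (p.appTop.hom.comp (Scheme.ΓSpecIso (CommRingCat.of R)).inv.hom).IsIntegral) a
    refine ⟨q, hq, ?_⟩
    have := congrArg Φ hqa
    rw [map_zero, Polynomial.hom_eval₂] at this
    rw [← hΦ]
    exact this
  obtain ⟨r, hr⟩ := IsIntegrallyClosed.isIntegral_iff.1 hint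
  refine ⟨r, hinj ((ConcreteCategory.bijective_of_isIso (inv f.appTop ≫ i.hom)).1 ?_)⟩
  show Φ (Coh.toGlobal p r) = Φ a
  rw [← hr, ← hΦ]
  rfl

include hg in
theorem dim_fibres [IsIntegral C] [IsIntegral X] [IsProper p] (hdC : topologicalKrullDim C ≤ 1) :
    topologicalKrullDim (p ⁻¹' {IsLocalRing.closedPoint R}) ≤ 1 ∧
      ∀ s, topologicalKrullDim ↥(p.fiber s) ≤ (1 : ℕ) := by
  haveI := isOpenImmersion_gen hg
  let η : Spec (CommRingCat.of R) := (⟨⊥, Ideal.isPrime_bot⟩ : PrimeSpectrum R)
  have hη0 : (η : PrimeSpectrum R).asIdeal = ⊥ := rfl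
  have hgenη : genericPoint (Spec (CommRingCat.of R)) = η :=
    ((genericPoint_specializes η).antisymm ((PrimeSpectrum.le_iff_specializes η _).1 bot_le)).eq
  have hrange : p ⁻¹' {η} = Set.range g := Set.ext fun x =>
    ⟨fun hx => mem_range_gen hg fun h => IsDiscreteValuationRing.not_a_field R
      (congrArg PrimeSpectrum.asIdeal ((Set.mem_singleton_iff.1 hx).symm.trans h)).symm, by
      rintro ⟨c, rfl⟩
      have h2 : p (g c) ∈ Set.range (Spec.map (CommRingCat.ofHom (algebraMap R (FractionRing R)))) :=
        ⟨f c, by rw [← Scheme.Hom.comp_apply, ← hg.w, Scheme.Hom.comp_apply]⟩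
      rwa [range_specGen] at h2⟩
  have hη : topologicalKrullDim (p ⁻¹' {η}) ≤ 1 := by
    rw [hrange]
    exact ((g.isEmbedding.toHomeomorph).symm.isHomeomorph.topologicalKrullDim_eq).le.trans hdC
  haveI : IsDominant p := ⟨by
    rw [DenseRange, dense_iff_closure_eq, Set.eq_univ_iff_forall]
    intro z
    exact closure_mono (Set.singleton_subset_iff.2 (show η ∈ Set.range p from ⟨g (genericPoint C), hrange.ge ⟨_, rfl⟩⟩))
      ((PrimeSpectrum.le_iff_specializes η z).1 bot_le).mem_closure⟩
  have hcl : topologicalKrullDim (p ⁻¹' {IsLocalRing.closedPoint R}) ≤ 1 := by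
    by_cases hne : Nonempty ↥(p.fiber (IsLocalRing.closedPoint R))
    · rw [← IsHomeomorph.topologicalKrullDim_eq _ (p.fiberHomeo _).isHomeomorph,
        S4932.result p hne, IsHomeomorph.topologicalKrullDim_eq _ (p.fiberHomeo _).isHomeomorph, hgenη]
      exact hη
    · rw [not_nonempty_iff] at hne
      haveI : IsEmpty ↥(p ⁻¹' {IsLocalRing.closedPoint R}) := (p.fiberHomeo _).symm.toEquiv.isEmpty
      exact le_trans (topologicalKrullDim_zero_of_discreteTopology _) zero_le_one
  refine ⟨hcl, fun s => ?_⟩
  rw [IsHomeomorph.topologicalKrullDim_eq _ (p.fiberHomeo s).isHomeomorph, Nat.cast_one]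
  by_cases hs : s = IsLocalRing.closedPoint R
  · subst hs; exact hcl
  · rw [show s = η from PrimeSpectrum.ext (by
      by_contra hne
      exact hs (PrimeSpectrum.ext (IsLocalRing.eq_maximalIdeal ((s : PrimeSpectrum R).isPrime.isMaximal hne))))]
    exact hη

include hg in
theorem dim_model [IsIntegral C] [IsIntegral X] [IsNoetherian X] [IsProper p] (hdC : topologicalKrullDim C ≤ 1) :
    topologicalKrullDim X ≤ 2 := by
  haveI := isOpenImmersion_gen hg
  rw [DimFormulaLib.topologicalKrullDim_eq_iSup_stalk]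
  refine iSup_le fun x => ?_
  by_cases hx : p x = IsLocalRing.closedPoint R
  · obtain ⟨π, hπ⟩ := IsDiscreteValuationRing.exists_irreducible R
    let c : X.presheaf.stalk x := (X.presheaf.germ ⊤ x trivial).hom (Coh.toGlobal p π)
    have hcm : c ∈ IsLocalRing.maximalIdeal (X.presheaf.stalk x) := by
      by_contra hu
      rw [IsLocalRing.mem_maximalIdeal, mem_nonunits_iff, not_not] at hu
      have h1 : x ∈ X.basicOpen (Coh.toGlobal p π) := (Scheme.mem_basicOpen (U := ⊤) X _ x trivial).2 hu
      have h2 : p x ∈ PrimeSpectrum.basicOpen π := by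
        have h3 : x ∈ p ⁻¹ᵁ (Spec (CommRingCat.of R)).basicOpen ((Scheme.ΓSpecIso (CommRingCat.of R)).inv π) := by
          rw [Scheme.preimage_basicOpen]; exact h1
        rw [AlgebraicGeometry.basicOpen_eq_of_affine (R := CommRingCat.of R) π] at h3
        exact h3
      rw [hx] at h2
      exact h2 (hπ.maximalIdeal_eq.ge (Ideal.mem_span_singleton_self _))
    refine (ringKrullDim_le_ringKrullDim_quotient_add_card {c} (by
      simpa [IsLocalRing.ringJacobson_eq_maximalIdeal] using hcm)).trans ?_
    rw [Finset.coe_singleton, Finset.card_singleton, Nat.cast_one]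
    refine le_trans (add_le_add_left (?_ : _ ≤ (1 : WithBot ℕ∞)) 1) le_rfl
    rw [← PrimeSpectrum.topologicalKrullDim_eq_ringKrullDim]
    let q : Spec (CommRingCat.of (X.presheaf.stalk x ⧸ Ideal.span {c})) ⟶ Spec (X.presheaf.stalk x) :=
      Spec.map (CommRingCat.ofHom (Ideal.Quotient.mk (Ideal.span {c})))
    haveI : IsClosedImmersion q := IsClosedImmersion.spec_of_surjective _ Ideal.Quotient.mk_surjective
    have hin : ∀ t, (q ≫ X.fromSpecStalk x) t ∈ p ⁻¹' {IsLocalRing.closedPoint R} := fun t => by
      by_contra hne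
      have h1 : (q ≫ X.fromSpecStalk x) t ∈ X.basicOpen (Coh.toGlobal p π) := by
        have h2 : p ((q ≫ X.fromSpecStalk x) t) ∈ PrimeSpectrum.basicOpen π := fun hmem => hne (by
          refine Set.mem_singleton_iff.2 (PrimeSpectrum.ext ?_)
          refine ((IsLocalRing.maximalIdeal.isMaximal R).eq_of_le (PrimeSpectrum.isPrime _).ne_top ?_).symm
          rw [hπ.maximalIdeal_eq, Ideal.span_singleton_le_iff_mem]
          exact hmem)
        rw [← AlgebraicGeometry.basicOpen_eq_of_affine (R := CommRingCat.of R) π] at h2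
        have h3 : (q ≫ X.fromSpecStalk x) t ∈ p ⁻¹ᵁ (Spec (CommRingCat.of R)).basicOpen
            ((Scheme.ΓSpecIso (CommRingCat.of R)).inv π) := h2
        rwa [Scheme.preimage_basicOpen] at h3
      have h4 : q t ∈ X.fromSpecStalk x ⁻¹ᵁ X.basicOpen (Coh.toGlobal p π) := h1
      rw [Scheme.preimage_basicOpen] at h4
      change q t ∈ (Spec (X.presheaf.stalk x)).basicOpen ((X.fromSpecStalk x).appTop (Coh.toGlobal p π)) at h4
      rw [Scheme.fromSpecStalk_appTop, ConcreteCategory.comp_apply] at h4
      rw [AlgebraicGeometry.basicOpen_eq_of_affine'] at h4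
      rw [show (homOfLE (le_top : (⊤ : (Spec (X.presheaf.stalk x)).Opens) ≤ ⊤)).op = 𝟙 _ from rfl, CategoryTheory.Functor.map_id,
        Category.comp_id, ← ConcreteCategory.comp_apply, Iso.inv_hom_id, ConcreteCategory.id_apply] at h4
      exact h4 (show c ∈ (q t : PrimeSpectrum (X.presheaf.stalk x)).asIdeal from
        show Ideal.Quotient.mk (Ideal.span {c}) c ∈ (t : PrimeSpectrum (X.presheaf.stalk x ⧸ Ideal.span {c})).asIdeal by
          rw [Ideal.Quotient.eq_zero_iff_mem.2 (Ideal.mem_span_singleton_self c)]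
          exact Ideal.zero_mem _)
    refine le_trans ?_ (dim_fibres hg hdC).1
    exact (Topology.IsInducing.codRestrict (q ≫ X.fromSpecStalk x).isEmbedding.isInducing hin).topologicalKrullDim_le
  · obtain ⟨c, rfl⟩ := mem_range_gen hg hx
    rw [ringKrullDim_eq_of_ringEquiv (asIso (g.stalkMap c)).commRingCatIsoToRingEquiv]
    calc ringKrullDim (C.presheaf.stalk c) ≤ topologicalKrullDim C := by
          rw [DimFormulaLib.topologicalKrullDim_eq_iSup_stalk]
          exact le_iSup (fun c => ringKrullDim (C.presheaf.stalk c)) c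
      _ ≤ 2 := hdC.trans (by norm_num)

include hg in
theorem not_subsingleton_H1 [IsProper p] [IsIntegral C] [IsIntegral X] [IsProper f] (hdC : topologicalKrullDim C ≤ 1)
    (hgen : 0 < Models.curveGenus (FractionRing R) C f) : ¬ Subsingleton (Coh.HH X (Coh.structureModule X) 1) :=
  fun h => by
  haveI := FibreVanishQC.subsingleton_HH_baseChange hg 1 (dim_fibres hg hdC).2 h
  letI : C.Over (Spec (CommRingCat.of (FractionRing R))) := ⟨f⟩
  have h0 : Models.curveGenus (FractionRing R) C f = 0 := Module.finrank_zero_of_subsingleton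
  omega

end Model

end Groth.Agent.SurfPtBlow
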