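import Groth.Agent.CartDecompLib.Basic
import Groth.Agent.DivisorialLib.Basic
import Groth.Agent.InfNbhdLib.Scheme
import Groth.Agent.BlowCompLib.Compose
import Groth.Agent.BlowExistsLib.Chart

/-!
# Colengths of ideal sheaves at points and division by effective Cartier divisors
-/

set_option autoImplicit false
set_option backward.isDefEq.respectTransparency false
set_option linter.style.haveILetI false

universe u

open CategoryTheory CategoryTheory.Limits AlgebraicGeometry TopologicalSpace

noncomputable section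

namespace Groth.Agent.SurfPtBlow

variable {X : Scheme.{u}}

/-- The colength of an ideal sheaf at a point. -/
def colen (I : X.IdealSheafData) (x : X) : ℕ∞ :=
  Module.length (X.presheaf.stalk x) (X.presheaf.stalk x ⧸ IntMult.stalkIdeal I x)

/-- An ideal sheaf inside an effective Cartier ideal is divisible by it. -/
theorem exists_eq_mul [IsLocallyNoetherian X] {C D : X.IdealSheafData} (hC : BlowUp.IsEffCartierIdeal C) (h : D ≤ C) :
    ∃ K : X.IdealSheafData, D = K * C := by
  refine ⟨CartDecomp.colonSheaf D C, ?_⟩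
  choose U hxU c hc hU using hC
  refine Scheme.IdealSheafData.ext_of_iSup_eq_top U (top_le_iff.1 fun x _ => Opens.mem_iSup.2 ⟨x, hxU x⟩) fun x => ?_
  rw [Scheme.IdealSheafData.ideal_mul, Pi.mul_apply, mul_comm]
  exact Groth.Agent.S6307.result _ _ ⟨c x, (hU x).trans rfl⟩ (h _)

theorem stalkIdeal_ne_top_iff (I : X.IdealSheafData) (x : X) :
    IntMult.stalkIdeal I x ≠ ⊤ ↔ x ∈ I.support :=
  ⟨DivisorialLib.mem_support_of_ne_top, fun h =>
    ne_top_of_le_ne_top (IsLocalRing.maximalIdeal.isMaximal _).ne_top (IdealStalkLib.stalkIdeal_le_maximal I h)⟩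

theorem stalkIdeal_eq_top_iff (I : X.IdealSheafData) (x : X) :
    IntMult.stalkIdeal I x = ⊤ ↔ x ∉ I.support := by
  rw [← stalkIdeal_ne_top_iff, not_ne_iff]

theorem colen_eq_zero_iff (I : X.IdealSheafData) (x : X) : colen I x = 0 ↔ x ∉ I.support := by
  rw [colen, Module.length_eq_zero_iff, Ideal.Quotient.subsingleton_iff, stalkIdeal_eq_top_iff]

/-- Inverse images commute with powers. -/
theorem comap_pow' {Y : Scheme.{u}} (I : X.IdealSheafData) (f : Y ⟶ X) (n : ℕ) :
    (I ^ n).comap f = (I.comap f) ^ n := by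
  induction n with
  | zero => rw [pow_zero, pow_zero]; exact Scheme.IdealSheafData.comap_top f
  | succ n ih => rw [pow_succ, pow_succ, Groth.Agent.BlowCompLib.comap_mul, ih]

/-- A finite colength means that a power of the maximal ideal is contained in the ideal. -/
theorem exists_pow_le_of_colen_ne_top (I : X.IdealSheafData) (x : X) (h : colen I x ≠ ⊤) :
    ∃ N : ℕ, IsLocalRing.maximalIdeal (X.presheaf.stalk x) ^ N ≤ IntMult.stalkIdeal I x := by
  haveI := (Module.length_ne_top_iff.1 h : IsFiniteLength _ (X.presheaf.stalk x ⧸ IntMult.stalkIdeal I x))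
  let Q := X.presheaf.stalk x ⧸ IntMult.stalkIdeal I x
  haveI : IsArtinian (X.presheaf.stalk x) Q := (isFiniteLength_iff_isNoetherian_isArtinian.1 (Module.length_ne_top_iff.1 h)).2
  by_cases htop : IntMult.stalkIdeal I x = ⊤
  · exact ⟨0, by rw [htop]; exact le_top⟩
  haveI : Nontrivial Q := Ideal.Quotient.nontrivial_iff.2 htop
  haveI : IsArtinianRing Q := isArtinian_of_tower (X.presheaf.stalk x) (inferInstance : IsArtinian (X.presheaf.stalk x) Q)
  haveI : IsLocalRing Q := IsLocalRing.of_surjective' (Ideal.Quotient.mk _) Ideal.Quotient.mk_surjective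
  obtain ⟨N, hN⟩ := IsArtinianRing.isNilpotent_jacobson_bot (R := Q)
  rw [IsLocalRing.jacobson_eq_maximalIdeal ⊥ bot_ne_top] at hN
  refine ⟨N, fun a ha => Ideal.Quotient.eq_zero_iff_mem.1 ?_⟩
  have h1 : (IsLocalRing.maximalIdeal (X.presheaf.stalk x)).map (Ideal.Quotient.mk (IntMult.stalkIdeal I x)) ≤
      IsLocalRing.maximalIdeal Q := by
    refine Ideal.map_le_iff_le_comap.2 fun b hb => ?_
    intro hu
    obtain ⟨c, hc⟩ := Ideal.Quotient.mk_surjective (hu.unit⁻¹ : Qˣ).1
    have h2 : Ideal.Quotient.mk (IntMult.stalkIdeal I x) (b * c - 1) = 0 := by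
      rw [map_sub, map_mul, hc, map_one, IsUnit.mul_val_inv, sub_self]
    have h3 := IdealStalkLib.stalkIdeal_le_maximal I ((stalkIdeal_ne_top_iff I x).1 htop)
      (Ideal.Quotient.eq_zero_iff_mem.1 h2)
    exact (IsLocalRing.maximalIdeal.isMaximal (X.presheaf.stalk x)).ne_top
      ((Ideal.eq_top_iff_one (IsLocalRing.maximalIdeal (X.presheaf.stalk x))).2 (by
      simpa using sub_mem ((IsLocalRing.maximalIdeal (X.presheaf.stalk x)).mul_mem_right c hb) h3))
  have h4 := Ideal.mem_map_of_mem (Ideal.Quotient.mk (IntMult.stalkIdeal I x)) ha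
  rw [Ideal.map_pow] at h4
  have h5 := Ideal.pow_right_mono h1 N h4
  rwa [hN] at h5

/-- At an isolated point of the support a power of the maximal ideal is contained in the ideal. -/
theorem exists_pow_le_of_isolated [IsLocallyNoetherian X] (I : X.IdealSheafData) {x : X}
    (h : ∀ y : X, y ⤳ x → y ∈ I.support → y = x) :
    ∃ N : ℕ, IsLocalRing.maximalIdeal (X.presheaf.stalk x) ^ N ≤ IntMult.stalkIdeal I x := by
  obtain ⟨_, ⟨U : X.Opens, hU, rfl⟩, hxU, -⟩ := X.isBasis_affineOpens.exists_subset_of_mem_open (Set.mem_univ x) isOpen_univ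
  refine Ideal.exists_pow_le_of_le_radical_of_fg ?_ (IsNoetherian.noetherian _)
  rw [Ideal.radical_eq_sInf]
  refine le_sInf fun p ⟨hp, hpp⟩ => ?_
  haveI := hpp
  let q : Spec (X.presheaf.stalk x) := ⟨p, hpp⟩
  let y := X.fromSpecStalk x q
  have hy : y ⤳ x := (Set.ext_iff.1 (Scheme.range_fromSpecStalk (X := X) (x := x)) y).1 ⟨q, rfl⟩
  have hyU : y ∈ U := hy.mem_open U.2 hxU
  have hye : y = hU.fromSpec (Spec.map (X.presheaf.germ U x hxU) q) := by
    show X.fromSpecStalk x q = _
    rw [← hU.fromSpecStalk_eq_fromSpecStalk hxU, IsAffineOpen.fromSpecStalk, Scheme.Hom.comp_apply]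
  have hyI : y ∈ I.support := by
    rw [Scheme.IdealSheafData.mem_support_iff_of_mem (U := ⟨U, hU⟩) hyU, hye]
    have h1 : Spec.map (X.presheaf.germ U x hxU) q ∈ hU.fromSpec ⁻¹' X.zeroLocus (U := U) (I.ideal ⟨U, hU⟩ : Set Γ(X, U)) := by
      rw [IsAffineOpen.fromSpec_preimage_zeroLocus]
      intro a ha
      exact hp (by rw [IdealStalkLib.stalkIdeal_eq I ⟨U, hU⟩ x hxU]; exact Ideal.mem_map_of_mem _ ha)
    exact h1
  have hyx := h y hy hyI
  have hq : q = IsLocalRing.closedPoint (X.presheaf.stalk x) :=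
    (X.fromSpecStalk x).isEmbedding.injective (hyx.trans Scheme.fromSpecStalk_closedPoint.symm)
  exact (congrArg PrimeSpectrum.asIdeal hq).ge

end Groth.Agent.SurfPtBlow
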