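import Groth.Agent.SurfPtBlow.Meet
import Groth.Agent.SurfPtBlow.Factor
import Groth.Agent.BlowProdLib.Basic

/-!
# Morphisms of regular surfaces over a normal surface without contracted exceptional curves
-/

set_option autoImplicit false
set_option backward.isDefEq.respectTransparency false
set_option linter.style.haveILetI false
set_option maxHeartbeats 1000000

universe u

open CategoryTheory CategoryTheory.Limits AlgebraicGeometry TopologicalSpace
open Groth.Agent.TwistShriek Groth.Agent.TwistShriek.PointBlow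

noncomputable section

namespace Groth.Agent.SurfPtBlow

variable {X Y Z : Scheme.{u}} [IsIntegral X] [IsIntegral Y] [IsNoetherian Y]

/-- Birationality, checked at the generic point. -/
theorem exists_iso_open (hY : ∀ y : Y, IsIntegrallyClosed (Y.presheaf.stalk y)) (f : X ⟶ Y) [IsProper f]
    (hgen : f (genericPoint X) = genericPoint Y) (hst : IsIso (f.stalkMap (genericPoint X))) :
    ∃ V : Y.Opens, (V : Set Y).Nonempty ∧ IsIso (f ∣_ V) := by
  obtain ⟨V, hV, hi⟩ := BirQFLib.exists_nhd_isIso_of_dim_le_one (fun y => ⟨inferInstance, hY y⟩) f hgen hst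
    (genericPoint Y) ((ringKrullDim_eq_zero_of_field Y.functionField).le.trans zero_le_one)
  exact ⟨V, ⟨_, hV⟩, hi⟩

theorem birational_comp [IsIntegral Z] (hY : ∀ y : Y, IsIntegrallyClosed (Y.presheaf.stalk y)) (f : Z ⟶ X) (g : X ⟶ Y)
    [IsProper f] [IsProper g] (hf : ∃ V : X.Opens, (V : Set X).Nonempty ∧ IsIso (f ∣_ V))
    (hg : ∃ V : Y.Opens, (V : Set Y).Nonempty ∧ IsIso (g ∣_ V)) :
    ∃ V : Y.Opens, (V : Set Y).Nonempty ∧ IsIso ((f ≫ g) ∣_ V) := by
  obtain ⟨V, hV, hVi⟩ := hf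
  obtain ⟨W, hW, hWi⟩ := hg
  obtain ⟨h1, h1'⟩ := BirQFLib.birational_of_isIso_restrict f V hV hVi
  obtain ⟨h2, h2'⟩ := BirQFLib.birational_of_isIso_restrict g W hW hWi
  refine exists_iso_open hY (f ≫ g) (by rw [Scheme.Hom.comp_apply, h1, h2]) ?_
  haveI := h1'
  haveI : IsIso (g.stalkMap (f (genericPoint Z))) := by rw [h1]; exact h2'
  rw [Scheme.Hom.stalkMap_comp]
  infer_instance

/-- An effective Cartier divisor on a line inside an open set. -/
theorem lift_exc {W : Scheme.{u}} {k : Type u} [Field k] (j : CohB1.ProjSpace 1 k ⟶ W) [IsClosedImmersion j]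
    (hC : BlowUp.IsEffCartierIdeal j.ker)
    (e : (Scheme.Modules.pullback j).obj (ClSub.idealMod j.ker) ≅ Twist.twistProjSpace 1 k 1)
    (U : W.Opens) (hU : Set.range j ⊆ U) :
    ∃ j' : CohB1.ProjSpace 1 k ⟶ U, j' ≫ U.ι = j ∧ IsClosedImmersion j' ∧ BlowUp.IsEffCartierIdeal j'.ker ∧
      Nonempty ((Scheme.Modules.pullback j').obj (ClSub.idealMod j'.ker) ≅ Twist.twistProjSpace 1 k 1) := by
  let j' := IsOpenImmersion.lift U.ι j (by rwa [Scheme.Opens.range_ι])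
  have hj : j' ≫ U.ι = j := IsOpenImmersion.lift_fac _ _ _
  haveI : IsClosedImmersion (j' ≫ U.ι) := by rw [hj]; infer_instance
  haveI : IsClosedImmersion j' := IsClosedImmersion.of_comp j' U.ι
  have hker : j.ker.comap U.ι = j'.ker := by
    have h := comap_ker_of_mono j' U.ι
    rwa [hj] at h
  have hc' : BlowUp.IsEffCartierIdeal (j.ker.comap U.ι) := BlowCompLib.isEffCartier_comap_openImmersion hC U.ι
  obtain ⟨e₁⟩ := JacLib.nonempty_iso_pullback_idealMod U.ι j.ker hC hc'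
  refine ⟨j', hj, inferInstance, hker ▸ hc', ⟨?_⟩⟩
  exact (Scheme.Modules.pullback j').mapIso (eqToIso (congrArg ClSub.idealMod hker.symm) ≪≫ e₁.symm) ≪≫
    (Scheme.Modules.pullbackComp j' U.ι).app _ ≪≫ eqToIso (by rw [hj]) ≪≫ e

theorem exists_line {C W : Scheme.{u}} (ι : C ⟶ W) [IsClosedImmersion ι] (h : Models.IsExcCurve ι) :
    ∃ (k : Type u) (_ : Field k) (j : CohB1.ProjSpace 1 k ⟶ W) (_ : IsClosedImmersion j),
      Set.range j = Set.range ι ∧ BlowUp.IsEffCartierIdeal j.ker ∧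
      Nonempty ((Scheme.Modules.pullback j).obj (ClSub.idealMod j.ker) ≅ Twist.twistProjSpace 1 k 1) := by
  obtain ⟨hC, k, hk, e, ⟨he⟩⟩ := h
  have hker : (e.hom ≫ ι).ker = ι.ker := Scheme.Hom.ker_comp_of_isIso _ _
  refine ⟨k, hk, e.hom ≫ ι, inferInstance, ?_, hker ▸ hC, ⟨eqToIso (by rw [hker]) ≪≫ he⟩⟩
  rw [Scheme.Hom.comp_base, TopCat.coe_comp, Set.range_comp, Set.range_eq_univ.2 e.hom.surjective,
    Set.image_univ]

/-- Two exceptional curves contracted to the same point of a normal surface are disjoint or equal. -/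
theorem disjoint_of_contracted [IsIntegral Z] [IsNoetherian Z] (hY : ∀ y : Y, IsIntegrallyClosed (Y.presheaf.stalk y))
    (f : Z ⟶ Y) [IsProper f] (hbir : ∃ V : Y.Opens, (V : Set Y).Nonempty ∧ IsIso (f ∣_ V))
    {C₁ C₂ : Scheme.{u}} (ι₁ : C₁ ⟶ Z) (ι₂ : C₂ ⟶ Z) [IsClosedImmersion ι₁] [IsClosedImmersion ι₂]
    (h₁ : Models.IsExcCurve ι₁) (h₂ : Models.IsExcCurve ι₂) (y : Y) (hy₁ : ∀ c, f (ι₁ c) = y) (hy₂ : ∀ c, f (ι₂ c) = y)
    (hne : Set.range ι₁ ≠ Set.range ι₂) : Disjoint (Set.range ι₁) (Set.range ι₂) := by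
  obtain ⟨k₁, hk₁, j₁, hj₁, hr₁, hC₁, ⟨e₁⟩⟩ := exists_line ι₁ h₁
  obtain ⟨k₂, hk₂, j₂, hj₂, hr₂, hC₂, ⟨e₂⟩⟩ := exists_line ι₂ h₂
  haveI := hj₁
  haveI := hj₂
  rw [← hr₁, ← hr₂] at hne ⊢
  have hf₁ : ∀ z, f (j₁ z) = y := fun z => by
    obtain ⟨c, hc⟩ := hr₁.le ⟨z, rfl⟩
    rw [← hc]; exact hy₁ c
  have hf₂ : ∀ z, f (j₂ z) = y := fun z => by
    obtain ⟨c, hc⟩ := hr₂.le ⟨z, rfl⟩
    rw [← hc]; exact hy₂ c
  obtain ⟨V₀, hV₀, hV₀i⟩ := hbir
  obtain ⟨hgen, hst⟩ := BirQFLib.birational_of_isIso_restrict f V₀ hV₀ hV₀i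
  haveI := isIntegral_P1 (k := k₁)
  -- the point has codimension two
  have hd : 1 < ringKrullDim (Y.presheaf.stalk y) := by
    by_contra hle
    obtain ⟨V, hyV, hVi⟩ := BirQFLib.exists_nhd_isIso_of_dim_le_one (fun y => ⟨inferInstance, hY y⟩) f hgen hst y
      (not_lt.1 hle)
    haveI : Subsingleton (CohB1.ProjSpace 1 k₁) := ⟨fun a b => j₁.isClosedEmbedding.injective (congrArg Subtype.val
      ((f ∣_ V).homeomorph.injective (a₁ := ⟨j₁ a, show f (j₁ a) ∈ V from (hf₁ a).symm ▸ hyV⟩)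
        (a₂ := ⟨j₁ b, show f (j₁ b) ∈ V from (hf₁ b).symm ▸ hyV⟩) (Subtype.ext (by
          rw [Scheme.Hom.homeomorph_apply, Scheme.Hom.homeomorph_apply, morphismRestrict_base]
          exact (hf₁ a).trans (hf₁ b).symm))))⟩
    have h0 : topologicalKrullDim (CohB1.ProjSpace 1 k₁) ≤ 0 := topologicalKrullDim_zero_of_discreteTopology _
    rw [dim_P1] at h0
    exact absurd h0 (by norm_num)
  have hyc : IsClosed ({y} : Set Y) := by
    rw [← Set.eq_singleton_iff_nonempty_unique_mem.2 (⟨⟨_, genericPoint _, rfl⟩, by rintro _ ⟨z, rfl⟩; exact hf₁ z⟩ :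
      (Set.range fun z => f (j₁ z)).Nonempty ∧ ∀ a ∈ Set.range (fun z => f (j₁ z)), a = y)]
    rw [Set.range_comp' f j₁]
    exact f.isClosedMap _ j₁.isClosedEmbedding.isClosed_range
  -- restrict to an affine neighbourhood
  obtain ⟨_, ⟨V : Y.Opens, hV, rfl⟩, hyV, -⟩ := Y.isBasis_affineOpens.exists_subset_of_mem_open (Set.mem_univ y) isOpen_univ
  let W : Z.Opens := f ⁻¹ᵁ V
  have hW₁ : Set.range j₁ ⊆ W := by
    rintro _ ⟨z, rfl⟩
    show f (j₁ z) ∈ V
    rw [hf₁]; exact hyV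
  have hW₂ : Set.range j₂ ⊆ W := by
    rintro _ ⟨z, rfl⟩
    show f (j₂ z) ∈ V
    rw [hf₂]; exact hyV
  obtain ⟨a₁, ha₁, hci₁, hK₁, ⟨g₁⟩⟩ := lift_exc j₁ hC₁ e₁ W hW₁
  obtain ⟨a₂, ha₂, hci₂, hK₂, ⟨g₂⟩⟩ := lift_exc j₂ hC₂ e₂ W hW₂
  haveI := hci₁
  haveI := hci₂
  haveI : Nonempty V := ⟨⟨y, hyV⟩⟩
  haveI : Nonempty W := ⟨⟨j₁ (genericPoint _), hW₁ ⟨_, rfl⟩⟩⟩
  haveI : IsIntegral W.toScheme := isIntegral_of_isOpenImmersion W.ι
  haveI : CompactSpace W := by
    haveI : NoetherianSpace Z := inferInstance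
    exact isCompact_iff_compactSpace.mp (NoetherianSpace.isCompact (W : Set Z))
  haveI : IsNoetherian W.toScheme := { }
  haveI : IsDomain Γ(Y, V) := inferInstance
  haveI : IsNoetherianRing Γ(Y, V) := IsLocallyNoetherian.component_noetherian ⟨V, hV⟩
  let φ := hV.isoSpec
  let F : W.toScheme ⟶ Spec Γ(Y, V) := (f ∣_ V) ≫ φ.hom
  have hO : RigidLib.BijApp F := fun O => by
    have h1 : Function.Bijective ((f ∣_ V).app (φ.hom ⁻¹ᵁ O)) := by
      haveI : IsIso (f.app (V.ι ''ᵁ (φ.hom ⁻¹ᵁ O))) := (ConcreteCategory.isIso_iff_bijective _).2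
        (bijective_app_of_normal_or_iso f ⟨V₀, hV₀, hV₀i⟩ (fun z => Or.inl (hY z)) _)
      haveI : IsIso ((f ∣_ V).app (φ.hom ⁻¹ᵁ O)) := by rw [morphismRestrict_app]; infer_instance
      exact ConcreteCategory.bijective_of_isIso _
    rw [Scheme.Hom.comp_app, CommRingCat.hom_comp, RingHom.coe_comp]
    exact h1.comp (ConcreteCategory.bijective_of_isIso (φ.hom.app O))
  have hFgen : F (genericPoint W) = genericPoint (Spec Γ(Y, V)) := by
    have h1 : (f ∣_ V) (genericPoint W) = genericPoint V.toScheme := by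
      refine V.ι.isOpenEmbedding.injective ?_
      rw [← Scheme.Hom.comp_apply, morphismRestrict_ι, Scheme.Hom.comp_apply, genericPoint_eq_of_isOpenImmersion W.ι,
        genericPoint_eq_of_isOpenImmersion V.ι, hgen]
    show φ.hom ((f ∣_ V) (genericPoint W)) = _
    rw [h1, genericPoint_eq_of_isOpenImmersion]
  let y' : Spec Γ(Y, V) := φ.hom ⟨y, hyV⟩
  have hFy : ∀ {k : Type u} [Field k] (a : CohB1.ProjSpace 1 k ⟶ W.toScheme), (∀ z, f ((a ≫ W.ι) z) = y) →
      ∀ z, F (a z) = y' := fun a h z => by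
    refine congrArg φ.hom (V.ι.isOpenEmbedding.injective ?_)
    show ((f ∣_ V) ≫ V.ι) (a z) = y
    rw [morphismRestrict_ι]
    exact h z
  have hy'c : IsClosed ({y'} : Set (Spec Γ(Y, V))) := by
    rw [show ({y'} : Set _) = φ.hom '' {⟨y, hyV⟩} by rw [Set.image_singleton]]
    refine φ.hom.homeomorph.isClosedMap _ ?_
    rw [show ({⟨y, hyV⟩} : Set V.toScheme) = V.ι ⁻¹' {y} from Set.ext fun w =>
      ⟨fun h => by rw [Set.mem_singleton_iff] at h; subst h; rfl, fun h => V.ι.isOpenEmbedding.injective h⟩]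
    exact hyc.preimage V.ι.continuous
  have hd' : 1 < ringKrullDim ((Spec Γ(Y, V)).presheaf.stalk y') := by
    rw [ringKrullDim_eq_of_ringEquiv (asIso (φ.hom.stalkMap (⟨y, hyV⟩ : V))).commRingCatIsoToRingEquiv,
      ringKrullDim_eq_of_ringEquiv (V.stalkIso ⟨y, hyV⟩).commRingCatIsoToRingEquiv]
    exact hd
  have hne' : Set.range a₁ ≠ Set.range a₂ := fun h => hne (by
    rw [← ha₁, ← ha₂, Scheme.Hom.comp_base, TopCat.coe_comp, Scheme.Hom.comp_base, TopCat.coe_comp, Set.range_comp,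
      Set.range_comp, h])
  have hdis := disjoint_of_contracted_affine F hO hFgen y' hy'c hd' a₁ a₂ hK₁ hK₂ g₁ g₂
    (hFy a₁ (ha₁.symm ▸ hf₁)) (hFy a₂ (ha₂.symm ▸ hf₂)) hne'
  rw [← ha₁, ← ha₂, Scheme.Hom.comp_base, TopCat.coe_comp, Scheme.Hom.comp_base, TopCat.coe_comp, Set.range_comp,
    Set.range_comp]
  exact Set.disjoint_image_of_injective W.ι.isOpenEmbedding.injective hdis

omit [IsIntegral X] [IsIntegral Y] [AlgebraicGeometry.IsNoetherian Y] in
/-- The image of an exceptional curve lying where a proper morphism is an isomorphism. -/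
theorem exc_transport {C : Scheme.{u}} (ι : C ⟶ X) [IsClosedImmersion ι] (h : Models.IsExcCurve ι) (π : X ⟶ Y)
    [IsProper π] (U : Y.Opens) [IsIso (π ∣_ U)] (hU : Set.range ι ⊆ π ⁻¹ᵁ U) :
    IsClosedImmersion (ι ≫ π) ∧ Models.IsExcCurve (ι ≫ π) := by
  obtain ⟨hC, k, hk, e, ⟨he⟩⟩ := h
  let W : X.Opens := π ⁻¹ᵁ U
  let ι' := IsOpenImmersion.lift W.ι ι (by rwa [Scheme.Opens.range_ι])
  have hι : ι' ≫ W.ι = ι := IsOpenImmersion.lift_fac _ _ _
  haveI : IsClosedImmersion (ι' ≫ W.ι) := by rw [hι]; infer_instance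
  haveI : IsClosedImmersion ι' := IsClosedImmersion.of_comp ι' W.ι
  have hfac : ι ≫ π = (ι' ≫ (π ∣_ U)) ≫ U.ι := by
    rw [Category.assoc, morphismRestrict_ι, ← Category.assoc, hι]
  haveI hci : IsClosedImmersion (ι ≫ π) := by
    haveI : IsPreimmersion (ι ≫ π) := by rw [hfac]; infer_instance
    refine IsClosedImmersion.of_isPreimmersion _ ?_
    rw [Scheme.Hom.comp_base, TopCat.coe_comp, Set.range_comp]
    exact π.isClosedMap _ ι.isClosedEmbedding.isClosed_range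
  haveI : IsClosedImmersion ((ι' ≫ (π ∣_ U)) ≫ U.ι) := hfac ▸ hci
  have hK : (ι ≫ π).ker.comap U.ι = (ι' ≫ (π ∣_ U)).ker := by
    rw [hfac]; exact comap_ker_of_mono _ U.ι
  have hK' : ((ι ≫ π).ker.comap U.ι).comap (π ∣_ U) = ι.ker.comap W.ι := by
    have h1 := comap_ker_of_mono ι' W.ι
    rw [hι] at h1
    rw [hK, h1]
    exact comap_ker_of_mono ι' (π ∣_ U)
  have hcU : BlowUp.IsEffCartierIdeal ((ι ≫ π).ker.comap U.ι) := by
    have h1 : BlowUp.IsEffCartierIdeal ((ι.ker.comap W.ι).comap (inv (π ∣_ U))) :=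
      BlowCompLib.isEffCartier_comap_openImmersion (BlowCompLib.isEffCartier_comap_openImmersion hC W.ι) _
    rwa [← hK', ← Scheme.IdealSheafData.comap_comp, IsIso.inv_hom_id, Scheme.IdealSheafData.comap_id] at h1
  have hcar : BlowUp.IsEffCartierIdeal (ι ≫ π).ker := BlowProdLib.isEffCartier_of_local _ fun y => by
    by_cases hy : y ∈ U
    · exact ⟨U.toScheme, U.ι, inferInstance, ⟨y, hy⟩, rfl, hcU⟩
    · let O : Y.Opens := ⟨(Set.range (ι ≫ π))ᶜ, (ι ≫ π).isClosedEmbedding.isClosed_range.isOpen_compl⟩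
      have hyO : y ∈ O := by
        rintro ⟨c, rfl⟩
        exact hy (hU ⟨c, rfl⟩)
      refine ⟨O.toScheme, O.ι, inferInstance, ⟨y, hyO⟩, rfl, ?_⟩
      have htop : (ι ≫ π).ker.comap O.ι = ⊤ := by
        rw [← Scheme.IdealSheafData.support_eq_bot_iff]
        refine Closeds.ext (Set.eq_empty_iff_forall_notMem.2 fun w hw => ?_)
        rw [Scheme.IdealSheafData.support_comap, Closeds.coe_preimage] at hw
        have h2 : O.ι w ∈ ((ι ≫ π).ker.support : Set Y) := hw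
        rw [Scheme.Hom.support_ker, (ι ≫ π).isClosedEmbedding.isClosed_range.closure_eq] at h2
        exact w.2 h2
      rw [htop]
      exact BlowCompLib.isEffCartier_top
  let j' := e.hom ≫ ι'
  have hW' : BlowUp.IsEffCartierIdeal (((ι ≫ π).ker.comap U.ι).comap (π ∣_ U)) :=
    BlowCompLib.isEffCartier_comap_openImmersion hcU _
  obtain ⟨a₁⟩ := JacLib.nonempty_iso_pullback_idealMod U.ι _ hcar hcU
  obtain ⟨a₂⟩ := JacLib.nonempty_iso_pullback_idealMod (π ∣_ U) _ hcU hW'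
  obtain ⟨a₃⟩ := JacLib.nonempty_iso_pullback_idealMod W.ι _ hC (BlowCompLib.isEffCartier_comap_openImmersion hC W.ι)
  have hfac' : e.hom ≫ ι ≫ π = (j' ≫ (π ∣_ U)) ≫ U.ι := by rw [hfac]; simp [j']
  have hj : j' ≫ W.ι = e.hom ≫ ι := by rw [Category.assoc, hι]
  refine ⟨hci, hcar, k, hk, e, ⟨?_⟩⟩
  exact eqToIso (by rw [hfac']) ≪≫ ((Scheme.Modules.pullbackComp _ U.ι).app _).symm ≪≫
    (Scheme.Modules.pullback _).mapIso a₁ ≪≫ ((Scheme.Modules.pullbackComp j' (π ∣_ U)).app _).symm ≪≫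
    (Scheme.Modules.pullback j').mapIso (a₂ ≪≫ eqToIso (congrArg ClSub.idealMod hK') ≪≫ a₃.symm) ≪≫
    (Scheme.Modules.pullbackComp j' W.ι).app _ ≪≫ eqToIso (by rw [hj]) ≪≫ he

/-- The fibre of a point blow-up is the range of the exceptional divisor. -/
theorem range_jE_eq {X' W : Scheme.{u}} {w : W} {hw : IsClosed ({w} : Set W)} {π : X' ⟶ W} :
    Set.range (jE π hw) = π ⁻¹' {w} := by
  rw [Scheme.IdealSheafData.range_subschemeι]
  show (((pointIdeal hw).comap π).support : Set X') = _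
  rw [Scheme.IdealSheafData.support_comap, Closeds.coe_preimage, Scheme.IdealSheafData.coe_support_vanishingIdeal]
  rfl

/-- An exceptional curve not contracted by point blow-ups has exceptional image. -/
theorem exists_exc_of_ptSeq (hY : ∀ y : Y, IsIntegrallyClosed (Y.presheaf.stalk y))
    {Z W : Scheme.{u}} {q : Z ⟶ W} (hq : PtSeq q) [hWi : IsIntegral W] [hWn : IsNoetherian W]
    (hreg : ∀ w : W, IsRegularLocalRing (W.presheaf.stalk w)) (g : W ⟶ Y) [hgp : IsProper g]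
    (hg : ∃ V : Y.Opens, (V : Set Y).Nonempty ∧ IsIso (g ∣_ V))
    {C : Scheme.{u}} (ι : C ⟶ Z) [hι : IsClosedImmersion ι] (hE : Models.IsExcCurve ι) (y : Y)
    (hy : Set.range (ι ≫ q ≫ g) = {y}) (hne : ∀ w, ∃ c, q (ι c) ≠ w) :
    ∃ (C' : Scheme.{u}) (ι' : C' ⟶ W), IsClosedImmersion ι' ∧ Models.IsExcCurve ι' ∧ Set.range (ι' ≫ g) = {y} := by
  revert hWi hWn hreg g hgp hg ι hι hE hy hne
  induction hq with
  | refl W =>
    intro hWi hWn hreg g hgp hg ι hι hE hy hne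
    exact ⟨C, ι, hι, hE, by rwa [Category.id_comp] at hy⟩
  | @step Z Z₁ W b r z hz hzreg hd hb hr ih =>
    intro hWi hWn hreg g hgp hg ι hι hE hy hne
    obtain ⟨hint₁, hreg₁, hbir₁, -⟩ := hr.invariants hreg
    haveI := hint₁
    haveI := hr.isNoetherian.1
    haveI := hr.isNoetherian.2
    haveI := PointBlow.isProper hb
    haveI := isNoetherian_blowUp hb
    obtain ⟨hint, hbirb⟩ := integral_blowUp hb hd
    haveI := hint
    obtain ⟨P⟩ := exists_pointParams hz hzreg hd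
    have hbir : ∃ V : Y.Opens, (V : Set Y).Nonempty ∧ IsIso ((b ≫ r ≫ g) ∣_ V) :=
      birational_comp hY b (r ≫ g) hbirb (birational_comp hY r g hbir₁ hg)
    have hyι : ∀ c, (b ≫ r ≫ g) (ι c) = y := fun c => by
      have := hy.le ⟨c, rfl⟩
      simpa using this
    have hFy : ∀ c, (b ≫ r ≫ g) (jE b hz c) = g (r z) := fun c => by
      have hc : b (jE b hz c) = z := (range_jE_eq (π := b) (hw := hz)).le ⟨c, rfl⟩
      simp [hc]
    have hrne : Set.range ι ≠ Set.range (jE b hz) := fun h => by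
      obtain ⟨c, hc⟩ := hne (r z)
      refine hc ?_
      have hc' : b (ι c) = z := (range_jE_eq (π := b) (hw := hz)).le (h.le ⟨c, rfl⟩)
      show r (b (ι c)) = r z
      rw [hc']
    have hdis : Disjoint (Set.range ι) (Set.range (jE b hz)) := by
      by_cases hyy : g (r z) = y
      · exact disjoint_of_contracted hY (b ≫ r ≫ g) hbir ι (jE b hz) hE (isExcCurve hb P) y hyι
          (fun c => (hFy c).trans hyy) hrne
      · rw [Set.disjoint_left]
        rintro _ ⟨c, rfl⟩ ⟨c', hc'⟩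
        exact hyy ((hFy c').symm.trans (hc'.symm ▸ hyι c))
    let U : Z₁.Opens := ⟨{z}ᶜ, hz.isOpen_compl⟩
    haveI : IsIso (b ∣_ U) := isIso_restrict_compl hb U fun h => h rfl
    have hU : Set.range ι ⊆ b ⁻¹ᵁ U := by
      rintro _ ⟨c, rfl⟩ hcz
      exact Set.disjoint_left.1 hdis ⟨c, rfl⟩ ((range_jE_eq (π := b) (hw := hz)).ge hcz)
    obtain ⟨hci, hexc⟩ := exc_transport ι hE b U hU
    exact ih hreg g hg (ι ≫ b) hexc (by simpa using hy) (by simpa using hne)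

end Groth.Agent.SurfPtBlow
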