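import Groth.Agent.SurfPtBlow.Minimal
import Groth.Agent.TwistShriek.PointDim

/-!
# A surface without contracted exceptional curves is terminal over a normal surface
-/

set_option autoImplicit false
set_option backward.isDefEq.respectTransparency false
set_option linter.style.haveILetI false
set_option maxHeartbeats 1000000

universe u

open CategoryTheory CategoryTheory.Limits AlgebraicGeometry TopologicalSpace
open Groth.Agent.TwistShriek Groth.Agent.TwistShriek.PointBlow

noncomputable section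

namespace Groth.Agent.SurfPtBlow

variable {X Y : Scheme.{u}} [IsIntegral X] [IsIntegral Y] [IsNoetherian Y] [IsNoetherian X]

theorem surjective_of_birational {A B : Scheme.{u}} [IsIntegral A] [IsIntegral B] (h : A ⟶ B) [IsProper h]
    (hh : ∃ V : B.Opens, (V : Set B).Nonempty ∧ IsIso (h ∣_ V)) : Function.Surjective h := fun z => by
  obtain ⟨V, hV, hVi⟩ := hh
  obtain ⟨hgen, -⟩ := BirQFLib.birational_of_isIso_restrict h V hV hVi
  have hz := BirQFLib.denseRange_generic h hgen z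
  rwa [h.isClosedMap.isClosed_range.closure_eq] at hz

/-- An exceptional curve contracted to `Y` but not by a birational morphism of regular surfaces has exceptional
image. -/
theorem exists_exc_of_birational (hY : ∀ y : Y, IsIntegrallyClosed (Y.presheaf.stalk y))
    (hX : ∀ x : X, IsRegularLocalRing (X.presheaf.stalk x)) (hdX : topologicalKrullDim X ≤ 2)
    {Z : Scheme.{u}} [IsIntegral Z] [IsNoetherian Z] (hZ : ∀ z : Z, IsRegularLocalRing (Z.presheaf.stalk z))
    (hdZ : topologicalKrullDim Z ≤ 2) (q : Z ⟶ X) [IsProper q] (hq : ∃ V : X.Opens, (V : Set X).Nonempty ∧ IsIso (q ∣_ V))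
    (g : X ⟶ Y) [IsProper g] (hg : ∃ V : Y.Opens, (V : Set Y).Nonempty ∧ IsIso (g ∣_ V))
    {C : Scheme.{u}} (ι : C ⟶ Z) [IsClosedImmersion ι] (hE : Models.IsExcCurve ι) (y : Y)
    (hy : Set.range (ι ≫ q ≫ g) = {y}) (hne : ∀ w, ∃ c, q (ι c) ≠ w) :
    ∃ (C' : Scheme.{u}) (ι' : C' ⟶ X), IsClosedImmersion ι' ∧ Models.IsExcCurve ι' ∧ Set.range (ι' ≫ g) = {y} := by
  rcases isIso_or_ptSeq hZ hdZ _ hX hdX q hq le_rfl with h | h
  · haveI := h
    haveI : IsIso (q ∣_ ⊤) := inferInstance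
    obtain ⟨hci, hexc⟩ := exc_transport ι hE q ⊤ (fun _ _ => trivial)
    exact ⟨C, ι ≫ q, hci, hexc, by simpa using hy⟩
  · exact exists_exc_of_ptSeq hY h hX g hg ι hE y hy hne

/-- Morphisms through point blow-ups descend to a surface without contracted exceptional curves. -/
theorem exists_descend (hY : ∀ y : Y, IsIntegrallyClosed (Y.presheaf.stalk y))
    (hX : ∀ x : X, IsRegularLocalRing (X.presheaf.stalk x)) (hdX : topologicalKrullDim X ≤ 2)
    (g : X ⟶ Y) [IsProper g] (hg : ∃ V : Y.Opens, (V : Set Y).Nonempty ∧ IsIso (g ∣_ V))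
    (hexc : ∀ (C : Scheme.{u}) (ι : C ⟶ X) [IsClosedImmersion ι], Models.IsExcCurve ι →
      ¬ ∃ y : Y, Set.range (ι ≫ g) = {y})
    {Z X' : Scheme.{u}} {p : Z ⟶ X'} (hp : PtSeq p) [hi : IsIntegral X'] [hn : IsNoetherian X']
    (hX' : ∀ x : X', IsRegularLocalRing (X'.presheaf.stalk x)) (g' : X' ⟶ Y) [hgp : IsProper g']
    (hg' : ∃ V : Y.Opens, (V : Set Y).Nonempty ∧ IsIso (g' ∣_ V)) (hdZ : topologicalKrullDim Z ≤ 2)
    (q : Z ⟶ X) (hq : q ≫ g = p ≫ g') : ∃ h : X' ⟶ X, h ≫ g = g' := by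
  revert hi hn hX' g' hgp hg' hdZ q hq
  induction hp with
  | refl X' =>
    intro hi hn hX' g' hgp hg' hdZ q hq
    exact ⟨q, by rwa [Category.id_comp] at hq⟩
  | @step Z Z₁ X' b r z hz hzreg hd hb hr ih =>
    intro hi hn hX' g' hgp hg' hdZ q hq
    obtain ⟨hint₁, hreg₁, hbir₁, -⟩ := hr.invariants hX'
    haveI := hint₁
    haveI := hr.isNoetherian.1
    haveI := hr.isNoetherian.2
    haveI := PointBlow.isProper hb
    haveI := isNoetherian_blowUp hb
    obtain ⟨hint, hbirb⟩ := integral_blowUp hb hd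
    haveI := hint
    obtain ⟨P⟩ := exists_pointParams hz hzreg hd
    have hbir : ∃ V : Y.Opens, (V : Set Y).Nonempty ∧ IsIso ((b ≫ r ≫ g') ∣_ V) :=
      birational_comp hY b (r ≫ g') hbirb (birational_comp hY r g' hbir₁ hg')
    have hq' : q ≫ g = b ≫ r ≫ g' := by rw [hq, Category.assoc]
    haveI : IsProper (q ≫ g) := hq' ▸ inferInstance
    haveI : IsProper q := IsProper.of_comp q g
    have hregZ := regular_blowUp hb hreg₁ hd
    have hqbir : ∃ V : X.Opens, (V : Set X).Nonempty ∧ IsIso (q ∣_ V) := by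
      obtain ⟨V, hV, hVi⟩ := hbir
      obtain ⟨W, hW, hWi⟩ := hg
      obtain ⟨hgen, hst⟩ := BirQFLib.birational_of_isIso_restrict g W hW hWi
      obtain ⟨hgen', hst'⟩ := BirQFLib.birational_of_isIso_restrict (b ≫ r ≫ g') V hV hVi
      have hqη : q (genericPoint Z) = genericPoint X := by
        have hηW : genericPoint Y ∈ W := (genericPoint_specializes hW.some).mem_open W.2 hW.some_mem
        have h1 : g (q (genericPoint Z)) = genericPoint Y := by
          rw [← Scheme.Hom.comp_apply, hq', hgen']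
        haveI := hWi
        exact congrArg Subtype.val ((g ∣_ W).homeomorph.injective
          (a₁ := ⟨q (genericPoint Z), show g (q (genericPoint Z)) ∈ W from h1.symm ▸ hηW⟩)
          (a₂ := ⟨genericPoint X, show g (genericPoint X) ∈ W from hgen.symm ▸ hηW⟩) (Subtype.ext (by
            rw [Scheme.Hom.homeomorph_apply, Scheme.Hom.homeomorph_apply, morphismRestrict_base]
            exact h1.trans hgen.symm)))
      have hXn : ∀ x : X, IsIntegrallyClosed (X.presheaf.stalk x) := fun x => by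
        haveI := hX x
        exact (PurityLib.isIntegrallyClosed_of_regular _).2
      refine exists_iso_open hXn q hqη ?_
      have key : ∀ (m : Z ⟶ Y), m = b ≫ r ≫ g' → IsIso (m.stalkMap (genericPoint Z)) := by
        rintro m rfl; exact hst'
      have h2 := key (q ≫ g) hq'
      rw [Scheme.Hom.stalkMap_comp] at h2
      haveI : IsIso (g.stalkMap (q (genericPoint Z))) := by rw [hqη]; exact hst
      exact IsIso.of_isIso_comp_left (g.stalkMap (q (genericPoint Z))) (q.stalkMap (genericPoint Z))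
    have hfib : ∀ w, b w = z → (b ≫ r ≫ g') w = g' (r z) := fun w hw => by simp [hw]
    -- the exceptional curve is contracted
    have hconst : ∃ x, ∀ w, b w = z → q w = x := by
      by_contra hcon
      push Not at hcon
      haveI := isIntegral_E hb P
      obtain ⟨C', ι', hι', hexc', hy'⟩ := exists_exc_of_birational hY hX hdX hregZ hdZ q hqbir g hg (jE b hz)
        (isExcCurve hb P) (g' (r z)) (by
          rw [hq']
          refine Set.eq_singleton_iff_nonempty_unique_mem.2 ⟨⟨_, genericPoint _, rfl⟩, ?_⟩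
          rintro _ ⟨c, rfl⟩
          exact hfib _ ((range_jE_eq (π := b) (hw := hz)).le ⟨c, rfl⟩))
        fun x => by
          obtain ⟨w, hw, hw'⟩ := hcon x
          obtain ⟨c, rfl⟩ := (range_jE_eq (π := b) (hw := hz)).ge hw
          exact ⟨c, hw'⟩
      haveI := hι'
      exact hexc C' ι' hexc' ⟨_, hy'⟩
    obtain ⟨x, hx⟩ := hconst
    obtain ⟨q₁, hq₁, -⟩ := existsUnique_desc hb hzreg hd q x hx
    have hq₁g : q₁ ≫ g = r ≫ g' := by
      obtain ⟨ψ, -, huniq⟩ := existsUnique_desc hb hzreg hd (b ≫ r ≫ g') (g' (r z)) hfib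
      refine (huniq (q₁ ≫ g) ?_).trans (huniq (r ≫ g') rfl).symm
      show b ≫ q₁ ≫ g = b ≫ r ≫ g'
      rw [reassoc_of% hq₁, hq']
    exact ih hX' g' hg' ((topologicalKrullDim_le_of_isClosedMap b.continuous b.isClosedMap
      (surjective_of_birational b hbirb)).trans hdZ) q₁ hq₁g

theorem PtSeq.dim_le {Z W : Scheme.{u}} {p : Z ⟶ W} (hp : PtSeq p) [hn : IsNoetherian W]
    (hd : topologicalKrullDim W ≤ 2) : topologicalKrullDim Z ≤ 2 := by
  revert hn hd
  induction hp with
  | refl W => intro hn hd; exact hd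
  | step b r z hz hreg hdz hb hr ih =>
    intro hn hd
    haveI := hr.isNoetherian.1
    obtain ⟨P⟩ := exists_pointParams hz hreg hdz
    exact topologicalKrullDim_blowUp_le hb P (ih hd)

/-- Two morphisms over a separated birational morphism agree. -/
theorem hom_ext_of_birational {X' : Scheme.{u}} [IsIntegral X'] (g : X ⟶ Y) [IsSeparated g]
    (hg : ∃ V : Y.Opens, (V : Set Y).Nonempty ∧ IsIso (g ∣_ V)) (g' : X' ⟶ Y)
    (hgen : g' (genericPoint X') = genericPoint Y) {h₁ h₂ : X' ⟶ X} (e₁ : h₁ ≫ g = g') (e₂ : h₂ ≫ g = g') : h₁ = h₂ := by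
  obtain ⟨V, hV, hVi⟩ := hg
  haveI := hVi
  let U : X'.Opens := g' ⁻¹ᵁ V
  have hηU : genericPoint X' ∈ U := show g' (genericPoint X') ∈ V from
    hgen.symm ▸ (genericPoint_specializes hV.some).mem_open V.2 hV.some_mem
  have key : ∀ h : X' ⟶ X, h ≫ g = g' → U.ι ≫ h = (g' ∣_ V) ≫ inv (g ∣_ V) ≫ (g ⁻¹ᵁ V).ι := fun h hh => by
    have hle : Set.range (U.ι ≫ h) ⊆ Set.range (g ⁻¹ᵁ V).ι := by
      rw [Scheme.Opens.range_ι]
      rintro _ ⟨w, rfl⟩
      show g ((U.ι ≫ h) w) ∈ V
      rw [← Scheme.Hom.comp_apply, Category.assoc, hh]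
      exact w.2
    let l := IsOpenImmersion.lift (g ⁻¹ᵁ V).ι (U.ι ≫ h) hle
    have hl : l ≫ (g ⁻¹ᵁ V).ι = U.ι ≫ h := IsOpenImmersion.lift_fac _ _ _
    have hl2 : l ≫ (g ∣_ V) = g' ∣_ V := by
      rw [← cancel_mono V.ι, Category.assoc, morphismRestrict_ι, morphismRestrict_ι, reassoc_of% hl, hh]
    rw [← hl, ← hl2, Category.assoc, IsIso.hom_inv_id_assoc]
  haveI : IsDominant U.ι := ⟨by
    rw [DenseRange, Scheme.Opens.range_ι]
    exact U.2.dense ⟨_, hηU⟩⟩
  exact ext_of_isDominant_of_isSeparated g (by rw [e₁, e₂]) U.ι ((key h₁ e₁).trans (key h₂ e₂).symm)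

/-- **A desingularisation without contracted exceptional curves is minimal.** -/
theorem existsUnique_hom_of_no_exc (hY : ∀ y : Y, IsIntegrallyClosed (Y.presheaf.stalk y))
    (hX : ∀ x : X, IsRegularLocalRing (X.presheaf.stalk x)) (hdX : topologicalKrullDim X ≤ 2)
    (g : X ⟶ Y) [IsProper g] (hg : ∃ V : Y.Opens, (V : Set Y).Nonempty ∧ IsIso (g ∣_ V))
    (hexc : ∀ (C : Scheme.{u}) (ι : C ⟶ X) [IsClosedImmersion ι], Models.IsExcCurve ι →
      ¬ ∃ y : Y, Set.range (ι ≫ g) = {y})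
    {X' : Scheme.{u}} [IsIntegral X'] [IsNoetherian X'] (hX' : ∀ x : X', IsRegularLocalRing (X'.presheaf.stalk x))
    (hdX' : topologicalKrullDim X' ≤ 2) (g' : X' ⟶ Y) [IsProper g']
    (hg' : ∃ V : Y.Opens, (V : Set Y).Nonempty ∧ IsIso (g' ∣_ V)) :
    ∃! h : X' ⟶ X, h ≫ g = g' := by
  obtain ⟨V, hV, hVi⟩ := id hg
  obtain ⟨hgen, hst⟩ := BirQFLib.birational_of_isIso_restrict g V hV hVi
  obtain ⟨V', hV', hVi'⟩ := id hg'
  obtain ⟨hgen', -⟩ := BirQFLib.birational_of_isIso_restrict g' V' hV' hVi'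
  haveI := hst
  haveI : IsIso (Y.presheaf.stalkSpecializes (specializes_of_eq hgen)) :=
    ⟨Y.presheaf.stalkSpecializes (specializes_of_eq hgen.symm), by simp, by simp⟩
  haveI : IsIso (funMap g hgen) := IsIso.comp_isIso' inferInstance inferInstance
  let zK : Spec X'.functionField ⟶ X := Spec.map (inv (funMap g hgen) ≫ funMap g' hgen') ≫ X.fromSpecStalk (genericPoint X)
  obtain ⟨Z, -, p, -, q, hp, hq, -⟩ := exists_ptSeq_extend hX' hdX' g' g zK (by
    rw [Category.assoc, ← fromSpecStalk_funMap g hgen, ← Spec.map_comp_assoc, IsIso.hom_inv_id_assoc,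
      fromSpecStalk_funMap g' hgen'])
  obtain ⟨h, hh⟩ := exists_descend hY hX hdX g hg hexc hp hX' g' hg' (hp.dim_le hdX') q hq
  exact ⟨h, hh, fun h' hh' => hom_ext_of_birational g hg g' hgen' hh' hh⟩

end Groth.Agent.SurfPtBlow
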