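import Groth.Agent.SurfPtBlow.DvrMeet
import Groth.Agent.SurfPtBlow.DvrModel
import Groth.Agent.SurfPtBlow.MinimalMain
import Groth.Agent.DVRCrit.Local

/-!
# Minimal models over a discrete valuation ring
-/

set_option autoImplicit false
set_option backward.isDefEq.respectTransparency false
set_option linter.style.haveILetI false
set_option maxHeartbeats 1000000

universe u

open CategoryTheory CategoryTheory.Limits AlgebraicGeometry TopologicalSpace
open Groth.Agent.TwistShriek Groth.Agent.TwistShriek.PointBlow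

noncomputable section

namespace Groth.Agent.SurfPtBlow

variable {R : Type u} [CommRing R] [IsDomain R] [IsDiscreteValuationRing R]

theorem normal_of_regular {W : Scheme.{u}} (hreg : ∀ w : W, IsRegularLocalRing (W.presheaf.stalk w)) (w : W) :
    IsIntegrallyClosed (W.presheaf.stalk w) := by
  haveI := hreg w
  exact (PurityLib.isIntegrallyClosed_of_regular _).2

/-- Two exceptional curves over the closed point are disjoint or equal. -/
theorem disjoint_dvr {Z : Scheme.{u}} [IsIntegral Z] [IsNoetherian Z] {p : Z ⟶ Spec (CommRingCat.of R)} [IsProper p]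
    (hp : Good p) {C₁ C₂ : Scheme.{u}} (ι₁ : C₁ ⟶ Z) (ι₂ : C₂ ⟶ Z) [IsClosedImmersion ι₁] [IsClosedImmersion ι₂]
    (h₁ : Models.IsExcCurve ι₁) (h₂ : Models.IsExcCurve ι₂) (hy₁ : ∀ c, p (ι₁ c) = IsLocalRing.closedPoint R)
    (hy₂ : ∀ c, p (ι₂ c) = IsLocalRing.closedPoint R) (hne : Set.range ι₁ ≠ Set.range ι₂) :
    Disjoint (Set.range ι₁) (Set.range ι₂) := by
  obtain ⟨k₁, hk₁, j₁, hj₁, hr₁, hC₁, ⟨e₁⟩⟩ := exists_line ι₁ h₁
  obtain ⟨k₂, hk₂, j₂, hj₂, hr₂, hC₂, ⟨e₂⟩⟩ := exists_line ι₂ h₂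
  haveI := hj₁
  haveI := hj₂
  rw [← hr₁, ← hr₂] at hne ⊢
  have hf₁ : ∀ z, p (j₁ z) = IsLocalRing.closedPoint R := fun z => by
    obtain ⟨c, hc⟩ := hr₁.le ⟨z, rfl⟩
    rw [← hc]; exact hy₁ c
  have hf₂ : ∀ z, p (j₂ z) = IsLocalRing.closedPoint R := fun z => by
    obtain ⟨c, hc⟩ := hr₂.le ⟨z, rfl⟩
    rw [← hc]; exact hy₂ c
  by_contra hmeet
  exact hp.h1 (subsingleton_H1_of_meet p hp.gen_ne hp.surj j₁ j₂ hC₁ hC₂ e₁ e₂ hf₁ hf₂ hne hmeet)

/-- Closed points of a proper scheme lie over the closed point. -/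
theorem apply_closed_eq {Z : Scheme.{u}} (p : Z ⟶ Spec (CommRingCat.of R)) [IsProper p] {z : Z}
    (hz : IsClosed ({z} : Set Z)) : p z = IsLocalRing.closedPoint R := by
  have h := p.isClosedMap _ hz
  rw [Set.image_singleton] at h
  exact PrimeSpectrum.ext (IsLocalRing.eq_maximalIdeal ((PrimeSpectrum.isClosed_singleton_iff_isMaximal _).1 h))

/-- An exceptional curve over the closed point not contracted by point blow-ups has exceptional image. -/
theorem exists_exc_dvr {Z W : Scheme.{u}} {q : Z ⟶ W} (hq : PtSeq q) [hWi : IsIntegral W] [hWn : IsNoetherian W]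
    (hreg : ∀ w : W, IsRegularLocalRing (W.presheaf.stalk w)) {g : W ⟶ Spec (CommRingCat.of R)} [hgp : IsProper g]
    (hg : Good g) {C : Scheme.{u}} (ι : C ⟶ Z) [hι : IsClosedImmersion ι] (hE : Models.IsExcCurve ι)
    (hy : ∀ c, g (q (ι c)) = IsLocalRing.closedPoint R) (hne : ∀ w, ∃ c, q (ι c) ≠ w) :
    ∃ (C' : Scheme.{u}) (ι' : C' ⟶ W), IsClosedImmersion ι' ∧ Models.IsExcCurve ι' ∧
      ∀ c, g (ι' c) = IsLocalRing.closedPoint R := by
  revert hWi hWn hreg g hgp hg ι hι hE hy hne
  induction hq with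
  | refl W =>
    intro hWi hWn hreg g hgp hg ι hι hE hy hne
    exact ⟨C, ι, hι, hE, hy⟩
  | @step Z Z₁ W b r z hz hzreg hd hb hr ih =>
    intro hWi hWn hreg g hgp hg ι hι hE hy hne
    obtain ⟨hint₁, hreg₁, hbir₁, -⟩ := hr.invariants hreg
    haveI := hint₁
    haveI := hr.isNoetherian.1
    haveI := hr.isNoetherian.2
    haveI := PointBlow.isProper hb
    haveI := isNoetherian_blowUp hb
    obtain ⟨hint, hbirb⟩ := integral_blowUp hb hd
    haveI := hint
    obtain ⟨P⟩ := exists_pointParams hz hzreg hd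
    have hgood : Good (b ≫ r ≫ g) :=
      (hg.comp (normal_of_regular hreg) r hbir₁).comp (normal_of_regular hreg₁) b hbirb
    have hgr : g (r z) = IsLocalRing.closedPoint R := apply_closed_eq (r ≫ g) hz
    have hFy : ∀ c, (b ≫ r ≫ g) (jE b hz c) = IsLocalRing.closedPoint R := fun c => by
      have hc : b (jE b hz c) = z := (range_jE_eq (π := b) (hw := hz)).le ⟨c, rfl⟩
      simp [hc, hgr]
    have hrne : Set.range ι ≠ Set.range (jE b hz) := fun h => by
      obtain ⟨c, hc⟩ := hne (r z)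
      refine hc ?_
      have hc' : b (ι c) = z := (range_jE_eq (π := b) (hw := hz)).le (h.le ⟨c, rfl⟩)
      show r (b (ι c)) = r z
      rw [hc']
    have hdis : Disjoint (Set.range ι) (Set.range (jE b hz)) :=
      disjoint_dvr hgood ι (jE b hz) hE (isExcCurve hb P) (fun c => by simpa using hy c) hFy hrne
    let U : Z₁.Opens := ⟨{z}ᶜ, hz.isOpen_compl⟩
    haveI : IsIso (b ∣_ U) := isIso_restrict_compl hb U fun h => h rfl
    have hU : Set.range ι ⊆ b ⁻¹ᵁ U := by
      rintro _ ⟨c, rfl⟩ hcz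
      exact Set.disjoint_left.1 hdis ⟨c, rfl⟩ ((range_jE_eq (π := b) (hw := hz)).ge hcz)
    obtain ⟨hci, hexc⟩ := exc_transport ι hE b U hU
    exact ih hreg hg (ι ≫ b) hexc (by simpa using hy) (by simpa using hne)

/-- Birationality passes to the second factor. -/
theorem birational_snd {A B D : Scheme.{u}} [IsIntegral A] [IsIntegral B] [IsIntegral D] (b : A ⟶ B)
    (hb : ∃ V : B.Opens, (V : Set B).Nonempty ∧ IsIso (b ∣_ V)) (q : A ⟶ D) (q₁ : B ⟶ D) (h : b ≫ q₁ = q)
    (hq : q (genericPoint A) = genericPoint D) (hq' : IsIso (q.stalkMap (genericPoint A))) :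
    q₁ (genericPoint B) = genericPoint D ∧ IsIso (q₁.stalkMap (genericPoint B)) := by
  subst h
  obtain ⟨V, hV, hVi⟩ := hb
  obtain ⟨hgen, hst⟩ := BirQFLib.birational_of_isIso_restrict b V hV hVi
  rw [Scheme.Hom.comp_apply, hgen] at hq
  refine ⟨hq, ?_⟩
  rw [Scheme.Hom.stalkMap_comp] at hq'
  haveI := hst
  haveI := IsIso.of_isIso_comp_right (q₁.stalkMap (b (genericPoint A))) (b.stalkMap (genericPoint A))
  rw [← hgen]
  infer_instance

variable {X : Scheme.{u}} [IsIntegral X] [IsNoetherian X]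

/-- Morphisms through point blow-ups descend to a model without exceptional curves. -/
theorem exists_descend_dvr (hX : ∀ x : X, IsRegularLocalRing (X.presheaf.stalk x))
    (hdX : topologicalKrullDim X ≤ 2) {g : X ⟶ Spec (CommRingCat.of R)} [IsProper g] (hg : Good g)
    (hexc : ∀ (C : Scheme.{u}) (ι : C ⟶ X) [IsClosedImmersion ι], Models.IsExcCurve ι →
      ¬ ∀ c, g (ι c) = IsLocalRing.closedPoint R)
    {Z X' : Scheme.{u}} {p : Z ⟶ X'} (hp : PtSeq p) [hi : IsIntegral X'] [hn : IsNoetherian X'] [hZi : IsIntegral Z]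
    (hX' : ∀ x : X', IsRegularLocalRing (X'.presheaf.stalk x)) {g' : X' ⟶ Spec (CommRingCat.of R)} [hgp : IsProper g']
    (hdZ : topologicalKrullDim Z ≤ 2) (q : Z ⟶ X) (hq : q ≫ g = p ≫ g') (hqgen : q (genericPoint Z) = genericPoint X)
    (hqst : IsIso (q.stalkMap (genericPoint Z))) :
    ∃ h : X' ⟶ X, h ≫ g = g' ∧ p ≫ h = q ∧ h (genericPoint X') = genericPoint X ∧
      IsIso (h.stalkMap (genericPoint X')) := by
  revert hi hn hZi hX' g' hgp hdZ q hq hqgen hqst
  induction hp with
  | refl X' =>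
    intro hi hn hZi hX' g' hgp hdZ q hq hqgen hqst
    exact ⟨q, by rwa [Category.id_comp] at hq, Category.id_comp q, hqgen, hqst⟩
  | @step Z Z₁ X' b r z hz hzreg hd hb hr ih =>
    intro hi hn hZi hX' g' hgp hdZ q hq hqgen hqst
    obtain ⟨hint₁, hreg₁, hbir₁, -⟩ := hr.invariants hX'
    haveI := hint₁
    haveI := hr.isNoetherian.1
    haveI := hr.isNoetherian.2
    haveI := PointBlow.isProper hb
    haveI := isNoetherian_blowUp hb
    obtain ⟨-, hbirb⟩ := integral_blowUp hb hd
    obtain ⟨P⟩ := exists_pointParams hz hzreg hd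
    have hq' : q ≫ g = b ≫ r ≫ g' := by rw [hq, Category.assoc]
    haveI : IsProper (q ≫ g) := hq' ▸ inferInstance
    haveI : IsProper q := IsProper.of_comp q g
    have hregZ := regular_blowUp hb hreg₁ hd
    have hgr : g' (r z) = IsLocalRing.closedPoint R := apply_closed_eq (r ≫ g') hz
    have hfib : ∀ w, b w = z → g (q w) = IsLocalRing.closedPoint R := fun w hw => by
      rw [← Scheme.Hom.comp_apply, hq']
      simp [hw, hgr]
    have hqbir := exists_iso_open (normal_of_regular hX) q hqgen hqst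
    -- the exceptional curve is contracted
    have hconst : ∃ x, ∀ w, b w = z → q w = x := by
      by_contra hcon
      push Not at hcon
      have hne : ∀ x, ∃ c, q (jE b hz c) ≠ x := fun x => by
        obtain ⟨w, hw, hw'⟩ := hcon x
        obtain ⟨c, rfl⟩ := (range_jE_eq (π := b) (hw := hz)).ge hw
        exact ⟨c, hw'⟩
      have hmem : ∀ c, g (q (jE b hz c)) = IsLocalRing.closedPoint R := fun c =>
        hfib _ ((range_jE_eq (π := b) (hw := hz)).le ⟨c, rfl⟩)
      rcases isIso_or_ptSeq hregZ hdZ _ hX hdX q hqbir le_rfl with h | h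
      · haveI := h
        haveI : IsIso (q ∣_ ⊤) := inferInstance
        obtain ⟨hci, hexc'⟩ := exc_transport (jE b hz) (isExcCurve hb P) q ⊤ (fun _ _ => trivial)
        exact hexc _ (jE b hz ≫ q) hexc' (by simpa using hmem)
      · obtain ⟨C', ι', hι', hexc', hy'⟩ := exists_exc_dvr h hX hg (jE b hz) (isExcCurve hb P) hmem hne
        haveI := hι'
        exact hexc C' ι' hexc' hy'
    obtain ⟨x, hx⟩ := hconst
    obtain ⟨q₁, hq₁, -⟩ := existsUnique_desc hb hzreg hd q x hx
    obtain ⟨hgen₁, hst₁⟩ := birational_snd b hbirb q q₁ hq₁ hqgen hqst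
    have hq₁g : q₁ ≫ g = r ≫ g' := by
      obtain ⟨ψ, -, huniq⟩ := existsUnique_desc hb hzreg hd (b ≫ r ≫ g') (g' (r z))
        fun w hw => by simp [hw]
      refine (huniq (q₁ ≫ g) ?_).trans (huniq (r ≫ g') rfl).symm
      show b ≫ q₁ ≫ g = b ≫ r ≫ g'
      rw [reassoc_of% hq₁, hq']
    obtain ⟨h, h1, h2, h3, h4⟩ := ih hX' ((topologicalKrullDim_le_of_isClosedMap b.continuous b.isClosedMap
      (surjective_of_birational b hbirb)).trans hdZ) q₁ hq₁g hgen₁ hst₁
    exact ⟨h, h1, by rw [Category.assoc, h2, hq₁], h3, h4⟩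

omit [AlgebraicGeometry.IsNoetherian X] in
/-- An exceptional curve over the closed point is a vertical component. -/
theorem exists_vertComp (p : X ⟶ Spec (CommRingCat.of R)) {C : Scheme.{u}} (ι : C ⟶ X) [IsClosedImmersion ι]
    (h : Models.IsExcCurve ι) (hy : ∀ c, p (ι c) = IsLocalRing.closedPoint R) :
    ∃ Γ : ArSurf.VertComp R (Over.mk p), Models.IsExcCurve Γ.ι := by
  obtain ⟨-, k, hk, e, -⟩ := id h
  haveI := isIntegral_P1 (k := k)
  haveI : Nonempty C := ⟨e.hom (genericPoint _)⟩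
  haveI : IsIntegral C := isIntegral_of_isOpenImmersion e.inv
  let res := Spec.map (CommRingCat.ofHom (IsLocalRing.residue R))
  haveI : IsClosedImmersion res := IsClosedImmersion.spec_of_surjective _ IsLocalRing.residue_surjective
  obtain ⟨t, ht⟩ := DVRCrit.exists_factor_closed res (ι ≫ p) (by
    rintro _ ⟨c, rfl⟩
    exact ⟨IsLocalRing.closedPoint _, (IsLocalRing.comap_closedPoint (IsLocalRing.residue R)).trans (hy c).symm⟩)
  have hdim : topologicalKrullDim C = 1 := by
    rw [← dim_P1 (k := k)]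
    exact (e.inv.homeomorph.isHomeomorph.topologicalKrullDim_eq)
  exact ⟨⟨Over.mk t, ι, inferInstance, ‹IsIntegral C›, hdim, ht.symm⟩, h⟩

section Models

variable {C Y : Scheme.{u}} {f : C ⟶ Spec (CommRingCat.of (FractionRing R))} {p : X ⟶ Spec (CommRingCat.of R)}
  {q : Y ⟶ Spec (CommRingCat.of R)} {gX : C ⟶ X} {gY : C ⟶ Y}

omit [AlgebraicGeometry.IsNoetherian X] in
theorem funMap_isIso_of_open {A B : Scheme.{u}} [IsIntegral A] [IsIntegral B] (j : A ⟶ B) [IsOpenImmersion j]
    (hj : j (genericPoint A) = genericPoint B) : IsIso (funMap j hj) := by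
  haveI : IsIso (B.presheaf.stalkSpecializes (specializes_of_eq hj)) :=
    ⟨B.presheaf.stalkSpecializes (specializes_of_eq hj.symm), by simp, by simp⟩
  exact IsIso.comp_isIso' inferInstance inferInstance

/-- **The mapping property of minimal models.** -/
theorem exists_hom_to_minimal [IsProper p] [IsProper q] [IsIntegral C] [IsIntegral Y] [IsNoetherian Y]
    (hX : ∀ x : X, IsRegularLocalRing (X.presheaf.stalk x)) (hdX : topologicalKrullDim X ≤ 2) (hgood : Good p)
    (hmin : ∀ Γ : ArSurf.VertComp R (Over.mk p), ¬ Models.IsExcCurve Γ.ι)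
    (hY : ∀ y : Y, IsRegularLocalRing (Y.presheaf.stalk y)) (hdY : topologicalKrullDim Y ≤ 2)
    (hgX : IsPullback gX f p (Spec.map (CommRingCat.ofHom (algebraMap R (FractionRing R)))))
    (hgY : IsPullback gY f q (Spec.map (CommRingCat.ofHom (algebraMap R (FractionRing R))))) :
    (∃! b : Y ⟶ X, b ≫ p = q ∧ gY ≫ b = gX) ∧
      ∀ b : Y ⟶ X, b ≫ p = q → gY ≫ b = gX → Models.IsContractionSeq b := by
  haveI := isOpenImmersion_gen hgX
  haveI := isOpenImmersion_gen hgY
  have hX0 : gX (genericPoint C) = genericPoint X := genericPoint_eq_of_isOpenImmersion gX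
  have hY0 : gY (genericPoint C) = genericPoint Y := genericPoint_eq_of_isOpenImmersion gY
  haveI := funMap_isIso_of_open gX hX0
  haveI := funMap_isIso_of_open gY hY0
  let zK : Spec Y.functionField ⟶ X := Spec.map (funMap gX hX0 ≫ inv (funMap gY hY0)) ≫ X.fromSpecStalk (genericPoint X)
  have hzC : Spec.map (funMap gY hY0) ≫ zK = C.fromSpecStalk (genericPoint C) ≫ gX := by
    rw [← fromSpecStalk_funMap gX hX0, ← Spec.map_comp_assoc, Category.assoc, IsIso.inv_hom_id, Category.comp_id]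
  obtain ⟨Z, hZi, π, hπη, q', hπ, hq', hq'K⟩ := exists_ptSeq_extend hY hdY q p zK (by
    rw [← cancel_epi (Spec.map (funMap gY hY0)), reassoc_of% hzC, reassoc_of% (fromSpecStalk_funMap gY hY0)]
    rw [hgX.w, hgY.w])
  haveI := hZi
  obtain ⟨-, -, hπbir, -⟩ := hπ.invariants hY
  haveI : IsIso (funMap π hπη) := by
    obtain ⟨V, hV, hVi⟩ := hπbir
    obtain ⟨hgen, hst⟩ := BirQFLib.birational_of_isIso_restrict π V hV hVi
    haveI := hst
    haveI : IsIso (Y.presheaf.stalkSpecializes (specializes_of_eq hπη)) :=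
      ⟨Y.presheaf.stalkSpecializes (specializes_of_eq hπη.symm), by simp, by simp⟩
    exact IsIso.comp_isIso' inferInstance inferInstance
  -- the map on the blown-up surface is birational
  let θ : X.functionField ⟶ Z.functionField := funMap gX hX0 ≫ inv (funMap gY hY0) ≫ funMap π hπη
  have hθ : Z.fromSpecStalk (genericPoint Z) ≫ q' = Spec.map θ ≫ X.fromSpecStalk (genericPoint X) := by
    rw [hq'K, ← Spec.map_comp_assoc]
    simp [θ]
  have hqgen : q' (genericPoint Z) = genericPoint X := by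
    have h1 := congrArg (fun m => m (IsLocalRing.closedPoint Z.functionField)) hθ
    simp only [Scheme.Hom.comp_apply, Scheme.fromSpecStalk_closedPoint] at h1
    rw [h1, Subsingleton.elim (α := PrimeSpectrum X.functionField)
      (Spec.map θ (IsLocalRing.closedPoint Z.functionField)) (IsLocalRing.closedPoint _), Scheme.fromSpecStalk_closedPoint]
  have hθ' : funMap q' hqgen = θ := Spec.map_injective ((cancel_mono (X.fromSpecStalk (genericPoint X))).1
    ((fromSpecStalk_funMap q' hqgen).trans hθ))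
  have hqst : IsIso (q'.stalkMap (genericPoint Z)) := by
    haveI : IsIso (funMap q' hqgen) := by rw [hθ']; infer_instance
    haveI : IsIso (X.presheaf.stalkSpecializes (specializes_of_eq hqgen)) :=
      ⟨X.presheaf.stalkSpecializes (specializes_of_eq hqgen.symm), by simp, by simp⟩
    haveI : IsIso (X.presheaf.stalkSpecializes (specializes_of_eq hqgen) ≫ q'.stalkMap (genericPoint Z)) :=
      ‹IsIso (funMap q' hqgen)›
    exact IsIso.of_isIso_comp_left (X.presheaf.stalkSpecializes (specializes_of_eq hqgen))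
      (q'.stalkMap (genericPoint Z))
  obtain ⟨b, hb, hπb, hbgen, hbst⟩ := exists_descend_dvr hX hdX hgood
    (fun C' ι _ hι hy => (exists_vertComp p ι hι hy).elim fun Γ hΓ => hmin Γ hΓ)
    hπ hY (hπ.dim_le hdY) q' hq' hqgen hqst
  have hbg : gY ≫ b = gX := by
    haveI : IsDominant (C.fromSpecStalk (genericPoint C)) := ⟨by
      rw [DenseRange, dense_iff_closure_eq]
      exact Set.eq_univ_of_univ_subset (((genericPoint_spec C).def).ge.trans (closure_mono
        (Set.singleton_subset_iff.2 ⟨_, Scheme.fromSpecStalk_closedPoint⟩)))⟩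
    refine ext_of_isDominant_of_isSeparated p (by rw [Category.assoc, hb, hgY.w, hgX.w])
      (C.fromSpecStalk (genericPoint C)) ?_
    rw [← reassoc_of% (fromSpecStalk_funMap gY hY0), ← hzC]
    refine congrArg (_ ≫ ·) ?_
    rw [← cancel_epi (Spec.map (funMap π hπη)), reassoc_of% (fromSpecStalk_funMap π hπη), hπb, hq'K]
  haveI : IsDominant gY := ⟨by
    rw [DenseRange]
    exact gY.opensRange.2.dense ⟨_, genericPoint C, rfl⟩⟩
  have huniq : ∀ b' : Y ⟶ X, b' ≫ p = q → gY ≫ b' = gX → b' = b := fun b' h1 h2 =>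
    ext_of_isDominant_of_isSeparated p (h1.trans hb.symm) gY (h2.trans hbg.symm)
  refine ⟨⟨b, ⟨hb, hbg⟩, fun b' h' => huniq b' h'.1 h'.2⟩, fun b' h1 h2 => ?_⟩
  rw [huniq b' h1 h2]
  haveI : IsProper (b ≫ p) := hb.symm ▸ ‹IsProper q›
  haveI : IsProper b := IsProper.of_comp b p
  rcases isIso_or_ptSeq hY hdY _ hX hdX b (exists_iso_open (normal_of_regular hX) b hbgen hbst) le_rfl with h | h
  · haveI := h
    exact Models.IsContractionSeq.iso (asIso b)
  · exact h.isContractionSeq

end Models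

end Groth.Agent.SurfPtBlow
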