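import Groth.Agent.SurfPtBlow.Colength
import Groth.Agent.SurfPtBlow.Exc
import Groth.Agent.FinLenEquivLib.Basic
import Groth.Agent.S1571
import Groth.Agent.BMCohLib.Birational

/-!
# One blow-up of a point: behaviour off the point
-/

set_option autoImplicit false
set_option backward.isDefEq.respectTransparency false
set_option linter.style.haveILetI false
set_option maxHeartbeats 1000000

universe u

open CategoryTheory CategoryTheory.Limits AlgebraicGeometry TopologicalSpace
open Groth.Agent.TwistShriek Groth.Agent.TwistShriek.PointBlow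

noncomputable section

namespace Groth.Agent.SurfPtBlow

variable {X X' : Scheme.{u}} {x : X} {hx : IsClosed ({x} : Set X)} {π : X' ⟶ X}

/-- At an isolated point of the support the colength is finite. -/
theorem colen_ne_top_of_isolated [IsLocallyNoetherian X] (I : X.IdealSheafData) {x : X}
    (h : ∀ y : X, y ⤳ x → y ∈ I.support → y = x) : colen I x ≠ ⊤ := by
  obtain ⟨N, hN⟩ := exists_pow_le_of_isolated I h
  have h1 := Module.length_ne_top_iff.2 (FinLenEquivLib.isFiniteLength_quot_pow (A := X.presheaf.stalk x) N)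
  exact ne_top_of_le_ne_top h1 (Module.length_le_of_surjective (Submodule.factor hN) (Submodule.factor_surjective hN))

variable (hb : BlowUp.IsBlowUp π (pointIdeal hx))

include hb

/-- The blow-up of a Noetherian scheme at a point is Noetherian. -/
theorem isNoetherian_blowUp [IsNoetherian X] : IsNoetherian X' := by
  haveI := isProper hb
  haveI : IsLocallyNoetherian X' := LocallyOfFiniteType.isLocallyNoetherian π
  haveI : CompactSpace X' := QuasiCompact.compactSpace_of_compactSpace π
  exact { }

/-- The blow-up is an isomorphism over the complement of the point. -/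
theorem isIso_restrict_compl (U : X.Opens) (hU : x ∉ U) : IsIso (π ∣_ U) := by
  have h := BlowCompLib.isIso_restrict _ π hb
  have hle : U ≤ (pointIdeal hx).support.compl := fun y hy h' => by
    have h1 : y ∈ ((pointIdeal hx).support : Set X) := h'
    rw [Scheme.IdealSheafData.coe_support_vanishingIdeal] at h1
    exact hU ((h1 : y = x) ▸ hy)
  haveI := h
  exact BMCohLib.isIso_restrict_le π hle

/-- Off the exceptional divisor nothing happens. -/
theorem off_point (I : X.IdealSheafData) (K : X'.IdealSheafData) (d : ℕ)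
    (hK : I.comap π = K * BlowUp.exceptional π (pointIdeal hx) ^ d) (y : X') (hy : π y ≠ x) :
    colen K y = colen I (π y) ∧ (y ∈ K.support ↔ π y ∈ I.support) ∧
      ∃ e : X.presheaf.stalk (π y) ≃+* X'.presheaf.stalk y, (∀ z, π z = π y → z = y) := by
  let V : X.Opens := ⟨{x}ᶜ, hx.isOpen_compl⟩
  haveI hiso : IsIso (π ∣_ V) := isIso_restrict_compl hb V (fun h => h rfl)
  have hyV : y ∈ π ⁻¹ᵁ V := hy
  haveI : IsOpenImmersion ((π ⁻¹ᵁ V).ι ≫ π) := by rw [← morphismRestrict_ι]; infer_instance
  haveI : IsIso (π.stalkMap y) := by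
    let y' : ↥(π ⁻¹ᵁ V) := ⟨y, hyV⟩
    haveI : IsIso (π.stalkMap ((π ⁻¹ᵁ V).ι y') ≫ (π ⁻¹ᵁ V).ι.stalkMap y') := by
      rw [← Scheme.Hom.stalkMap_comp]; infer_instance
    exact IsIso.of_isIso_comp_right (π.stalkMap ((π ⁻¹ᵁ V).ι y')) ((π ⁻¹ᵁ V).ι.stalkMap y')
  let e := (asIso (π.stalkMap y)).commRingCatIsoToRingEquiv
  have hE : IntMult.stalkIdeal (BlowUp.exceptional π (pointIdeal hx) ^ d) y = ⊤ := by
    rw [InfNbhdLib.stalkIdeal_pow]
    have h1 : IntMult.stalkIdeal (BlowUp.exceptional π (pointIdeal hx)) y = ⊤ := by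
      rw [stalkIdeal_eq_top_iff]
      intro h
      have h1 : y ∈ (((pointIdeal hx).comap π).support : Set X') := h
      rw [Scheme.IdealSheafData.support_comap, TopologicalSpace.Closeds.coe_preimage,
        Scheme.IdealSheafData.coe_support_vanishingIdeal] at h1
      exact hy h1
    rw [h1, Ideal.top_pow]
  have hst : IntMult.stalkIdeal K y = (IntMult.stalkIdeal I (π y)).map (π.stalkMap y).hom := by
    have h := congrArg (fun J => IntMult.stalkIdeal J y) hK
    simp only [IdealStalkLib.stalkIdeal_comap, DivisorialLib.stalkIdeal_mul, hE, Ideal.mul_top] at h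
    exact h.symm
  have hcol : colen K y = colen I (π y) :=
    CycLib.length_quot_ringEquiv e (IntMult.stalkIdeal I (π y)) _ hst
  refine ⟨hcol, ?_, e, fun z hz => ?_⟩
  · rw [← not_iff_not, ← colen_eq_zero_iff, ← colen_eq_zero_iff, hcol]
  · have h1 : z ∈ π ⁻¹ᵁ V := (show π z ∈ V by rw [hz]; exact hy)
    have h2 : ((π ⁻¹ᵁ V).ι ≫ π) ⟨z, h1⟩ = ((π ⁻¹ᵁ V).ι ≫ π) ⟨y, hyV⟩ := hz
    exact congrArg Subtype.val (((π ⁻¹ᵁ V).ι ≫ π).isOpenEmbedding.injective h2)

/-- Inverse images of effective Cartier ideals are effective Cartier. -/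
theorem isEffCartier_comap {D : X.IdealSheafData} (hD : BlowUp.IsEffCartierIdeal D) :
    BlowUp.IsEffCartierIdeal (D.comap π) := by
  obtain ⟨h1, h2⟩ := S1571.result X' _ hb.1
  haveI := h1
  haveI := h2
  exact BlowCompLib.isEffCartier_comap_of_blowUp _ π hb hD

end Groth.Agent.SurfPtBlow
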