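import Groth.Agent.IdealStalkLib.Cartier
import Groth.Agent.DivisorialLib.Basic
import Groth.Agent.BlowCompLib.Compose
import Groth.Agent.DVRCrit.Centre
import Mathlib.AlgebraicGeometry.SpreadingOut

/-!
# An ideal whose principalisations resolve a rational map to a proper scheme
-/

set_option autoImplicit false
set_option backward.isDefEq.respectTransparency false
set_option linter.style.haveILetI false
set_option maxHeartbeats 1000000

universe u

open CategoryTheory CategoryTheory.Limits AlgebraicGeometry TopologicalSpace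

noncomputable section

namespace Groth.Agent.SurfPtBlow

/-- An ideal of an affine open extends to an ideal sheaf. -/
theorem exists_ext_ideal {X : Scheme.{u}} [IsNoetherian X] (V : X.affineOpens) (J : Ideal Γ(X, V.1)) :
    ∃ E : X.IdealSheafData, E.ideal V = J := by
  let q : Γ(X, V.1) ⟶ CommRingCat.of (Γ(X, V.1) ⧸ J) := CommRingCat.ofHom (Ideal.Quotient.mk J)
  let f : Spec (CommRingCat.of (Γ(X, V.1) ⧸ J)) ⟶ X := Spec.map q ≫ V.2.fromSpec
  refine ⟨f.ker, ?_⟩
  rw [Scheme.Hom.ker_apply]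
  have h : f.app V.1 = q ≫ (Scheme.ΓSpecIso (CommRingCat.of (Γ(X, V.1) ⧸ J))).inv ≫
      (Spec (CommRingCat.of (Γ(X, V.1) ⧸ J))).presheaf.map (eqToHom (by
        show f ⁻¹ᵁ V.1 = ⊤
        rw [show f ⁻¹ᵁ V.1 = Spec.map q ⁻¹ᵁ (V.2.fromSpec ⁻¹ᵁ V.1) from rfl, V.2.fromSpec_preimage_self]
        rfl)).op := by
    simp only [f, Scheme.Hom.comp_app, V.2.fromSpec_app_self, Category.assoc]
    rw [Scheme.Hom.naturality, Scheme.ΓSpecIso_inv_naturality_assoc]
    simp only [Category.assoc, ← Functor.map_comp]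
    rfl
  rw [h, CommRingCat.hom_comp, RingHom.ker_comp_of_injective _ (ConcreteCategory.bijective_of_isIso _).1]
  exact Ideal.mk_ker

/-- In a local domain a factor with two generators of a nonzero principal ideal is generated by one of them. -/
theorem pair_principal {O : Type*} [CommRing O] [IsDomain O] [IsLocalRing O] (n d : O) (B : Ideal O) (c : O)
    (hc : c ≠ 0) (h : Ideal.span {n, d} * B = Ideal.span {c}) :
    (∃ r, n = d * r) ∨ ∃ r, d = n * r := by
  have hcm : c ∈ Ideal.span {n, d} * B := h ▸ Ideal.mem_span_singleton_self c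
  rw [Ideal.span_insert, Submodule.sup_mul, Submodule.mem_sup] at hcm
  obtain ⟨p, hp, q, hq, hpq⟩ := hcm
  obtain ⟨β, hβ, rfl⟩ := Ideal.mem_span_singleton_mul.1 hp
  obtain ⟨δ, hδ, rfl⟩ := Ideal.mem_span_singleton_mul.1 hq
  have hmem : ∀ a ∈ ({n, d} : Set O), ∀ b ∈ B, c ∣ a * b := fun a ha b hb =>
    Ideal.mem_span_singleton.1 (h ▸ Ideal.mul_mem_mul (Ideal.subset_span ha) hb)
  obtain ⟨r₁, hr₁⟩ := hmem n (Set.mem_insert _ _) β hβ
  obtain ⟨r₂, hr₂⟩ := hmem d (Set.mem_insert_of_mem _ rfl) δ hδ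
  have h1 : r₁ + r₂ = 1 := mul_left_cancel₀ hc (by rw [mul_add, ← hr₁, ← hr₂, hpq, mul_one])
  rcases IsLocalRing.isUnit_or_isUnit_of_add_one h1 with hu | hu
  · obtain ⟨v, rfl⟩ := hu
    obtain ⟨s, hs⟩ := hmem d (Set.mem_insert_of_mem _ rfl) β hβ
    refine Or.inr ⟨↑v⁻¹ * s, ?_⟩
    have hβ0 : β ≠ 0 := fun h0 => hc ((mul_eq_zero.1 (hr₁.symm.trans (by rw [h0, mul_zero]))).resolve_right v.ne_zero)
    refine mul_right_cancel₀ hβ0 ?_
    linear_combination hs - (↑v⁻¹ * s) * hr₁ - c * s * v.mul_inv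
  · obtain ⟨v, rfl⟩ := hu
    obtain ⟨s, hs⟩ := hmem n (Set.mem_insert _ _) δ hδ
    refine Or.inl ⟨↑v⁻¹ * s, ?_⟩
    have hδ0 : δ ≠ 0 := fun h0 => hc ((mul_eq_zero.1 (hr₂.symm.trans (by rw [h0, mul_zero]))).resolve_right v.ne_zero)
    refine mul_right_cancel₀ hδ0 ?_
    linear_combination hs - (↑v⁻¹ * s) * hr₂ - c * s * v.mul_inv

/-- Morphisms on the spectra of the local rings agreeing at the generic point glue. -/
theorem exists_glue_generic {X Y S : Scheme.{u}} [IsIntegral X] (sX : X ⟶ S) (sY : Y ⟶ S)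
    [LocallyOfFiniteType sY] [IsSeparated sY] (φ : Spec X.functionField ⟶ Y)
    (hloc : ∀ x : X, ∃ l : Spec (X.presheaf.stalk x) ⟶ Y, l ≫ sY = X.fromSpecStalk x ≫ sX ∧
      Spec.map (X.presheaf.stalkSpecializes (genericPoint_specializes x)) ≫ l = φ) :
    ∃ g : X ⟶ Y, g ≫ sY = sX ∧ X.fromSpecStalk (genericPoint X) ≫ g = φ := by
  choose l hl hlφ using hloc
  have hsp := fun x => spread_out_of_isGermInjective' (sX := sX) (sY := sY) (x := x) (l x) (hl x)
  choose U hxU f hf hfS using hsp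
  let σ : ∀ x, Spec X.functionField ⟶ U x := fun x =>
    Spec.map (X.presheaf.stalkSpecializes (genericPoint_specializes x)) ≫ (U x).fromSpecStalkOfMem x (hxU x)
  have hσι : ∀ x, σ x ≫ (U x).ι = X.fromSpecStalk (genericPoint X) := fun x => by
    rw [Category.assoc, Scheme.Opens.fromSpecStalkOfMem_ι, Scheme.SpecMap_stalkSpecializes_fromSpecStalk]
  have hσf : ∀ x, σ x ≫ f x = φ := fun x => by rw [Category.assoc, ← hf, hlφ]
  have hcov : iSup U = ⊤ := eq_top_iff.mpr fun y _ => Opens.mem_iSup.mpr ⟨y, hxU y⟩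
  let 𝒰 : X.OpenCover := X.openCoverOfIsOpenCover U hcov
  have hcompat : ∀ (o o' : X), pullback.fst (𝒰.f o) (𝒰.f o') ≫ f o = pullback.snd (𝒰.f o) (𝒰.f o') ≫ f o' := by
    intro o o'
    let q := (isPullback_opens_inf (U o) (U o')).isoPullback
    rw [← cancel_epi q.hom]
    change q.hom ≫ pullback.fst (U o).ι (U o').ι ≫ _ = q.hom ≫ pullback.snd (U o).ι (U o').ι ≫ _
    rw [(isPullback_opens_inf (U o) (U o')).isoPullback_hom_fst_assoc,
      (isPullback_opens_inf (U o) (U o')).isoPullback_hom_snd_assoc]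
    let Q := U o ⊓ U o'
    have hηQ : genericPoint X ∈ Q :=
      ⟨(genericPoint_specializes o).mem_open (U o).2 (hxU o), (genericPoint_specializes o').mem_open (U o').2 (hxU o')⟩
    let τ : Spec X.functionField ⟶ Q := Q.fromSpecStalkOfMem (genericPoint X) hηQ
    have hτ : τ ≫ Q.ι = X.fromSpecStalk (genericPoint X) := Scheme.Opens.fromSpecStalkOfMem_ι _ _ _
    haveI : IsDominant τ := ⟨fun z => by
      obtain ⟨t⟩ : Nonempty (Spec X.functionField) := inferInstance
      refine closure_mono (Set.singleton_subset_iff.2 (Set.mem_range_self t)) (specializes_iff_mem_closure.1 ?_)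
      refine Q.ι.isOpenEmbedding.isInducing.specializes_iff.1 ?_
      rw [← Scheme.Hom.comp_apply, hτ]
      have h1 : X.fromSpecStalk (genericPoint X) t ⤳ genericPoint X := by
        rw [show t = IsLocalRing.closedPoint X.functionField from Subsingleton.elim (α := PrimeSpectrum X.functionField) _ _, Scheme.fromSpecStalk_closedPoint]
      exact h1.trans (genericPoint_specializes _)⟩
    haveI : IsReduced Q.toScheme := inferInstance
    refine ext_of_isDominant_of_isSeparated sY ?_ τ ?_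
    · simp only [Category.assoc, hfS, Scheme.homOfLE_ι_assoc]
    · have e : ∀ o'' (h : Q ≤ U o''), τ ≫ X.homOfLE h = σ o'' := fun o'' h => by
        rw [← cancel_mono (U o'').ι, Category.assoc, Scheme.homOfLE_ι, hτ, hσι]
      rw [← Category.assoc, ← Category.assoc, e o inf_le_left, e o' inf_le_right, hσf, hσf]
  refine ⟨𝒰.glueMorphisms f hcompat, Scheme.Cover.hom_ext 𝒰 _ _ fun o => ?_, ?_⟩
  · rw [𝒰.ι_glueMorphisms_assoc]
    exact hfS o
  · rw [← hσι (genericPoint X), Category.assoc]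
    exact (congrArg (fun m => σ _ ≫ m) (𝒰.ι_glueMorphisms f hcompat (genericPoint X))).trans (hσf _)

variable {X X' Z S : Scheme.{u}} [IsIntegral X] [IsIntegral X']

/-- The map of function fields of a dominant morphism. -/
def funMap (g : X' ⟶ X) (hg : g (genericPoint X') = genericPoint X) : X.functionField ⟶ X'.functionField :=
  X.presheaf.stalkSpecializes (specializes_of_eq hg) ≫ g.stalkMap (genericPoint X')

theorem fromSpecStalk_funMap (g : X' ⟶ X) (hg : g (genericPoint X') = genericPoint X) :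
    Spec.map (funMap g hg) ≫ X.fromSpecStalk (genericPoint X) = X'.fromSpecStalk (genericPoint X') ≫ g := by
  rw [funMap, Spec.map_comp, Category.assoc, Scheme.SpecMap_stalkSpecializes_fromSpecStalk,
    Scheme.SpecMap_stalkMap_fromSpecStalk]

theorem funMap_germ (g : X' ⟶ X) (hg : g (genericPoint X') = genericPoint X) (x : X') (V : X.Opens) [Nonempty V]
    (hxV : g x ∈ V) (v : Γ(X, V)) :
    funMap g hg (X.germToFunctionField V v) =
      algebraMap (X'.presheaf.stalk x) X'.functionField (g.stalkMap x (X.presheaf.germ V (g x) hxV v)) := by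
  rw [Scheme.Hom.germ_stalkMap_apply]
  show g.stalkMap _ (X.presheaf.stalkSpecializes _ (X.presheaf.germ V (genericPoint X) _ v)) =
    X'.presheaf.stalkSpecializes _ (X'.presheaf.germ (g ⁻¹ᵁ V) x _ (g.app V v))
  rw [TopCat.Presheaf.germ_stalkSpecializes_apply, TopCat.Presheaf.germ_stalkSpecializes_apply,
    Scheme.Hom.germ_stalkMap_apply]

/-- The function field map on the local rings. -/
theorem funMap_stalk (g : X' ⟶ X) (hg : g (genericPoint X') = genericPoint X) (x : X') (v : X.presheaf.stalk (g x)) :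
    funMap g hg (algebraMap (X.presheaf.stalk (g x)) X.functionField v) =
      algebraMap (X'.presheaf.stalk x) X'.functionField (g.stalkMap x v) := by
  obtain ⟨U, hU, s, rfl⟩ := X.presheaf.germ_exist v
  haveI : Nonempty U := ⟨⟨_, hU⟩⟩
  rw [show algebraMap (X.presheaf.stalk (g x)) X.functionField (X.presheaf.germ U (g x) hU s) =
      X.germToFunctionField U s from TopCat.Presheaf.germ_stalkSpecializes_apply (F := X.presheaf) hU
        (genericPoint_specializes (g x)) s]
  exact funMap_germ g hg x U hU s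

/-- At a point where the product ideal is invertible, the fraction is regular as soon as it is integral. -/
theorem mem_range_of_cartier (g : X' ⟶ X) (hg : g (genericPoint X') = genericPoint X) (x : X')
    (A : ValuationSubring X'.functionField) (hA : ∀ a, algebraMap (X'.presheaf.stalk x) X'.functionField a ∈ A)
    (hloc : IsLocalHom ((algebraMap (X'.presheaf.stalk x) X'.functionField).codRestrict A.toSubring hA))
    (I E R : X.IdealSheafData) (hI : I = E * R) (hIc : BlowUp.IsEffCartierIdeal (I.comap g))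
    (b : X.functionField) (n d : X.presheaf.stalk (g x)) (hd : d ≠ 0)
    (hE : IntMult.stalkIdeal E (g x) = Ideal.span {n, d})
    (hb : b * algebraMap (X.presheaf.stalk (g x)) X.functionField d = algebraMap (X.presheaf.stalk (g x)) X.functionField n)
    (hbA : funMap g hg b ∈ A) :
    funMap g hg b ∈ (algebraMap (X'.presheaf.stalk x) X'.functionField).range := by
  let O := X'.presheaf.stalk x
  let al := algebraMap O X'.functionField
  haveI : IsDomain O := inferInstance
  have hal : Function.Injective al := IsFractionRing.injective O X'.functionField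
  let γ : X.presheaf.stalk (g x) →+* O := (g.stalkMap x).hom
  have hγ : ∀ v, funMap g hg (algebraMap (X.presheaf.stalk (g x)) X.functionField v) = al (γ v) := funMap_stalk g hg x
  obtain ⟨c, hc, hIx⟩ : ∃ c : O, c ≠ 0 ∧ IntMult.stalkIdeal (I.comap g) x = Ideal.span {c} := by
    obtain ⟨U, hxU, c, hc, hU⟩ := hIc x
    haveI : Nonempty U.1 := ⟨⟨x, hxU⟩⟩
    refine ⟨X'.presheaf.germ U.1 x hxU c, fun h => nonZeroDivisors.ne_zero hc
      (germ_injective_of_isIntegral X' x hxU (h.trans (map_zero _).symm)), ?_⟩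
    rw [IdealStalkLib.stalkIdeal_eq _ U x hxU, hU, Ideal.map_span, Set.image_singleton]
  rw [hI, BlowCompLib.comap_mul, DivisorialLib.stalkIdeal_mul, IdealStalkLib.stalkIdeal_comap, hE,
    Ideal.map_span, Set.image_pair] at hIx
  have heq : funMap g hg b * al (γ d) = al (γ n) := by rw [← hγ, ← hγ, ← map_mul, hb]
  have hd0 : al (γ d) ≠ 0 := by
    rw [← hγ]
    exact fun h => hd ((map_eq_zero_iff _ (IsFractionRing.injective (X.presheaf.stalk (g x)) X.functionField)).1
      ((map_eq_zero_iff _ (funMap g hg).hom.injective).1 h))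
  rcases pair_principal (γ n) (γ d) _ c hc hIx with ⟨r, hr⟩ | ⟨r, hr⟩
  · exact ⟨r, mul_right_cancel₀ hd0 (by rw [heq, hr, map_mul, mul_comm])⟩
  · rw [hr, map_mul] at heq hd0
    have h1 : funMap g hg b * al r = 1 := by
      refine mul_left_cancel₀ (left_ne_zero_of_mul hd0) ?_
      rw [mul_one]; linear_combination heq
    by_cases hru : IsUnit r
    · obtain ⟨v, rfl⟩ := hru
      exact ⟨↑v⁻¹, (eq_inv_of_mul_eq_one_left h1).trans (map_units_inv al v).symm ▸ rfl⟩
    · refine absurd (hloc.1 r ?_) hru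
      exact IsUnit.of_mul_eq_one ⟨funMap g hg b, hbA⟩ (Subtype.ext (by
        show al r * funMap g hg b = 1
        rw [mul_comm, h1]))

/-- The pointwise extension, given a chart containing the centre. -/
theorem exists_local_of_chart (sX : X ⟶ S) (sZ : Z ⟶ S) (zK : Spec X.functionField ⟶ Z)
    (g : X' ⟶ X) (hg : g (genericPoint X') = genericPoint X) (x : X')
    (A : ValuationSubring X'.functionField) (hA : ∀ a, algebraMap (X'.presheaf.stalk x) X'.functionField a ∈ A)
    (l : Spec (CommRingCat.of A) ⟶ Z)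
    (hl₁ : Spec.map (CommRingCat.ofHom (algebraMap A X'.functionField)) ≫ l = Spec.map (funMap g hg) ≫ zK)
    (hl₂ : l ≫ sZ = Spec.map (CommRingCat.ofHom ((algebraMap (X'.presheaf.stalk x) X'.functionField).codRestrict
      A.toSubring hA)) ≫ X'.fromSpecStalk x ≫ g ≫ sX)
    {S₀ : S.Opens} (hS₀ : IsAffineOpen S₀) (hsS₀ : sX (g x) ∈ S₀) {W : Z.Opens} (hW : IsAffineOpen W)
    (hle : W ≤ sZ ⁻¹ᵁ S₀) (φ : Γ(Z, W) ⟶ X.functionField) (hφ : zK = Spec.map φ ≫ hW.fromSpec)
    (hlW : Set.range l ⊆ W) (t : Set Γ(Z, W))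
    (ht : ∀ T : Subring Γ(Z, W), (∀ a, (sZ.appLE S₀ W hle) a ∈ T) → (∀ b ∈ t, b ∈ T) → T = ⊤)
    (htb : ∀ b ∈ t, funMap g hg (φ b) ∈ A →
      funMap g hg (φ b) ∈ (algebraMap (X'.presheaf.stalk x) X'.functionField).range) :
    ∃ h : Spec (X'.presheaf.stalk x) ⟶ Z, h ≫ sZ = X'.fromSpecStalk x ≫ g ≫ sX ∧
      Spec.map (X'.presheaf.stalkSpecializes (genericPoint_specializes x)) ≫ h = Spec.map (funMap g hg) ≫ zK := by
  let O := X'.presheaf.stalk x
  let al := algebraMap O X'.functionField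
  let toA : O ⟶ CommRingCat.of A := CommRingCat.ofHom (al.codRestrict A.toSubring hA)
  let incl : CommRingCat.of A ⟶ X'.functionField := CommRingCat.ofHom (algebraMap A X'.functionField)
  obtain ⟨χ, hχ⟩ := DVRCrit.exists_factor hW l hlW
  obtain ⟨χS, hχS⟩ := DVRCrit.exists_factor hS₀ (X'.fromSpecStalk x ≫ g ≫ sX)
    (DVRCrit.range_subset_of_closedPoint (R := O) _ (by
      simp only [Scheme.Hom.comp_apply]
      erw [Scheme.fromSpecStalk_closedPoint]
      exact hsS₀))
  have hφc : φ ≫ funMap g hg = χ ≫ incl := DVRCrit.fromSpec_inj hW (by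
    rw [Spec.map_comp, Spec.map_comp, Category.assoc, Category.assoc, ← hχ, hl₁]
    exact congrArg (fun k => Spec.map (funMap g hg) ≫ k) hφ.symm)
  have hS : sZ.appLE S₀ W hle ≫ χ = χS ≫ toA := DVRCrit.fromSpec_inj hS₀ (by
    rw [Spec.map_comp, Spec.map_comp, Category.assoc, Category.assoc,
      IsAffineOpen.SpecMap_appLE_fromSpec sZ hS₀ hW, ← hχS, ← Category.assoc, ← hχ, hl₂])
  let T : Subring Γ(Z, W) := al.range.comap (χ ≫ incl).hom
  have hT : T = ⊤ := ht T (fun a => ⟨χS a, by
      have h := ConcreteCategory.congr_hom (congrArg (fun k => k ≫ incl) hS) a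
      exact h.symm⟩) fun b hb => by
    show (χ ≫ incl).hom b ∈ al.range
    rw [← hφc]
    refine htb b hb ?_
    rw [← CategoryTheory.comp_apply, hφc]
    exact (χ b).2
  have hrange : ∀ w, (χ ≫ incl).hom w ∈ al.range := fun w => (hT.ge trivial : w ∈ T)
  have hal : Function.Injective al := IsFractionRing.injective O X'.functionField
  let e := RingEquiv.ofBijective al.rangeRestrict ⟨fun a b h => hal (congrArg Subtype.val h), al.rangeRestrict_surjective⟩
  let ψ : Γ(Z, W) ⟶ O := CommRingCat.ofHom (e.symm.toRingHom.comp ((χ ≫ incl).hom.codRestrict al.range hrange))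
  have hψ : ψ ≫ X'.presheaf.stalkSpecializes (genericPoint_specializes x) = χ ≫ incl := by
    refine CommRingCat.hom_ext (RingHom.ext fun w => ?_)
    exact congrArg Subtype.val (e.apply_symm_apply ⟨_, hrange w⟩)
  have hψS : sZ.appLE S₀ W hle ≫ ψ = χS := by
    refine CommRingCat.hom_ext (RingHom.ext fun a => hal ?_)
    have h1 := ConcreteCategory.congr_hom (congrArg (fun k => sZ.appLE S₀ W hle ≫ k) hψ) a
    have h2 := ConcreteCategory.congr_hom (congrArg (fun k => k ≫ incl) hS) a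
    exact h1.trans h2
  refine ⟨Spec.map ψ ≫ hW.fromSpec, ?_, ?_⟩
  · rw [Category.assoc, ← IsAffineOpen.SpecMap_appLE_fromSpec sZ hS₀ hW hle, ← Spec.map_comp_assoc, hψS, ← hχS]
  · rw [← Spec.map_comp_assoc, hψ, Spec.map_comp_assoc, ← hχ, hl₁]

/-- The centre of a valuation ring dominating a point. -/
theorem exists_centre (sX : X ⟶ S) (sZ : Z ⟶ S) [IsProper sZ] (zK : Spec X.functionField ⟶ Z)
    (hzK : zK ≫ sZ = X.fromSpecStalk (genericPoint X) ≫ sX)
    (g : X' ⟶ X) (hg : g (genericPoint X') = genericPoint X) (x : X') :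
    ∃ (A : ValuationSubring X'.functionField) (hA : ∀ a, algebraMap (X'.presheaf.stalk x) X'.functionField a ∈ A)
      (l : Spec (CommRingCat.of A) ⟶ Z),
      IsLocalHom ((algebraMap (X'.presheaf.stalk x) X'.functionField).codRestrict A.toSubring hA) ∧
      Spec.map (CommRingCat.ofHom (algebraMap A X'.functionField)) ≫ l = Spec.map (funMap g hg) ≫ zK ∧
      l ≫ sZ = Spec.map (CommRingCat.ofHom ((algebraMap (X'.presheaf.stalk x) X'.functionField).codRestrict
        A.toSubring hA)) ≫ X'.fromSpecStalk x ≫ g ≫ sX ∧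
      sZ (l (IsLocalRing.closedPoint A)) = sX (g x) := by
  let O := X'.presheaf.stalk x
  let al := algebraMap O X'.functionField
  obtain ⟨A, hA, hloc⟩ := IsLocalRing.exists_factor_valuationRing al
  let toA : O ⟶ CommRingCat.of A := CommRingCat.ofHom (al.codRestrict A.toSubring hA)
  let incl : CommRingCat.of A ⟶ X'.functionField := CommRingCat.ofHom (algebraMap A X'.functionField)
  have htoA : toA ≫ incl = X'.presheaf.stalkSpecializes (genericPoint_specializes x) := rfl
  have hex : ValuativeCriterion.Existence sZ :=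
    ((UniversallyClosed.eq_valuativeCriterion.le _ _ _) inferInstance).1
  have hw : (Spec.map (funMap g hg) ≫ zK) ≫ sZ =
      Spec.map incl ≫ Spec.map toA ≫ X'.fromSpecStalk x ≫ g ≫ sX := by
    rw [← Spec.map_comp_assoc, htoA, Scheme.SpecMap_stalkSpecializes_fromSpecStalk_assoc, Category.assoc, hzK,
      reassoc_of% (fromSpecStalk_funMap g hg)]
  let Sq : ValuativeCommSq sZ :=
    { R := A, K := X'.functionField, i₁ := Spec.map (funMap g hg) ≫ zK,
      i₂ := Spec.map toA ≫ X'.fromSpecStalk x ≫ g ≫ sX, commSq := ⟨hw⟩ }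
  obtain ⟨⟨l, hl₁, hl₂⟩⟩ := (hex Sq).exists_lift
  refine ⟨A, hA, l, hloc, hl₁, hl₂, ?_⟩
  have h := congrArg (fun k => k (IsLocalRing.closedPoint A)) hl₂
  simp only [Scheme.Hom.comp_apply] at h
  refine h.trans ?_
  haveI : IsLocalHom toA.hom := hloc
  show (Spec.map toA ≫ X'.fromSpecStalk x ≫ g ≫ sX) (IsLocalRing.closedPoint A) = _
  simp only [Scheme.Hom.comp_apply]
  rw [show Spec.map toA (IsLocalRing.closedPoint A) = IsLocalRing.closedPoint O from
    IsLocalRing.comap_closedPoint toA.hom, Scheme.fromSpecStalk_closedPoint]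

/-- A chart of `Z` over the base with chosen generators, seeing the generic point. -/
structure GenChart (sZ : Z ⟶ S) (zK : Spec X.functionField ⟶ Z) where
  S₀ : S.Opens
  hS₀ : IsAffineOpen S₀
  W : Z.Opens
  hW : IsAffineOpen W
  hle : W ≤ sZ ⁻¹ᵁ S₀
  φ : Γ(Z, W) ⟶ X.functionField
  hφ : zK = Spec.map φ ≫ hW.fromSpec
  t : Finset Γ(Z, W)
  ht : ∀ T : Subring Γ(Z, W), (∀ a, (sZ.appLE S₀ W hle) a ∈ T) → (∀ b ∈ t, b ∈ T) → T = ⊤

theorem exists_genChart (sZ : Z ⟶ S) [LocallyOfFiniteType sZ] (zK : Spec X.functionField ⟶ Z)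
    {S₀ : S.Opens} (hS₀ : IsAffineOpen S₀) {W : Z.Opens} (hW : IsAffineOpen W) (hle : W ≤ sZ ⁻¹ᵁ S₀)
    (hmem : zK (IsLocalRing.closedPoint X.functionField) ∈ W) :
    ∃ c : GenChart sZ zK, c.S₀ = S₀ ∧ c.W = W := by
  obtain ⟨φ, hφ⟩ := DVRCrit.exists_factor hW zK
    (DVRCrit.range_subset_of_closedPoint (R := X.functionField) zK hmem)
  have hft := sZ.finiteType_appLE hS₀ hW hle
  algebraize [(sZ.appLE S₀ W hle).hom]
  obtain ⟨t, ht⟩ := (Algebra.FiniteType.out : (⊤ : Subalgebra Γ(S, S₀) Γ(Z, W)).FG)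
  refine ⟨⟨S₀, hS₀, W, hW, hle, φ, hφ, t, fun T h1 h2 => top_le_iff.1 fun z _ => ?_⟩, rfl, rfl⟩
  have hz : z ∈ Algebra.adjoin Γ(S, S₀) (t : Set Γ(Z, W)) := ht.ge trivial
  exact Algebra.adjoin_induction (p := fun z _ => z ∈ T) (fun b hb => h2 b hb) h1
    (fun _ _ _ _ => add_mem) (fun _ _ _ _ => mul_mem) hz

/-- The ideal of denominators of an element of the function field. -/
theorem exists_denom [IsNoetherian X] (b : X.functionField) (V : X.affineOpens) [Nonempty V.1] :
    ∃ (E : X.IdealSheafData) (n d : Γ(X, V.1)), d ≠ 0 ∧ E.ideal V = Ideal.span {n, d} ∧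
      genericPoint X ∉ E.support ∧ b * X.germToFunctionField V.1 d = X.germToFunctionField V.1 n := by
  haveI := functionField_isFractionRing_of_isAffineOpen X V.1 V.2
  obtain ⟨⟨n, d⟩, hnd⟩ := IsLocalization.surj (nonZeroDivisors Γ(X, V.1)) b
  obtain ⟨E, hE⟩ := exists_ext_ideal V (Ideal.span {n, d.1})
  refine ⟨E, n, d.1, nonZeroDivisors.ne_zero d.2, hE, fun h => ?_, hnd⟩
  obtain ⟨⟨v, hv⟩⟩ := ‹Nonempty V.1›
  have hη : genericPoint X ∈ V.1 := (genericPoint_specializes v).mem_open V.1.2 hv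
  have h1 := IdealStalkLib.stalkIdeal_le_maximal E h
  rw [IdealStalkLib.stalkIdeal_eq E V _ hη, hE] at h1
  have h2 : X.presheaf.germ V.1 _ hη d.1 ∈ IsLocalRing.maximalIdeal X.functionField :=
    h1 (Ideal.mem_map_of_mem _ (Ideal.subset_span (Set.mem_insert_of_mem _ rfl)))
  have h3 : (IsLocalRing.maximalIdeal X.functionField) = ⊥ := IsLocalRing.maximalIdeal_eq_bot
  rw [h3, Ideal.mem_bot] at h2
  exact nonZeroDivisors.ne_zero d.2 (X.germToFunctionField_injective V.1 (h2.trans (map_zero _).symm))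

/-- Finitely many charts see every possible centre over the image of `X`. -/
theorem exists_genCharts [CompactSpace X] (sX : X ⟶ S) (sZ : Z ⟶ S) [IsProper sZ] (zK : Spec X.functionField ⟶ Z) :
    ∃ (n : ℕ) (c : Fin n → GenChart sZ zK), ∀ (x : X) (z : Z), sZ z = sX x →
      zK (IsLocalRing.closedPoint X.functionField) ⤳ z → ∃ i, sX x ∈ (c i).S₀ ∧ z ∈ (c i).W := by
  classical
  obtain ⟨sS, hsS⟩ := (isCompact_range sX.continuous).elim_finite_subcover (fun A : S.affineOpens => (A.1 : Set S))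
    (fun A => A.1.2) (fun s _ => by
      obtain ⟨A, hA, hsA, -⟩ := exists_isAffineOpen_mem_and_subset (X := S) (U := ⊤) (x := s) trivial
      exact Set.mem_iUnion.2 ⟨⟨A, hA⟩, hsA⟩)
  have hsW := fun A : S.affineOpens => (sZ.isCompact_preimage A.2.isCompact).elim_finite_subcover
    (fun W : {W : Z.affineOpens // W.1 ≤ sZ ⁻¹ᵁ A.1} => (W.1.1 : Set Z)) (fun W => W.1.1.2) (fun z hz => by
      obtain ⟨W, hW, hzW, hle⟩ := exists_isAffineOpen_mem_and_subset (X := Z) (U := sZ ⁻¹ᵁ A.1) (x := z) hz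
      exact Set.mem_iUnion.2 ⟨⟨⟨W, hW⟩, hle⟩, hzW⟩)
  choose sW hsW using hsW
  let C := Σ A : sS, {W : sW A.1 // zK (IsLocalRing.closedPoint X.functionField) ∈ W.1.1.1}
  haveI : Fintype C := inferInstance
  have hc := fun c : C => exists_genChart sZ zK c.1.1.2 c.2.1.1.1.2 c.2.1.1.2 c.2.2
  choose d hd₁ hd₂ using hc
  refine ⟨Fintype.card C, fun i => d ((Fintype.equivFin C).symm i), fun x z hz hsp => ?_⟩
  obtain ⟨A, hA, hxA⟩ := Set.mem_iUnion₂.1 (hsS (Set.mem_range_self x))
  obtain ⟨W, hW, hzW⟩ := Set.mem_iUnion₂.1 (hsW A (show sZ z ∈ (A.1 : Set S) from hz ▸ hxA))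
  let c : C := ⟨⟨A, hA⟩, ⟨⟨W, hW⟩, hsp.mem_open W.1.1.2 hzW⟩⟩
  refine ⟨Fintype.equivFin C c, ?_, ?_⟩
  · simp only [Equiv.symm_apply_apply]; rw [hd₁]; exact hxA
  · simp only [Equiv.symm_apply_apply]; rw [hd₂]; exact hzW

/-- **An ideal resolving a rational map** to a proper scheme: wherever it becomes invertible, the map extends. -/
theorem exists_ideal_extend [IsNoetherian X] (sX : X ⟶ S) (sZ : Z ⟶ S) [IsProper sZ]
    (zK : Spec X.functionField ⟶ Z) (hzK : zK ≫ sZ = X.fromSpecStalk (genericPoint X) ≫ sX) :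
    ∃ I : X.IdealSheafData, I ≠ ⊥ ∧ ∀ {X' : Scheme.{u}} [IsIntegral X'] (g : X' ⟶ X)
      (hg : g (genericPoint X') = genericPoint X), BlowUp.IsEffCartierIdeal (I.comap g) →
        ∃ h : X' ⟶ Z, h ≫ sZ = g ≫ sX ∧
          X'.fromSpecStalk (genericPoint X') ≫ h = Spec.map (funMap g hg) ≫ zK := by
  classical
  obtain ⟨N, c, hc⟩ := exists_genCharts sX sZ zK
  obtain ⟨sV, hsV⟩ := isCompact_univ.elim_finite_subcover (fun A : X.affineOpens => (A.1 : Set X))
    (fun A => A.1.2) (fun x _ => by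
      obtain ⟨A, hA, hxA, -⟩ := exists_isAffineOpen_mem_and_subset (X := X) (U := ⊤) (x := x) trivial
      exact Set.mem_iUnion.2 ⟨⟨A, hA⟩, hxA⟩)
  let P := Σ i : Fin N, (c i).t × {V : sV // Nonempty V.1.1}
  have hden := fun p : P =>
    haveI := p.2.2.2
    exists_denom ((c p.1).φ p.2.1.1) p.2.2.1.1
  choose E n d hd hE hηE hnd using hden
  refine ⟨∏ p, E p, fun h => ?_, fun {X'} _ g hg hIc => ?_⟩
  · have key : ∀ s : Finset P, genericPoint X ∉ (∏ p ∈ s, E p).support := fun s => by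
      induction s using Finset.induction_on with
      | empty =>
        rw [Finset.prod_empty, Scheme.IdealSheafData.one_eq_top, Scheme.IdealSheafData.support_top]
        exact fun h => h
      | insert p s hp ih =>
        rw [Finset.prod_insert hp, Scheme.IdealSheafData.support_mul]
        exact fun h => h.elim (hηE p) ih
    apply key Finset.univ
    rw [h, Scheme.IdealSheafData.support_bot]
    trivial
  refine exists_glue_generic (g ≫ sX) sZ (Spec.map (funMap g hg) ≫ zK) fun x => ?_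
  obtain ⟨A, hA, l, hloc, hl₁, hl₂, hz⟩ := exists_centre sX sZ zK hzK g hg x
  obtain ⟨i, hiS, hiW⟩ := hc (g x) _ hz (by
    have h := congrArg (fun k => k (IsLocalRing.closedPoint X'.functionField)) hl₁
    simp only [Scheme.Hom.comp_apply] at h
    rw [show IsLocalRing.closedPoint X.functionField = Spec.map (funMap g hg) (IsLocalRing.closedPoint X'.functionField)
      from Subsingleton.elim (α := PrimeSpectrum X.functionField) _ _]
    exact ((IsLocalRing.specializes_closedPoint _).map l.continuous).trans' (specializes_of_eq h.symm))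
  obtain ⟨V, hV, hxV⟩ := Set.mem_iUnion₂.1 (hsV (Set.mem_univ (g x)))
  haveI : Nonempty V.1 := ⟨⟨g x, hxV⟩⟩
  refine exists_local_of_chart sX sZ zK g hg x A hA l hl₁ hl₂ (c i).hS₀ hiS (c i).hW (c i).hle (c i).φ (c i).hφ
    (DVRCrit.range_subset_of_closedPoint (R := A) l hiW) (c i).t (c i).ht fun b hb hbA => ?_
  let p : P := ⟨i, ⟨b, hb⟩, ⟨⟨V, hV⟩, ‹_›⟩⟩
  refine mem_range_of_cartier g hg x A hA hloc (∏ q, E q) (E p) (∏ q ∈ Finset.univ.erase p, E q)
    (Finset.mul_prod_erase _ _ (Finset.mem_univ p)).symm hIc _ (X.presheaf.germ V.1 (g x) hxV (n p))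
    (X.presheaf.germ V.1 (g x) hxV (d p)) (fun h => hd p (germ_injective_of_isIntegral X (g x) hxV (h.trans (map_zero _).symm)))
    (by rw [IdealStalkLib.stalkIdeal_eq _ V (g x) hxV, hE p, Ideal.map_span, Set.image_pair]) ?_ hbA
  have e : ∀ v : Γ(X, V.1), algebraMap (X.presheaf.stalk (g x)) X.functionField (X.presheaf.germ V.1 (g x) hxV v) =
      X.germToFunctionField V.1 v := fun v =>
    TopCat.Presheaf.germ_stalkSpecializes_apply (F := X.presheaf) hxV (genericPoint_specializes (g x)) v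
  rw [e, e]
  exact hnd p

end Groth.Agent.SurfPtBlow
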