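import Groth.Agent.SurfPtBlow.Contraction
import Groth.Agent.CurveLib.Deg
import Groth.Agent.CurveLib.DegTensor
import Groth.Agent.JacLib.IdealPull
import Groth.Agent.TwistShriek.PicPrime
import Groth.Agent.TwistShriek.NumCurves
import Groth.Agent.SteinConn.Conn
import Groth.Agent.S6579
import Groth.Agent.S8862
import Groth.Agent.H1ZeroLib.Quot
import Groth.Agent.InfNbhdLib.Scheme

/-!
# Exceptional curves contracted to a normal point do not meet
-/

set_option autoImplicit false
set_option backward.isDefEq.respectTransparency false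
set_option linter.style.haveILetI false
set_option maxHeartbeats 1000000

universe u

open CategoryTheory CategoryTheory.Limits AlgebraicGeometry TopologicalSpace
open Groth.Agent.TwistShriek Groth.Agent.TwistShriek.PointBlow
open Groth.Agent.IntLib (mk pullCls)

noncomputable section

namespace Groth.Agent.SurfPtBlow

/-- The degree of a class on the projective line. -/
def degP (k : Type u) [Field k] (M : (CohB1.ProjSpace 1 k).Modules) : ℤ :=
  Curv2.deg k (CohB1.ProjSpace 1 k) M 1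

section P1

variable {k : Type u} [Field k]

theorem isIntegral_P1 : IsIntegral (CohB1.ProjSpace 1 k) := REqLib.isIntegral_proj_domain 1 k

theorem isProper_P1 : IsProper (CohB1.ProjSpace 1 k ↘ Spec (CommRingCat.of k)) :=
  inferInstanceAs (IsProper (CohB1.ProjSpace.toSpec 1 k))

theorem dim_P1 : topologicalKrullDim (CohB1.ProjSpace 1 k) = 1 := by exact_mod_cast S10829.result k 1

theorem degP_congr {M N : (CohB1.ProjSpace 1 k).Modules} (h : mk M = mk N) : degP k M = degP k N := by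
  haveI := isProper_P1 (k := k)
  obtain ⟨e⟩ := IntLib.mk_eq_mk.1 h
  exact CurveLib.deg_iso (k := k) e 1

theorem degP_tensor {M N : (CohB1.ProjSpace 1 k).Modules} (hM : PicF.IsInvertible M) (hN : PicF.IsInvertible N) :
    degP k (CohB1.tensorMod M N) = degP k M + degP k N := by
  haveI := isIntegral_P1 (k := k)
  haveI := isProper_P1 (k := k)
  exact CurveLib.deg_tensor_add (k := k) dim_P1.le hM hN

theorem degP_one : degP k (Coh.structureModule (CohB1.ProjSpace 1 k)) = 0 := by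
  haveI := isProper_P1 (k := k)
  exact CurveLib.deg_structureModule (k := k)

/-- An effective divisor on the projective line has nonnegative degree, zero only if empty. -/
theorem degP_ideal {A : (CohB1.ProjSpace 1 k).IdealSheafData} (hA : BlowUp.IsEffCartierIdeal A) :
    degP k (ClSub.idealMod A) ≤ 0 ∧ (degP k (ClSub.idealMod A) = 0 → (A.support : Set (CohB1.ProjSpace 1 k)) = ∅) := by
  haveI := isIntegral_P1 (k := k)
  haveI := isProper_P1 (k := k)
  haveI := EulerIneqLib.isNoetherian_proper (X := CohB1.ProjSpace 1 k) k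
  have hI := (S8914.result A).2 hA
  have hO : PicF.IsInvertible (Coh.structureModule (CohB1.ProjSpace 1 k)) := ParaFLib.isInvertible_structureModule
  let η := genericPoint (CohB1.ProjSpace 1 k)
  have hAη : IntMult.stalkIdeal A η ≠ ⊥ := fun h => by
    obtain ⟨U, hηU, a, ha, hU⟩ := hA η
    haveI : Nonempty U.1 := ⟨⟨η, hηU⟩⟩
    rw [IdealStalkLib.stalkIdeal_eq A U η hηU, hU, Ideal.map_span, Set.image_singleton,
      Ideal.span_singleton_eq_bot] at h
    exact nonZeroDivisors.ne_zero ha (germ_injective_of_isIntegral _ η hηU (h.trans (map_zero _).symm))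
  have hne : ClSub.idealModι A ≠ 0 := fun h => hAη (by
    refine eq_bot_iff.2 fun r hr => ?_
    obtain ⟨m, hm⟩ := ((RefOne.idealModι_stalk A η).2 r).2 hr
    rw [h] at hm
    have h0 : (0 : (ClSub.idealMod A ⟶ Coh.structureModule _)).app = fun _ => 0 := rfl
    have : RefOne.oEquiv η r = 0 := by rw [← hm, DevLib.stalkLin_zero]; rfl
    simpa using this)
  obtain ⟨hle, hiso⟩ := CurveLib.deg_le_of_ne_zero (k := k) dim_P1.le hI hO hne
  rw [CurveLib.deg_structureModule] at hle hiso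
  refine ⟨hle, fun h0 => Set.eq_empty_iff_forall_notMem.2 fun z hz => ?_⟩
  haveI := hiso h0
  obtain ⟨m, hm⟩ := ((PullbackMod.isIso_iff_stalk (ClSub.idealModι A)).1 inferInstance z).2 (RefOne.oEquiv z 1)
  exact (stalkIdeal_ne_top_iff A z).2 hz ((Ideal.eq_top_iff_one _).2 (((RefOne.idealModι_stalk A z).2 1).1 ⟨m, hm⟩))

variable {Z : Scheme.{u}} (j : CohB1.ProjSpace 1 k ⟶ Z)

/-- The degree on the projective line of an invertible module. -/
def degOn (M : Z.Modules) : ℤ := degP k ((Scheme.Modules.pullback j).obj M)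

theorem degOn_mul {A B : Z.IdealSheafData} (hA : BlowUp.IsEffCartierIdeal A) (hB : BlowUp.IsEffCartierIdeal B) :
    degOn j (ClSub.idealMod (A * B)) = degOn j (ClSub.idealMod A) + degOn j (ClSub.idealMod B) := by
  have hA' := (S8914.result A).2 hA
  have hB' := (S8914.result B).2 hB
  obtain ⟨e⟩ := nonempty_idealMod_mul_iso hA' hB' ((S8914.result _).2 (BlowCompLib.isEffCartier_mul hA hB))
  refine (degP_congr ?_).trans
    (degP_tensor (AmpleLib.isInvertible_pullback j hA') (AmpleLib.isInvertible_pullback j hB'))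
  rw [IntLib.mk_tensor, ← IntLib.pullCls_mk, ← IntLib.pullCls_mk, ← IntLib.pullCls_mk, IntLib.mk_congr e,
    IntLib.mk_tensor, map_mul]

theorem degOn_top : degOn j (ClSub.idealMod (⊤ : Z.IdealSheafData)) = 0 := by
  have h := degOn_mul j (BlowCompLib.isEffCartier_top (X := Z)) (BlowCompLib.isEffCartier_top (X := Z))
  rw [show (⊤ : Z.IdealSheafData) * ⊤ = ⊤ by rw [← Scheme.IdealSheafData.one_eq_top, mul_one]] at h
  omega

theorem degOn_pow {A : Z.IdealSheafData} (hA : BlowUp.IsEffCartierIdeal A) :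
    ∀ n : ℕ, BlowUp.IsEffCartierIdeal (A ^ n) ∧ degOn j (ClSub.idealMod (A ^ n)) = n * degOn j (ClSub.idealMod A)
  | 0 => by
    rw [pow_zero, Scheme.IdealSheafData.one_eq_top]
    exact ⟨BlowCompLib.isEffCartier_top, by rw [degOn_top]; simp⟩
  | n + 1 => by
    obtain ⟨h1, h2⟩ := degOn_pow hA n
    rw [pow_succ]
    exact ⟨BlowCompLib.isEffCartier_mul h1 hA, by rw [degOn_mul j h1 hA, h2]; push_cast; ring⟩

theorem support_comap_empty_iff {A : Z.IdealSheafData} :
    ((A.comap j).support : Set (CohB1.ProjSpace 1 k)) = ∅ ↔ ∀ z, j z ∉ A.support := by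
  rw [Scheme.IdealSheafData.support_comap, Closeds.coe_preimage, Set.eq_empty_iff_forall_notMem]
  rfl

/-- Divisors avoiding the generic point of the line. -/
theorem degOn_le {A : Z.IdealSheafData} (hA : BlowUp.IsEffCartierIdeal A)
    (hgen : j (genericPoint (CohB1.ProjSpace 1 k)) ∉ A.support) :
    degOn j (ClSub.idealMod A) ≤ 0 ∧ (degOn j (ClSub.idealMod A) = 0 → ∀ z, j z ∉ A.support) := by
  haveI := isIntegral_P1 (k := k)
  have hc : BlowUp.IsEffCartierIdeal (A.comap j) := S8862.result j A hA fun ξ hξ => by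
    rw [← hξ _ (genericPoint_specializes ξ)]; exact hgen
  obtain ⟨e⟩ := JacLib.nonempty_iso_pullback_idealMod j A hA hc
  have he : degOn j (ClSub.idealMod A) = degP k (ClSub.idealMod (A.comap j)) := degP_congr (IntLib.mk_congr e)
  obtain ⟨h1, h2⟩ := degP_ideal hc
  exact ⟨he ▸ h1, fun h => (support_comap_empty_iff j).1 (h2 (he ▸ h))⟩

theorem degOn_self {ι : CohB1.ProjSpace 1 k ⟶ Z}
    (e : (Scheme.Modules.pullback ι).obj (ClSub.idealMod ι.ker) ≅ Twist.twistProjSpace 1 k 1) :
    degOn ι (ClSub.idealMod ι.ker) = 1 :=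
  (degP_congr (IntLib.mk_congr e)).trans (S6579.deg_twist_one k)

/-- The ideal of the line contains an ideal as soon as the generic point lies in its zero set. -/
theorem le_ker_of_mem [IsClosedImmersion j] {A : Z.IdealSheafData}
    (h : j (genericPoint (CohB1.ProjSpace 1 k)) ∈ A.support) : A ≤ j.ker := by
  haveI := isIntegral_P1 (k := k)
  let η := genericPoint (CohB1.ProjSpace 1 k)
  have hη : η ∈ (A.comap j).support := by
    show η ∈ ((A.comap j).support : Set _)
    rw [Scheme.IdealSheafData.support_comap]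
    exact h
  have h0 : A.comap j = ⊥ := eq_bot_of_stalkIdeal_eq_bot (x := η) (by
    rcases Ideal.eq_bot_or_top (IntMult.stalkIdeal (A.comap j) η : Ideal (CohB1.ProjSpace 1 k).functionField) with h1 | h1
    · exact h1
    · exact absurd h1 ((stalkIdeal_ne_top_iff _ _).2 hη))
  rw [← Scheme.IdealSheafData.map_bot, Scheme.IdealSheafData.le_map_iff_comap_le, h0]

end P1

/-- A Cartier ideal is a power of a prime divisor times an ideal not contained in it. -/
theorem exists_max_pow {Z : Scheme.{u}} [IsIntegral Z] [IsNoetherian Z] {C J : Z.IdealSheafData}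
    (hC : BlowUp.IsEffCartierIdeal C) (hJ : J ≠ ⊥) (hne : ∃ z, z ∈ C.support) :
    ∃ (a : ℕ) (K : Z.IdealSheafData), J = K * C ^ a ∧ ¬ K ≤ C := by
  classical
  obtain ⟨z, hz⟩ := hne
  have hex : ∃ n, ¬ J ≤ C ^ n := by
    by_contra hn
    push Not at hn
    refine hJ (eq_bot_of_stalkIdeal_eq_bot (x := z) (eq_bot_iff.2 fun r hr => ?_))
    have hm : r ∈ ⨅ n : ℕ, IsLocalRing.maximalIdeal (Z.presheaf.stalk z) ^ n := by
      refine Submodule.mem_iInf _ |>.2 fun n => ?_
      have h1 := H1ZeroLib.stalkIdeal_mono (hn n) z hr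
      rw [InfNbhdLib.stalkIdeal_pow] at h1
      exact Ideal.pow_right_mono (IdealStalkLib.stalkIdeal_le_maximal C hz) n h1
    rwa [Ideal.iInf_pow_eq_bot_of_isLocalRing _ Ideal.IsPrime.ne_top'] at hm
  have h0 : Nat.find hex ≠ 0 := fun h => by
    refine Nat.find_spec hex ?_
    rw [h, pow_zero, Scheme.IdealSheafData.one_eq_top]
    exact le_top
  obtain ⟨a, ha⟩ := Nat.exists_eq_succ_of_ne_zero h0
  have hle : J ≤ C ^ a := not_not.1 (Nat.find_min hex (ha ▸ a.lt_succ_self))
  obtain ⟨K, hK⟩ := exists_eq_mul (degOn_powCartier hC a) hle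
  refine ⟨a, K, hK, fun h => Nat.find_spec hex ?_⟩
  rw [ha, hK, Nat.succ_eq_add_one, pow_succ', mul_comm K, mul_comm C]
  exact DivisorialLib.le_of_stalk fun y => by
    rw [DivisorialLib.stalkIdeal_mul, DivisorialLib.stalkIdeal_mul]
    exact Ideal.mul_mono le_rfl (H1ZeroLib.stalkIdeal_mono h y)
where
  degOn_powCartier {C : Z.IdealSheafData} (hC : BlowUp.IsEffCartierIdeal C) : ∀ n : ℕ, BlowUp.IsEffCartierIdeal (C ^ n)
    | 0 => by rw [pow_zero, Scheme.IdealSheafData.one_eq_top]; exact BlowCompLib.isEffCartier_top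
    | n + 1 => by rw [pow_succ]; exact BlowCompLib.isEffCartier_mul (degOn_powCartier hC n) hC

/-- If the generic point of one line lies on another, they coincide. -/
theorem range_eq_of_generic_mem {k₁ k₂ : Type u} [Field k₁] [Field k₂] {Z : Scheme.{u}}
    (j₁ : CohB1.ProjSpace 1 k₁ ⟶ Z) [IsClosedImmersion j₁] (j₂ : CohB1.ProjSpace 1 k₂ ⟶ Z) [IsClosedImmersion j₂]
    (h : j₁ (genericPoint (CohB1.ProjSpace 1 k₁)) ∈ Set.range j₂) : Set.range j₁ = Set.range j₂ := by
  haveI := isIntegral_P1 (k := k₁)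
  haveI := isIntegral_P1 (k := k₂)
  obtain ⟨w, hw⟩ := h
  have hsub : ∀ {k : Type u} [Field k] (j : CohB1.ProjSpace 1 k ⟶ Z) (z : Z) (C : Set Z), IsClosed C →
      j (genericPoint (CohB1.ProjSpace 1 k)) ∈ C → Set.range j ⊆ C := fun j z C hC hm => by
    rintro _ ⟨v, rfl⟩
    exact ((genericPoint_specializes v).map j.continuous).mem_closed hC hm
  refine (hsub j₁ (j₁ (genericPoint _)) _ j₂.isClosedEmbedding.isClosed_range ⟨w, hw⟩).antisymm ?_
  by_cases hgen : w = genericPoint (CohB1.ProjSpace 1 k₂)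
  · exact hsub j₂ (j₁ (genericPoint _)) _ j₁.isClosedEmbedding.isClosed_range (hgen ▸ hw ▸ ⟨_, rfl⟩)
  exfalso
  -- the generic point of the first line would be closed
  have hwc : IsClosed ({w} : Set (CohB1.ProjSpace 1 k₂)) := by
    refine isClosed_of_closure_subset fun v hv => ?_
    by_contra hne
    have hsp : w ⤳ v := specializes_iff_mem_closure.2 hv
    have h1 : v < w := lt_of_le_not_ge hsp fun h => hne ((hsp.antisymm h).eq.symm)
    have h2 : w < genericPoint (CohB1.ProjSpace 1 k₂) := lt_of_le_not_ge (genericPoint_specializes w)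
      fun h => hgen (Specializes.antisymm h (genericPoint_specializes w)).eq
    have h3 := le_trans (Order.LTSeries.length_le_krullDim
      (((RelSeries.singleton _ v).snoc w h1).snoc (genericPoint (CohB1.ProjSpace 1 k₂)) (by simpa using h2)))
      (ASp.topologicalKrullDim_eq_krullDim.symm.le.trans (dim_P1 (k := k₂)).le)
    norm_num at h3
  have hc : IsClosed ({j₁ (genericPoint _)} : Set Z) := by
    rw [← hw, ← Set.image_singleton]
    exact j₂.isClosedEmbedding.isClosedMap _ hwc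
  haveI : Subsingleton (CohB1.ProjSpace 1 k₁) := ⟨fun a b => j₁.isClosedEmbedding.injective
    ((Set.mem_singleton_iff.1 (hsub j₁ (j₁ a) _ hc rfl ⟨a, rfl⟩)).trans
      (Set.mem_singleton_iff.1 (hsub j₁ (j₁ b) _ hc rfl ⟨b, rfl⟩)).symm)⟩
  have h0 : topologicalKrullDim (CohB1.ProjSpace 1 k₁) ≤ 0 := topologicalKrullDim_zero_of_discreteTopology _
  rw [dim_P1] at h0
  exact absurd h0 (by norm_num)

/-- The core of the argument, over an affine base. -/
theorem disjoint_of_contracted_affine {A : CommRingCat.{u}} [IsDomain A] [IsNoetherianRing A] {Z : Scheme.{u}}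
    [IsIntegral Z] [IsNoetherian Z] (f : Z ⟶ Spec A) [IsProper f] (hO : RigidLib.BijApp f)
    (hgen : f (genericPoint Z) = genericPoint (Spec A))
    (y : Spec A) (hy : IsClosed ({y} : Set (Spec A))) (hd : 1 < ringKrullDim ((Spec A).presheaf.stalk y))
    {k₁ k₂ : Type u} [Field k₁] [Field k₂] (j₁ : CohB1.ProjSpace 1 k₁ ⟶ Z) [IsClosedImmersion j₁]
    (j₂ : CohB1.ProjSpace 1 k₂ ⟶ Z) [IsClosedImmersion j₂]
    (hC₁ : BlowUp.IsEffCartierIdeal j₁.ker) (hC₂ : BlowUp.IsEffCartierIdeal j₂.ker)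
    (e₁ : (Scheme.Modules.pullback j₁).obj (ClSub.idealMod j₁.ker) ≅ Twist.twistProjSpace 1 k₁ 1)
    (e₂ : (Scheme.Modules.pullback j₂).obj (ClSub.idealMod j₂.ker) ≅ Twist.twistProjSpace 1 k₂ 1)
    (h₁ : ∀ z, f (j₁ z) = y) (h₂ : ∀ z, f (j₂ z) = y) (hne : Set.range j₁ ≠ Set.range j₂) :
    Disjoint (Set.range j₁) (Set.range j₂) := by
  haveI := isIntegral_P1 (k := k₁)
  haveI := isIntegral_P1 (k := k₂)
  by_contra hmeet
  let p : PrimeSpectrum A := y
  obtain ⟨h, hp, h0⟩ : ∃ h ∈ p.asIdeal, h ≠ (0 : A) := by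
    refine (Submodule.ne_bot_iff _).1 fun hb => ?_
    letI : Algebra A ((Spec A).presheaf.stalk y) := StructureSheaf.stalkAlgebra A y
    haveI : IsLocalization.AtPrime ((Spec A).presheaf.stalk y) p.asIdeal := StructureSheaf.IsLocalization.to_stalk A y
    rw [IsLocalization.AtPrime.ringKrullDim_eq_height p.asIdeal, hb, Ideal.height_bot] at hd
    exact absurd hd (by norm_num)
  let D : (Spec A).IdealSheafData := Curv2.idealSheaf A (Ideal.span {h})
  have hD : BlowUp.IsEffCartierIdeal D :=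
    isEffCartierIdeal_of_cover (B := fun _ : Unit => (A : Type u)) (fun _ => 𝟙 _)
      (fun y => ⟨(), y, rfl⟩) fun _ => ⟨h, mem_nonZeroDivisors_of_ne_zero h0, by rw [Scheme.IdealSheafData.comap_id]⟩
  have hsD : ∀ q : Spec A, q ∈ D.support ↔ h ∈ (q : PrimeSpectrum A).asIdeal := fun q => by
    show q ∈ (Spec A).zeroLocus (U := ⊤) (((Ideal.span {h}).map (Scheme.ΓSpecIso (CommRingCat.of A)).inv.hom :
      Ideal Γ(Spec A, ⊤)) : Set Γ(Spec A, ⊤)) ↔ _
    rw [Ideal.map_span, Set.image_singleton, Scheme.zeroLocus_span]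
    simp only [Scheme.mem_zeroLocus_iff, Set.mem_singleton_iff, forall_eq, AlgebraicGeometry.basicOpen_eq_of_affine']
    erw [ConcreteCategory.congr_hom (Scheme.ΓSpecIso A).inv_hom_id h]
    exact not_not
  let J := D.comap f
  have hsJ : ∀ z, z ∈ J.support ↔ f z ∈ D.support := fun z => by
    show z ∈ ((D.comap f).support : Set Z) ↔ _
    rw [Scheme.IdealSheafData.support_comap]
    rfl
  have hηJ : genericPoint Z ∉ J.support := fun hh => h0 (by
    have h1 := (hsD _).1 (hgen ▸ (hsJ _).1 hh)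
    have h2 : (genericPoint (Spec A) : PrimeSpectrum A).asIdeal ≤ (⊥ : Ideal A) := by
      have h3 : genericPoint (Spec A) ⤳ (⟨⊥, Ideal.isPrime_bot⟩ : PrimeSpectrum A) := genericPoint_specializes _
      exact (PrimeSpectrum.le_iff_specializes _ _).2 h3
    exact Ideal.mem_bot.1 (h2 h1))
  have hJc : BlowUp.IsEffCartierIdeal J := S8862.result f D hD fun ξ hξ => by
    rw [← hξ _ (genericPoint_specializes ξ)]
    exact fun hh => hηJ ((hsJ _).2 hh)
  have hJ0 : J ≠ ⊥ := fun hb => hηJ (by rw [hb, Scheme.IdealSheafData.support_bot]; trivial)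
  have hJd : ∀ {k : Type u} [Field k] (j : CohB1.ProjSpace 1 k ⟶ Z), degOn j (ClSub.idealMod J) = 0 := fun {k} _ j => by
    obtain ⟨e⟩ := JacLib.nonempty_iso_pullback_idealMod f D hD hJc
    refine Eq.trans (degP_congr ?_) degP_one
    rw [IntLib.mk_structureModule, ← IntLib.pullCls_mk, ← IntLib.mk_congr e, ← IntLib.pullCls_mk,
      mk_idealMod_principal (mem_nonZeroDivisors_of_ne_zero h0), map_one, map_one]
  -- decompose the divisor
  let η₁ := j₁ (genericPoint (CohB1.ProjSpace 1 k₁))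
  let η₂ := j₂ (genericPoint (CohB1.ProjSpace 1 k₂))
  have hsup : ∀ {k : Type u} [Field k] (j : CohB1.ProjSpace 1 k ⟶ Z) [IsClosedImmersion j],
      (j.ker.support : Set Z) = Set.range j := fun j _ => by
    rw [Scheme.Hom.support_ker, j.isClosedEmbedding.isClosed_range.closure_eq]
  have hη₁ : η₁ ∉ j₂.ker.support := fun hh => hne (range_eq_of_generic_mem j₁ j₂ ((hsup j₂).le hh))
  have hη₂ : η₂ ∉ j₁.ker.support := fun hh => hne (range_eq_of_generic_mem j₂ j₁ ((hsup j₁).le hh)).symm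
  obtain ⟨a, K, hK, hK1⟩ := exists_max_pow hC₁ hJ0 ⟨η₁, (hsup j₁).ge ⟨_, rfl⟩⟩
  have hKc : BlowUp.IsEffCartierIdeal K := BlowCompLib.isEffCartier_of_mul (hK ▸ hJc)
  have hK0 : K ≠ ⊥ := fun hb => hJ0 (le_bot_iff.1 (DivisorialLib.le_of_stalk fun z => by
    rw [hK, DivisorialLib.stalkIdeal_mul, hb]
    exact Ideal.mul_le_left))
  obtain ⟨c, J', hJ', hJ2⟩ := exists_max_pow hC₂ hK0 ⟨η₂, (hsup j₂).ge ⟨_, rfl⟩⟩
  have hJ'c : BlowUp.IsEffCartierIdeal J' := BlowCompLib.isEffCartier_of_mul (hJ' ▸ hKc)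
  have hJ1 : ¬ J' ≤ j₁.ker := fun hle => hK1 (le_trans (DivisorialLib.le_of_stalk fun z => by
    rw [hJ', DivisorialLib.stalkIdeal_mul]; exact Ideal.mul_le_left) hle)
  have hg1 : η₁ ∉ J'.support := fun hh => hJ1 (le_ker_of_mem j₁ hh)
  have hg2 : η₂ ∉ J'.support := fun hh => hJ2 (le_ker_of_mem j₂ hh)
  have hsplit : ∀ {k : Type u} [Field k] (j : CohB1.ProjSpace 1 k ⟶ Z),
      degOn j (ClSub.idealMod J') + c * degOn j (ClSub.idealMod j₂.ker) + a * degOn j (ClSub.idealMod j₁.ker) = 0 :=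
    fun {k} _ j => by
      obtain ⟨h1c, h1⟩ := degOn_pow j hC₁ a
      obtain ⟨h2c, h2⟩ := degOn_pow j hC₂ c
      have hh := hJd j
      rw [hK, degOn_mul j hKc h1c, h1, hJ', degOn_mul j hJ'c h2c, h2] at hh
      exact hh
  have d12 := degOn_le j₁ hC₂ hη₁
  have d21 := degOn_le j₂ hC₁ hη₂
  have d12' : degOn j₁ (ClSub.idealMod j₂.ker) ≤ -1 := by
    by_contra hlt
    refine hmeet (Set.disjoint_left.2 ?_)
    rintro _ ⟨z, rfl⟩ hz
    exact d12.2 (le_antisymm d12.1 (by omega)) z ((hsup j₂).ge hz)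
  have d21' : degOn j₂ (ClSub.idealMod j₁.ker) ≤ -1 := by
    by_contra hlt
    refine hmeet (Set.disjoint_right.2 ?_)
    rintro _ ⟨z, rfl⟩ hz
    exact d21.2 (le_antisymm d21.1 (by omega)) z ((hsup j₁).ge hz)
  have r1 := hsplit j₁
  have r2 := hsplit j₂
  rw [degOn_self e₁] at r1
  rw [degOn_self e₂] at r2
  have z1 := degOn_le j₁ hJ'c hg1
  have z2 := degOn_le j₂ hJ'c hg2
  have m1 : (c : ℤ) * degOn j₁ (ClSub.idealMod j₂.ker) ≤ -c := by nlinarith
  have m2 : (a : ℤ) * degOn j₂ (ClSub.idealMod j₁.ker) ≤ -a := by nlinarith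
  have n1 := z1.2 (by linarith [z1.1, z2.1])
  have n2 := z2.2 (by linarith [z1.1, z2.1])
  have hJsupp : ∀ z, z ∈ J.support → z ∈ Set.range j₁ ∪ Set.range j₂ ∪ (J'.support : Set Z) := fun z hz => by
    by_contra hnot
    simp only [Set.mem_union, not_or] at hnot
    refine (stalkIdeal_ne_top_iff J z).2 hz ?_
    rw [hK, hJ', DivisorialLib.stalkIdeal_mul, DivisorialLib.stalkIdeal_mul, InfNbhdLib.stalkIdeal_pow,
      InfNbhdLib.stalkIdeal_pow, (stalkIdeal_eq_top_iff J' z).2 hnot.2,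
      (stalkIdeal_eq_top_iff j₁.ker z).2 (fun hh => hnot.1.1 ((hsup j₁).le hh)),
      (stalkIdeal_eq_top_iff j₂.ker z).2 (fun hh => hnot.1.2 ((hsup j₂).le hh))]
    simp [← Ideal.one_eq_top]
  have hTy : ∀ z ∈ Set.range j₁ ∪ Set.range j₂, f z = y := by
    rintro _ (⟨z, rfl⟩ | ⟨z, rfl⟩)
    exacts [h₁ z, h₂ z]
  -- the fibre is connected, so it misses the rest of the divisor
  have hconn : _root_.IsPreconnected (f ⁻¹' {y}) := by
    haveI := SteinConn.connectedSpace_fiber f hO y
    rw [← f.range_fiberι]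
    exact isPreconnected_range (f.fiberι y).continuous
  have hfibJ : ∀ z, f z = y → z ∈ J.support := fun z hz => (hsJ z).2 (hz ▸ (hsD y).2 hp)
  have hdis : ∀ z ∈ Set.range j₁ ∪ Set.range j₂, z ∉ J'.support := by
    rintro _ (⟨z, rfl⟩ | ⟨z, rfl⟩)
    exacts [n1 z, n2 z]
  have hfib : ∀ z, f z = y → z ∉ J'.support := fun z hz hz' => by
    obtain ⟨w, hw, hw1, hw2⟩ := isPreconnected_closed_iff.1 hconn (Set.range j₁ ∪ Set.range j₂) J'.support
      (j₁.isClosedEmbedding.isClosed_range.union j₂.isClosedEmbedding.isClosed_range) J'.support.isClosed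
      (fun v hv => by
        rcases hJsupp v (hfibJ v hv) with hv' | hv'
        exacts [Or.inl hv', Or.inr hv'])
      ⟨η₁, h₁ _, Or.inl ⟨_, rfl⟩⟩ ⟨z, hz, hz'⟩
    exact hdis w hw1 hw2
  -- a curve through `y` inside the divisor
  let c' : (Spec A).presheaf.stalk y := StructureSheaf.toStalk A y h
  letI : Algebra A ((Spec A).presheaf.stalk y) := StructureSheaf.stalkAlgebra A y
  haveI : IsLocalization.AtPrime ((Spec A).presheaf.stalk y) p.asIdeal := StructureSheaf.IsLocalization.to_stalk A y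
  have hcm : c' ∈ IsLocalRing.maximalIdeal ((Spec A).presheaf.stalk y) :=
    (IsLocalization.AtPrime.to_map_mem_maximal_iff _ p.asIdeal h).2 hp
  have hle : Ideal.span {c'} ≤ IsLocalRing.maximalIdeal _ := (Ideal.span_singleton_le_iff_mem _).2 hcm
  obtain ⟨q, hq, -⟩ := Ideal.exists_minimalPrimes_le hle
  haveI : q.IsPrime := hq.1.1
  let ζ : Spec A := PrimeSpectrum.comap (StructureSheaf.toStalk A y).hom ⟨q, inferInstance⟩
  have hqm : q ≠ IsLocalRing.maximalIdeal _ := fun e => by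
    have h3 := Ideal.height_le_one_of_isPrincipal_of_mem_minimalPrimes (Ideal.span {c'}) q hq
    rw [e] at h3
    have h4 : ringKrullDim ((Spec A).presheaf.stalk y) ≤ ((1 : ℕ∞) : WithBot ℕ∞) := by
      rw [← IsLocalRing.maximalIdeal_height_eq_ringKrullDim]
      exact_mod_cast h3
    exact absurd (hd.trans_le h4) (lt_irrefl _)
  have hζD : ζ ∈ D.support := (hsD ζ).2 (hq.1.2 (Ideal.mem_span_singleton_self c'))
  have hζy : ζ ⤳ y := by
    refine (PrimeSpectrum.le_iff_specializes (ζ : PrimeSpectrum A) p).1 fun v hv => ?_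
    exact (IsLocalization.AtPrime.to_map_mem_maximal_iff ((Spec A).presheaf.stalk y) p.asIdeal v).1
      ((IsLocalRing.le_maximalIdeal (Ideal.IsPrime.ne_top (inferInstance : q.IsPrime))) hv)
  have hne' : ζ ≠ y := fun e => hqm (by
    refine le_antisymm (IsLocalRing.le_maximalIdeal (Ideal.IsPrime.ne_top inferInstance)) fun v hv => ?_
    obtain ⟨⟨r, s⟩, rfl⟩ := IsLocalization.mk'_surjective p.asIdeal.primeCompl v
    rw [IsLocalization.AtPrime.mk'_mem_maximal_iff _ p.asIdeal] at hv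
    rw [IsLocalization.mk'_mem_iff]
    have h5 : (ζ : PrimeSpectrum A).asIdeal = p.asIdeal := congrArg PrimeSpectrum.asIdeal e
    exact (h5.ge hv : r ∈ (ζ : PrimeSpectrum A).asIdeal))
  haveI := SteinConn.surjective_of_bijApp f hO
  obtain ⟨ζ', hζ'⟩ := f.surjective ζ
  have hζ'J : ζ' ∈ J'.support := by
    rcases hJsupp ζ' ((hsJ ζ').2 (hζ'.symm ▸ hζD)) with hh | hh
    · exact absurd ((hTy ζ' hh).symm.trans hζ').symm hne'
    · exact hh
  obtain ⟨w, hw, hwy⟩ := hζy.mem_closed (f.isClosedMap _ J'.support.isClosed) ⟨ζ', hζ'J, hζ'⟩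
  exact hfib w hwy hw

end Groth.Agent.SurfPtBlow
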