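import Groth.Agent.SurfPtBlow.LocalExtend

/-!
# Modifications which are isomorphisms off finitely many regular points
-/

set_option autoImplicit false
set_option backward.isDefEq.respectTransparency false
set_option linter.style.haveILetI false
set_option maxHeartbeats 1000000

universe u

open CategoryTheory CategoryTheory.Limits AlgebraicGeometry TopologicalSpace
open Groth.Agent.TwistShriek Groth.Agent.TwistShriek.PointBlow

noncomputable section

namespace Groth.Agent.SurfPtBlow

variable {X Y : Scheme.{u}} [IsNoetherian X] (f : Y ⟶ X) [IsProper f]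

/-- The ideal resolving a modification near a regular point. -/
theorem exists_ideal_at_point {U : X.Opens} (s : U.toScheme ⟶ Y) (hs : s ≫ f = U.ι) {W : X.Opens}
    [IsIntegral W.toScheme] {t : X} (htW : t ∈ W) (htc : IsClosed ({t} : Set X))
    (hWU : ∀ y ∈ W, y ≠ t → y ∈ U)
    (hreg : IsRegularLocalRing (X.presheaf.stalk t)) (hd : ringKrullDim (X.presheaf.stalk t) = 2) :
    ∃ I : X.IdealSheafData, (I.support : Set X) ⊆ {t} ∧
      ∀ (R : X.IdealSheafData) {X' : Scheme.{u}} [IsIntegral X'] (g : X' ⟶ W.toScheme),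
        g (genericPoint X') = genericPoint W.toScheme →
        BlowUp.IsEffCartierIdeal (((I * R).comap W.ι).comap g) → ∃ h : X' ⟶ Y, h ≫ f = g ≫ W.ι := by
  classical
  haveI : IsNoetherian W.toScheme := by
    haveI : CompactSpace W.toScheme := isCompact_iff_compactSpace.1 (NoetherianSpace.isCompact (W : Set X))
    exact { }
  let w : W.toScheme := ⟨t, htW⟩
  haveI hregW : IsRegularLocalRing (W.toScheme.presheaf.stalk w) :=
    haveI := hreg
    IsRegularLocalRing.of_ringEquiv (W.stalkIso w).symm.commRingCatIsoToRingEquiv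
  have hdW : ringKrullDim (W.toScheme.presheaf.stalk w) = 2 :=
    (ringKrullDim_eq_of_ringEquiv (W.stalkIso w).commRingCatIsoToRingEquiv).trans hd
  have hwη : w ≠ genericPoint W.toScheme := ne_generic hdW
  let Q : W.toScheme.Opens := W.ι ⁻¹ᵁ U
  have hηQ : genericPoint W.toScheme ∈ Q :=
    hWU _ (genericPoint W.toScheme).2 fun h => hwη (Subtype.ext h.symm)
  let sQ : Q.toScheme ⟶ Y := (W.ι ∣_ U) ≫ s
  have hsQ : sQ ≫ f = Q.ι ≫ W.ι := by rw [Category.assoc, hs, morphismRestrict_ι]
  let zK : Spec W.toScheme.functionField ⟶ Y := Q.fromSpecStalkOfMem (genericPoint W.toScheme) hηQ ≫ sQ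
  have hzK : zK ≫ f = W.toScheme.fromSpecStalk (genericPoint W.toScheme) ≫ W.ι := by
    rw [Category.assoc, hsQ, Scheme.Opens.fromSpecStalkOfMem_ι_assoc]
  obtain ⟨N, c, hc⟩ := exists_genCharts W.ι f zK
  haveI := RegLocal.isDomain (W.toScheme.presheaf.stalk w)
  let P := Σ i : Fin N, (c i).t
  have hden : ∀ p : P, ∃ (E : X.IdealSheafData) (n d : W.toScheme.presheaf.stalk w), d ≠ 0 ∧
      (E.support : Set X) ⊆ {t} ∧ IntMult.stalkIdeal (E.comap W.ι) w = Ideal.span {n, d} ∧
      (c p.1).φ p.2.1 * algebraMap (W.toScheme.presheaf.stalk w) W.toScheme.functionField d =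
        algebraMap (W.toScheme.presheaf.stalk w) W.toScheme.functionField n := fun p => by
    obtain ⟨n, d, hd0, hb, M, hM⟩ := exists_coprime_fraction (A := W.toScheme.presheaf.stalk w) hdW
      (K := W.toScheme.functionField) ((c p.1).φ p.2.1)
    let e := (W.stalkIso w).commRingCatIsoToRingEquiv
    have hM' : IsLocalRing.maximalIdeal (X.presheaf.stalk t) ^ M ≤
        (Ideal.span {n, d}).map e.toRingHom := by
      refine le_of_eq_of_le ?_ (Ideal.map_mono hM)
      rw [Ideal.map_pow, ← IsLocalRing.map_ringEquiv_maximalIdeal e]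
      rfl
    obtain ⟨E, hE, hEs⟩ := exists_pt_ideal t htc _ M hM'
    refine ⟨E, n, d, hd0, hEs, ?_, hb⟩
    rw [IdealStalkLib.stalkIdeal_comap, show IntMult.stalkIdeal E (W.ι w) = _ from hE, Ideal.map_map]
    have he : (W.ι.stalkMap w).hom.comp e.toRingHom = RingHom.id _ := by
      refine RingHom.ext fun a => ?_
      show W.ι.stalkMap w ((W.stalkIso w).hom a) = a
      have h2 : (W.stalkIso w).inv = W.ι.stalkMap w := W.stalkIso_inv w
      rw [← h2]
      exact (W.stalkIso w).hom_inv_id_apply a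
    rw [he, Ideal.map_id]
  choose E n d hd0 hEs hE hnd using hden
  refine ⟨∏ p, E p, ?_, fun R {X'} _ g hg hIc => ?_⟩
  · have key : ∀ S : Finset P, ((∏ p ∈ S, E p).support : Set X) ⊆ {t} := fun S => by
      induction S using Finset.induction_on with
      | empty =>
        rw [Finset.prod_empty, Scheme.IdealSheafData.one_eq_top, Scheme.IdealSheafData.support_top]
        exact fun x h => h.elim
      | insert p S hp ih =>
        rw [Finset.prod_insert hp, Scheme.IdealSheafData.support_mul]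
        exact fun x h => h.elim (fun h => hEs p h) (fun h => ih h)
    exact key Finset.univ
  suffices H : ∃ h : X' ⟶ Y, h ≫ f = g ≫ W.ι ∧
      X'.fromSpecStalk (genericPoint X') ≫ h = Spec.map (funMap g hg) ≫ zK from ⟨H.choose, H.choose_spec.1⟩
  refine exists_glue_generic (g ≫ W.ι) f (Spec.map (funMap g hg) ≫ zK) fun x => ?_
  by_cases hx : g x = w
  · obtain ⟨A, hA, l, hloc, hl₁, hl₂, hz⟩ := exists_centre W.ι f zK hzK g hg x
    obtain ⟨i, hiS, hiW⟩ := hc (g x) _ hz (by
      have h := congrArg (fun k => k (IsLocalRing.closedPoint X'.functionField)) hl₁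
      simp only [Scheme.Hom.comp_apply] at h
      rw [show IsLocalRing.closedPoint W.toScheme.functionField =
          Spec.map (funMap g hg) (IsLocalRing.closedPoint X'.functionField)
        from Subsingleton.elim (α := PrimeSpectrum W.toScheme.functionField) _ _]
      exact ((IsLocalRing.specializes_closedPoint _).map l.continuous).trans' (specializes_of_eq h.symm))
    refine exists_local_of_chart W.ι f zK g hg x A hA l hl₁ hl₂ (c i).hS₀ hiS (c i).hW (c i).hle (c i).φ (c i).hφ
      (DVRCrit.range_subset_of_closedPoint (R := A) l hiW) (c i).t (c i).ht fun b hb hbA => ?_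
    let p : P := ⟨i, ⟨b, hb⟩⟩
    have key : ∀ (v : W.toScheme), v = w → ∃ n' d' : W.toScheme.presheaf.stalk v, d' ≠ 0 ∧
        IntMult.stalkIdeal ((E p).comap W.ι) v = Ideal.span {n', d'} ∧
        (c i).φ b * algebraMap (W.toScheme.presheaf.stalk v) W.toScheme.functionField d' =
          algebraMap (W.toScheme.presheaf.stalk v) W.toScheme.functionField n' := by
      rintro v rfl
      exact ⟨n p, d p, hd0 p, hE p, hnd p⟩
    obtain ⟨n', d', hd', hE', hb'⟩ := key (g x) hx
    refine mem_range_of_cartier g hg x A hA hloc ((((∏ q, E q) * R)).comap W.ι) ((E p).comap W.ι)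
      (((∏ q ∈ Finset.univ.erase p, E q) * R).comap W.ι) ?_ hIc _ n' d' hd' hE' hb' hbA
    rw [← BlowCompLib.comap_mul, ← mul_assoc, Finset.mul_prod_erase _ _ (Finset.mem_univ p)]
  · have hxQ : g x ∈ Q := hWU _ (g x).2 fun h => hx (Subtype.ext h)
    refine ⟨(g ⁻¹ᵁ Q).fromSpecStalkOfMem x hxQ ≫ (g ∣_ Q) ≫ sQ, ?_, ?_⟩
    · simp only [Category.assoc, hsQ]
      rw [morphismRestrict_ι_assoc, Scheme.Opens.fromSpecStalkOfMem_ι_assoc]
    · show _ = Spec.map (funMap g hg) ≫ Q.fromSpecStalkOfMem (genericPoint W.toScheme) hηQ ≫ sQ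
      simp only [← Category.assoc]
      congr 1
      rw [← cancel_mono Q.ι]
      simp only [Category.assoc, morphismRestrict_ι]
      rw [Scheme.Opens.fromSpecStalkOfMem_ι_assoc, Scheme.SpecMap_stalkSpecializes_fromSpecStalk_assoc,
        Scheme.Opens.fromSpecStalkOfMem_ι, fromSpecStalk_funMap]

/-- **Point blow-ups dominate modifications** which are isomorphisms off finitely many regular points. -/
theorem exists_dominating_points {T : Set X} (hTf : T.Finite) (hTc : IsClosed T) (hT : ∀ x ∈ T, IsRegPt x)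
    (hf : IsIso (f ∣_ (⟨Tᶜ, hTc.isOpen_compl⟩ : X.Opens))) :
    ∃ (X' : Scheme.{u}) (g : X' ⟶ X), PtSeq g ∧ IsIso (g ∣_ (⟨Tᶜ, hTc.isOpen_compl⟩ : X.Opens)) ∧
      ∃ h : X' ⟶ Y, h ≫ f = g := by
  classical
  let U : X.Opens := ⟨Tᶜ, hTc.isOpen_compl⟩
  haveI := hf
  let s : U.toScheme ⟶ Y := inv (f ∣_ U) ≫ (f ⁻¹ᵁ U).ι
  have hs : s ≫ f = U.ι := by rw [Category.assoc, ← morphismRestrict_ι, IsIso.inv_hom_id_assoc]
  have huniq : ∀ {M : Scheme.{u}} (a b : M ⟶ Y), a ≫ f = b ≫ f → Set.range (a ≫ f) ⊆ U → a = b := by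
    intro M a b hab hr
    have hr' : ∀ c : M ⟶ Y, c ≫ f = a ≫ f → Set.range c ⊆ Set.range (f ⁻¹ᵁ U).ι := fun c hc => by
      rw [Scheme.Opens.range_ι]
      rintro _ ⟨m, rfl⟩
      show f (c m) ∈ U
      rw [← Scheme.Hom.comp_apply, hc]
      exact hr ⟨m, rfl⟩
    rw [← IsOpenImmersion.lift_fac _ a (hr' a rfl), ← IsOpenImmersion.lift_fac _ b (hr' b hab.symm)]
    congr 1
    rw [← cancel_mono (f ∣_ U), ← cancel_mono U.ι]
    simp only [Category.assoc, morphismRestrict_ι, IsOpenImmersion.lift_fac_assoc, hab]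
  haveI := fun t : T => (hT t.1 t.2).2.1
  haveI : ∀ t : T, IsDomain (X.presheaf.stalk t.1) := fun t => RegLocal.isDomain _
  have hW : ∀ t : T, ∃ W : X.Opens, t.1 ∈ W ∧ (∀ y ∈ W, y ≠ t.1 → y ∈ U) ∧ IsIntegral W.toScheme := fun t => by
    have hc : IsClosed (T \ {t.1}) := by
      rw [← Set.biUnion_of_singleton (T \ {t.1})]
      exact (hTf.subset Set.sdiff_subset).isClosed_biUnion fun y hy => (hT y hy.1).1
    obtain ⟨W, htW, hWO, hint⟩ := exists_integral_nhd t.1 ⟨(T \ {t.1})ᶜ, hc.isOpen_compl⟩ (fun h => h.2 rfl)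
    exact ⟨W, htW, fun y hy hyt hyT => hWO hy ⟨hyT, hyt⟩, hint⟩
  choose W htW hWU hWint using hW
  have hI : ∀ t : T, ∃ I : X.IdealSheafData, (I.support : Set X) ⊆ {t.1} ∧
      ∀ (R : X.IdealSheafData) {X' : Scheme.{u}} [IsIntegral X'] (g : X' ⟶ (W t).toScheme),
        haveI := hWint t
        g (genericPoint X') = genericPoint (W t).toScheme →
        BlowUp.IsEffCartierIdeal (((I * R).comap (W t).ι).comap g) → ∃ h : X' ⟶ Y, h ≫ f = g ≫ (W t).ι := fun t =>
    haveI := hWint t
    exists_ideal_at_point f s hs (htW t) (hT t.1 t.2).1 (hWU t) (hT t.1 t.2).2.1 (hT t.1 t.2).2.2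
  choose I hIs hIext using hI
  haveI := hTf.fintype
  have hsupp : ((∏ t, I t).support : Set X) ⊆ T := by
    have key : ∀ S : Finset T, ((∏ t ∈ S, I t).support : Set X) ⊆ T := fun S => by
      induction S using Finset.induction_on with
      | empty =>
        rw [Finset.prod_empty, Scheme.IdealSheafData.one_eq_top, Scheme.IdealSheafData.support_top]
        exact fun x h => h.elim
      | insert p S hp ih =>
        rw [Finset.prod_insert hp, Scheme.IdealSheafData.support_mul]
        exact fun x h => h.elim (fun h => (hIs p h : x = p.1) ▸ p.2) (fun h => ih h)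
    exact key Finset.univ
  obtain ⟨X', g, hX', hseq, hiso, hcart, -⟩ := principalised (∏ t, I t) (hTf.subset hsupp) fun x hx => hT x (hsupp hx)
  refine ⟨X', g, hseq, hiso U fun x hx h => hx (hsupp h), ?_⟩
  have hht : ∀ t : T, ∃ h : (g ⁻¹ᵁ W t).toScheme ⟶ Y, h ≫ f = (g ⁻¹ᵁ W t).ι ≫ g := fun t => by
    haveI := hWint t
    obtain ⟨hint, V, hV, hisoV⟩ := hseq.integral_restrict (W t)
    haveI := hint
    obtain ⟨hgen, -⟩ := BirQFLib.birational_of_isIso_restrict (g ∣_ W t) V hV hisoV
    obtain ⟨h, hh⟩ := hIext t (∏ q ∈ Finset.univ.erase t, I q) (g ∣_ W t) hgen (by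
      rw [Finset.mul_prod_erase _ _ (Finset.mem_univ t), ← Scheme.IdealSheafData.comap_comp, morphismRestrict_ι,
        Scheme.IdealSheafData.comap_comp]
      exact BlowCompLib.isEffCartier_comap_openImmersion hcart _)
    exact ⟨h, hh.trans (morphismRestrict_ι g (W t))⟩
  choose h hh using hht
  let O : Option T → X'.Opens := fun o => o.elim (g ⁻¹ᵁ U) fun t => g ⁻¹ᵁ W t
  let H : ∀ o, (O o).toScheme ⟶ Y := fun o => match o with
    | none => (g ∣_ U) ≫ s
    | some t => h t
  have hH : ∀ o, H o ≫ f = (O o).ι ≫ g := fun o => match o with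
    | none => by
      show ((g ∣_ U) ≫ s) ≫ f = (g ⁻¹ᵁ U).ι ≫ g
      rw [Category.assoc, hs, morphismRestrict_ι]
    | some t => hh t
  have hcov : iSup O = ⊤ := eq_top_iff.2 fun y _ => by
    by_cases hy : g y ∈ T
    · exact Opens.mem_iSup.2 ⟨some ⟨g y, hy⟩, htW ⟨g y, hy⟩⟩
    · exact Opens.mem_iSup.2 ⟨none, hy⟩
  have hmeet : ∀ o o' : Option T, o ≠ o' → ∀ y, y ∈ O o → y ∈ O o' → g y ∈ U := by
    rintro (_ | t) (_ | t') hne y hy hy'
    · exact absurd rfl hne
    · exact hy
    · exact hy'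
    · by_contra hyU
      exact hne (congrArg some (Subtype.ext ((by_contra fun h => hyU (hWU t _ hy h) : g y = t.1).symm.trans
        (by_contra fun h => hyU (hWU t' _ hy' h) : g y = t'.1))))
  let 𝒪 : X'.OpenCover := X'.openCoverOfIsOpenCover O hcov
  have hcompat : ∀ (o o' : Option T), pullback.fst (𝒪.f o) (𝒪.f o') ≫ H o = pullback.snd (𝒪.f o) (𝒪.f o') ≫ H o' := by
    intro o o'
    by_cases hoo : o = o'
    · subst hoo
      exact congrArg (· ≫ H o) ((cancel_mono (O o).ι).1 pullback.condition)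
    refine huniq _ _ ?_ ?_
    · simp only [Category.assoc, hH]
      exact pullback.condition_assoc _
    · simp only [Category.assoc, hH]
      rintro _ ⟨p, rfl⟩
      simp only [Scheme.Hom.comp_apply]
      refine hmeet o o' hoo _ ((pullback.fst (O o).ι (O o').ι) p).2 ?_
      have e := congrArg (fun k => k p) (pullback.condition (f := (O o).ι) (g := (O o').ι))
      simp only [Scheme.Hom.comp_apply] at e
      show (O o).ι ((pullback.fst (O o).ι (O o').ι) p) ∈ O o'
      rw [e]
      exact ((pullback.snd (O o).ι (O o').ι) p).2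
  exact ⟨𝒪.glueMorphisms H hcompat, Scheme.Cover.hom_ext 𝒪 _ _ fun o => by
    rw [𝒪.ι_glueMorphisms_assoc]
    exact hH o⟩

end Groth.Agent.SurfPtBlow
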