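import Groth.Agent.SurfPtBlow.ColengthAlg

/-!
# The maximal ideals of a chart over the blown-up point
-/

set_option autoImplicit false
set_option backward.isDefEq.respectTransparency false
set_option linter.style.haveILetI false
set_option maxHeartbeats 800000

universe u

noncomputable section

namespace Groth.Agent.SurfPtBlow

variable {R B : Type u} [CommRing R] [CommRing B] [IsDomain B] [IsNoetherianRing B] [Algebra R B]
variable {𝔪 : Ideal R} {a₀ : R} {Ψ : Polynomial R →+* B}

/-- Maximal ideals of an abstract chart through the exceptional divisor have two generators and height two. -/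
theorem regular_two_abstract (h𝔪 : 𝔪.IsMaximal) (hne : algebraMap R B a₀ ≠ 0) (hΨ : Function.Surjective Ψ)
    (hC : ∀ r, Ψ (Polynomial.C r) = algebraMap R B r)
    (hE : ∀ P, Ψ P ∈ Ideal.span {algebraMap R B a₀} ↔ ∀ n, P.coeff n ∈ 𝔪)
    (hp : (Ideal.span {algebraMap R B a₀}).IsPrime) (q : Ideal B) [hq : q.IsMaximal]
    (ha : algebraMap R B a₀ ∈ q) (S : Type u) [CommRing S] [Algebra B S] [IsLocalization.AtPrime S q] :
    IsRegularLocalRing S ∧ ringKrullDim S = 2 := by
  haveI := h𝔪
  haveI := hp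
  letI : Field (R ⧸ 𝔪) := Ideal.Quotient.field 𝔪
  let π := Ideal.Quotient.mk 𝔪
  let a := algebraMap R B a₀
  have hsurj : Function.Surjective (Polynomial.mapRingHom π) := Polynomial.map_surjective π Ideal.Quotient.mk_surjective
  obtain ⟨G₀, hG₀⟩ := (IsPrincipalIdealRing.principal ((q.comap Ψ).map (Polynomial.mapRingHom π))).principal
  obtain ⟨G, hG, hGG₀⟩ := (Ideal.mem_map_iff_of_surjective _ hsurj).1
    (hG₀.ge (Submodule.mem_span_singleton_self G₀) : G₀ ∈ (q.comap Ψ).map (Polynomial.mapRingHom π))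
  have hgen : q = Ideal.span {a, Ψ G} := by
    refine le_antisymm (fun z hz => ?_) (Ideal.span_le.2 ?_)
    · obtain ⟨P, rfl⟩ := hΨ z
      have h1 : Polynomial.mapRingHom π P ∈ Submodule.span _ {G₀} :=
        hG₀.le (Ideal.mem_map_of_mem _ (show P ∈ q.comap Ψ from hz))
      obtain ⟨Q₀, hQ₀⟩ := Submodule.mem_span_singleton.1 h1
      obtain ⟨Q, rfl⟩ := hsurj Q₀
      rw [smul_eq_mul, ← hGG₀, ← map_mul] at hQ₀
      have h2 : Ψ (P - Q * G) ∈ Ideal.span {a} := (hE _).2 fun n => by
        rw [← Ideal.Quotient.eq_zero_iff_mem, ← Polynomial.coeff_map]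
        show (Polynomial.mapRingHom π (P - Q * G)).coeff n = 0
        rw [map_sub, hQ₀, sub_self, Polynomial.coeff_zero]
      rw [Ideal.mem_span_pair]
      obtain ⟨w, hw⟩ := Ideal.mem_span_singleton'.1 h2
      refine ⟨w, Ψ Q, ?_⟩
      rw [hw, map_sub, map_mul]
      ring
    · rintro z (rfl | rfl)
      · exact ha
      · exact hG
  have hlt : Ideal.span {a} < q := by
    refine lt_of_le_of_ne (Ideal.span_le.2 (Set.singleton_subset_iff.2 ha)) fun h => ?_
    have hm : (Ideal.span {a}).IsMaximal := h ▸ hq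
    have hX : Ψ Polynomial.X ∉ Ideal.span {a} := fun hX => by
      have := (hE _).1 hX 1
      rw [Polynomial.coeff_X_one] at this
      exact h𝔪.ne_top ((Ideal.eq_top_iff_one _).2 this)
    obtain ⟨w, z, hz, hwz⟩ := hm.exists_inv hX
    obtain ⟨P, rfl⟩ := hΨ w
    have h1 : Ψ (P * Polynomial.X - 1) ∈ Ideal.span {a} := by
      rw [map_sub, map_mul, map_one, show Ψ P * Ψ Polynomial.X - 1 = -z by rw [← hwz]; ring]
      exact neg_mem hz
    have := (hE _).1 h1 0
    rw [Polynomial.coeff_sub, Polynomial.coeff_mul_X_zero, Polynomial.coeff_one_zero, zero_sub, neg_mem_iff] at this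
    exact h𝔪.ne_top ((Ideal.eq_top_iff_one _).2 this)
  have hbot : (⊥ : Ideal B) < Ideal.span {a} :=
    bot_lt_iff_ne_bot.2 fun h => hne (Ideal.span_singleton_eq_bot.1 h)
  have hheight : (2 : ℕ∞) ≤ q.height := by
    have h1 := Ideal.height_add_one_le_of_lt_of_isPrime hbot
    have h2 := Ideal.height_add_one_le_of_lt_of_isPrime hlt
    refine le_trans ?_ h2
    rw [show (2 : ℕ∞) = 1 + 1 from rfl]
    exact add_le_add_left (le_trans le_add_self h1) 1
  haveI : IsNoetherianRing S := IsLocalization.isNoetherianRing q.primeCompl S inferInstance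
  haveI : IsLocalRing S := IsLocalization.AtPrime.isLocalRing S q
  have hdim : ringKrullDim S = q.height := IsLocalization.AtPrime.ringKrullDim_eq_height q S
  have hmax : IsLocalRing.maximalIdeal S = Ideal.span (algebraMap B S '' {a, Ψ G}) := by
    rw [← Ideal.map_span, ← hgen, IsLocalization.AtPrime.map_eq_maximalIdeal]
  have hsr : (IsLocalRing.maximalIdeal S).spanFinrank ≤ 2 := by
    rw [hmax]
    refine (Submodule.spanFinrank_span_le_ncard_of_finite ((Set.toFinite {a, Ψ G}).image _)).trans ?_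
    refine (Set.ncard_image_le (Set.toFinite {a, Ψ G})).trans ?_
    exact (Set.ncard_insert_le _ _).trans (by rw [Set.ncard_singleton])
  have hle : ((IsLocalRing.maximalIdeal S).spanFinrank : WithBot ℕ∞) ≤ ringKrullDim S := by
    rw [hdim]
    exact le_trans (by exact_mod_cast hsr) (WithBot.coe_le_coe.2 hheight)
  haveI hreg := IsRegularLocalRing.of_spanFinrank_maximalIdeal_le S hle
  refine ⟨hreg, le_antisymm ?_ (hdim ▸ WithBot.coe_le_coe.2 hheight)⟩
  rw [← IsRegularLocalRing.spanFinrank_maximalIdeal]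
  exact_mod_cast hsr

end Groth.Agent.SurfPtBlow
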