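import Groth.Agent.SurfPtBlow.Colon
import Groth.Agent.SurfPtBlow.ChartTwo
import Groth.Agent.TwistShriek.PointBlow
import Groth.Agent.CurveFF.Point2
import Groth.Agent.CycLib.DivPull

/-!
# The colength drops under the blow-up of a regular point of dimension two
-/

set_option autoImplicit false
set_option backward.isDefEq.respectTransparency false
set_option backward.isDefEq.respectTransparency.types false
set_option linter.style.haveILetI false
set_option maxHeartbeats 1000000

universe u

open CategoryTheory CategoryTheory.Limits AlgebraicGeometry TopologicalSpace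
open Groth.Agent.BlowChartLib Groth.Agent.BlowExistsLib Groth.Agent.TwistShriek Groth.Agent.TwistShriek.PointBlow

noncomputable section

namespace Groth.Agent.SurfPtBlow

variable {X : Scheme.{u}} {x : X}

/-- Ideals of the local ring containing a power of the maximal ideal come from the affine ring. -/
theorem length_comap_germ [IsLocallyNoetherian X] (hx : IsClosed ({x} : Set X)) (U : X.affineOpens) (hxU : x ∈ U.1)
    {L : Ideal (X.presheaf.stalk x)} {N : ℕ} (hL : IsLocalRing.maximalIdeal (X.presheaf.stalk x) ^ N ≤ L) :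
    let m := (pointIdeal hx).ideal U
    let γ := (X.presheaf.germ U.1 x hxU).hom
    m ^ N ≤ L.comap γ ∧ (L.comap γ).map γ = L ∧
      Module.length Γ(X, U.1) (Γ(X, U.1) ⧸ L.comap γ) =
        Module.length (X.presheaf.stalk x) (X.presheaf.stalk x ⧸ L) := by
  intro m γ
  let A := Γ(X, U.1)
  let O := X.presheaf.stalk x
  haveI hm : m.IsMaximal := ideal_point_isMaximal hx U hxU
  letI : Algebra A O := TopCat.Presheaf.algebra_section_stalk X.presheaf ⟨x, hxU⟩
  haveI := U.2.isLocalization_stalk ⟨x, hxU⟩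
  let M := (U.2.primeIdealOf ⟨x, hxU⟩).asIdeal.primeCompl
  have hmap : m.map γ = IsLocalRing.maximalIdeal O := CurveP1Lib.map_vanishingIdeal_singleton hx U hxU
  have hN : m ^ N ≤ L.comap γ := by
    rw [← Ideal.map_le_iff_le_comap, Ideal.map_pow, hmap]; exact hL
  refine ⟨hN, IsLocalization.map_comap M O L, ?_⟩
  have hMm : ∀ s ∈ M, s ∉ m := fun s hs hsm => by
    have h1 := Ideal.mem_map_of_mem γ hsm
    rw [hmap] at h1
    exact h1 (IsLocalization.map_units O (⟨s, hs⟩ : M))
  let Q := O ⧸ L
  have hsurj : Function.Surjective (algebraMap A Q) := fun c => by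
    obtain ⟨c, rfl⟩ := Ideal.Quotient.mk_surjective c
    obtain ⟨r, s, rfl⟩ := IsLocalization.exists_mk'_eq M c
    have htop : Ideal.span {(s : A)} ⊔ m ^ N = ⊤ := by
      refine Ideal.sup_pow_eq_top ?_
      rw [sup_comm]
      exact (Ideal.isMaximal_def.1 hm).2 _ (lt_of_le_not_ge le_sup_left fun h => hMm s s.2
        (h (Ideal.mem_sup_right (Ideal.mem_span_singleton_self _))))
    obtain ⟨c, hc, e, he, hce⟩ := Submodule.mem_sup.1 ((Ideal.eq_top_iff_one _).1 htop)
    obtain ⟨c, rfl⟩ := Ideal.mem_span_singleton'.1 hc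
    refine ⟨r * c, ?_⟩
    show Ideal.Quotient.mk L (algebraMap A O (r * c)) = Ideal.Quotient.mk L (IsLocalization.mk' O r s)
    refine Ideal.Quotient.eq.2 ?_
    obtain ⟨u, hu⟩ := IsLocalization.map_units O s
    have h1 : IsLocalization.mk' O r s = algebraMap A O r * ↑u⁻¹ := by
      rw [← IsLocalization.mk'_spec O r s, ← hu, Units.mul_inv_cancel_right]
    have h2 : algebraMap A O c * ↑u + algebraMap A O e = 1 := by rw [hu, ← map_mul, ← map_add, hce, map_one]
    rw [h1, show algebraMap A O (r * c) - algebraMap A O r * ↑u⁻¹ =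
      algebraMap A O r * ↑u⁻¹ * (algebraMap A O c * ↑u - 1) by
        rw [map_mul]; linear_combination (- algebraMap A O r * algebraMap A O c) * u.inv_mul,
      show algebraMap A O c * ↑u - 1 = - algebraMap A O e by linear_combination h2]
    exact Ideal.mul_mem_left _ _ (neg_mem (hN he))
  have hker : RingHom.ker (algebraMap A Q) = L.comap γ := by
    ext r
    exact Ideal.Quotient.eq_zero_iff_mem
  let ψ : (A ⧸ L.comap γ) →ₗ[A] Q := (L.comap γ).liftQ (Algebra.linearMap A Q) fun r hr => hker.ge hr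
  have hψ : Function.Bijective ψ := by
    refine ⟨?_, fun c => ?_⟩
    · rw [← LinearMap.ker_eq_bot]
      exact Submodule.ker_liftQ_eq_bot _ _ _ fun r hr => hker.le hr
    · obtain ⟨r, rfl⟩ := hsurj c
      exact ⟨Submodule.Quotient.mk r, rfl⟩
  rw [(LinearEquiv.ofBijective ψ hψ).length_eq, Module.length_eq_of_surjective (R := Q) hsurj,
    ← Module.length_eq_of_surjective (R := Q) (S := O) Ideal.Quotient.mk_surjective]

/-- The powers of the maximal ideal of the point. -/
theorem comap_maximal_pow (hx : IsClosed ({x} : Set X)) (U : X.affineOpens) (hxU : x ∈ U.1) (d : ℕ) :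
    (IsLocalRing.maximalIdeal (X.presheaf.stalk x) ^ d).comap (X.presheaf.germ U.1 x hxU).hom =
      (pointIdeal hx).ideal U ^ d := by
  let m := (pointIdeal hx).ideal U
  let γ := (X.presheaf.germ U.1 x hxU).hom
  haveI hm : m.IsMaximal := ideal_point_isMaximal hx U hxU
  letI : Algebra Γ(X, U.1) (X.presheaf.stalk x) := TopCat.Presheaf.algebra_section_stalk X.presheaf ⟨x, hxU⟩
  haveI := U.2.isLocalization_stalk ⟨x, hxU⟩
  let M := (U.2.primeIdealOf ⟨x, hxU⟩).asIdeal.primeCompl
  have hmap : m.map γ = IsLocalRing.maximalIdeal (X.presheaf.stalk x) :=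
    CurveP1Lib.map_vanishingIdeal_singleton hx U hxU
  rw [← hmap, ← Ideal.map_pow]
  refine le_antisymm (fun r hr => ?_) Ideal.le_comap_map
  obtain ⟨⟨⟨e, he⟩, t⟩, het⟩ := (IsLocalization.mem_map_algebraMap_iff M (X.presheaf.stalk x)).1 hr
  change γ r * γ t = γ e at het
  rw [← map_mul] at het
  obtain ⟨c, hc⟩ := (IsLocalization.eq_iff_exists M (X.presheaf.stalk x)).1 het
  have hct : ((c * t : M) : Γ(X, U.1)) ∉ m := fun h => by
    have h1 := Ideal.mem_map_of_mem γ h
    rw [hmap] at h1
    exact h1 (IsLocalization.map_units (X.presheaf.stalk x) (c * t : M))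
  have htop : Ideal.span {((c * t : M) : Γ(X, U.1))} ⊔ m ^ d = ⊤ := by
    refine Ideal.sup_pow_eq_top ?_
    rw [sup_comm]
    exact (Ideal.isMaximal_def.1 hm).2 _ (lt_of_le_not_ge le_sup_left fun h => hct
      (h (Ideal.mem_sup_right (Ideal.mem_span_singleton_self _))))
  obtain ⟨b, hb, e', he', hbe⟩ := Submodule.mem_sup.1 ((Ideal.eq_top_iff_one _).1 htop)
  obtain ⟨b, rfl⟩ := Ideal.mem_span_singleton'.1 hb
  show r ∈ m ^ d
  rw [← one_mul r, ← hbe, add_mul]
  refine add_mem ?_ (Ideal.mul_mem_right _ _ he')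
  rw [show b * ((c * t : M) : Γ(X, U.1)) * r = b * ((c : Γ(X, U.1)) * (r * t)) by push_cast; ring, hc]
  exact Ideal.mul_mem_left _ _ (Ideal.mul_mem_left _ _ he)

variable {X' : Scheme.{u}} {hx : IsClosed ({x} : Set X)} {π : X' ⟶ X}
variable (hb : BlowUp.IsBlowUp π (pointIdeal hx)) (P : PointParams hx)

/-- The local ring of a chart. -/
theorem gerA_chartMap (i : Fin 2) (z : Spec (CommRingCat.of (B P i)))
    (hw : chartMap (pointIdeal hx) P.U (P.f i) z ∈ P.U.1) (r : Γ(X, P.U.1)) :
    gerA (chartMap (pointIdeal hx) P.U (P.f i)) z hw r =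
      StructureSheaf.toStalk (B P i) z (algebraMap Γ(X, P.U.1) (B P i) r) := by
  rw [← gerA_eq (chartMap (pointIdeal hx) P.U (P.f i)) r (le_preimage_chartMap _ _ _) z trivial]
  show (Spec (CommRingCat.of (B P i))).presheaf.germ ⊤ z trivial _ = _
  rw [appLE_chartMap]
  rfl

variable [IsLocallyNoetherian X]

include hb in
/-- The colength of the weak transform in a chart. -/
theorem exists_chart_bound (I : X.IdealSheafData) (K : X'.IdealSheafData) (d N : ℕ)
    (hN : IsLocalRing.maximalIdeal (X.presheaf.stalk x) ^ N ≤ IntMult.stalkIdeal I x)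
    (hd : IntMult.stalkIdeal I x ≤ IsLocalRing.maximalIdeal (X.presheaf.stalk x) ^ d)
    (hd' : ¬ IntMult.stalkIdeal I x ≤ IsLocalRing.maximalIdeal (X.presheaf.stalk x) ^ (d + 1))
    (hK : I.comap π = K * BlowUp.exceptional π (pointIdeal hx) ^ d) (i : Fin 2) :
    ∃ J' : Ideal (B P i),
      Module.length (B P i) (B P i ⧸ J') +
          Module.length Γ(X, P.U.1) (Γ(X, P.U.1) ⧸ (pointIdeal hx).ideal P.U ^ d) ≤ colen I x ∧
      ∀ z : Spec (CommRingCat.of (B P i)), chartMap (pointIdeal hx) P.U (P.f i) z = x →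
        J'.map (StructureSheaf.toStalk (B P i) z).hom ≤ IntMult.stalkIdeal (K.comap (emb hb (mem_ideal P i))) z := by
  haveI := P.isDomain
  let A := Γ(X, P.U.1)
  let γ := (X.presheaf.germ P.U.1 x P.mem).hom
  let J : Ideal A := (IntMult.stalkIdeal I x).comap γ
  obtain ⟨hJN, hJmap, hlen⟩ := length_comap_germ hx P.U P.mem hN
  have hJd : J ≤ (pointIdeal hx).ideal P.U ^ d := (Ideal.comap_mono hd).trans (comap_maximal_pow hx P.U P.mem d).le
  have hJd' : ¬ J ≤ (pointIdeal hx).ideal P.U ^ (d + 1) := fun h => hd' (by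
    rw [← hJmap]
    refine (Ideal.map_mono h).trans ?_
    rw [Ideal.map_pow, CurveP1Lib.map_vanishingIdeal_singleton hx P.U P.mem])
  let α : B P i := algebraMap A (B P i) (P.f i)
  let J' : Ideal (B P i) := (J.map (algebraMap A (B P i))).colon ({α ^ d} : Set (B P i))
  have hJ' : ∀ w, w ∈ J' ↔ α ^ d * w ∈ J.map (algebraMap A (B P i)) := fun w => by
    rw [Submodule.mem_colon_singleton, smul_eq_mul, mul_comm]
  refine ⟨J', ?_, fun z hz => ?_⟩
  · rw [colen, ← hlen]
    exact colength_chart P.quasiRegular P.span_eq P.isMaximal P.ne_zero i J N d hJN hJd hJd' J' hJ'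
  haveI := isDomain_B P i
  let R := (Spec (CommRingCat.of (B P i))).presheaf.stalk z
  let t : B P i →+* R := (StructureSheaf.toStalk (B P i) z).hom
  letI : Algebra (B P i) R := StructureSheaf.stalkAlgebra (B P i) z
  haveI : IsLocalization.AtPrime R z.asIdeal := StructureSheaf.IsLocalization.to_stalk (B P i) z
  let g := chartMap (pointIdeal hx) P.U (P.f i)
  have hw : g z ∈ P.U.1 := hz.symm ▸ P.mem
  have hg : ∀ r, gerA g z hw r = t (algebraMap A (B P i) r) := gerA_chartMap P i z hw
  have hE : IntMult.stalkIdeal ((pointIdeal hx).comap g) z = Ideal.span {t α} := by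
    rw [stalkIdeal_eq_map g z hw, Ideal.map_map,
      show ((g.stalkMap z).hom.comp (X.presheaf.germ P.U.1 (g z) hw).hom) = t.comp (algebraMap A (B P i)) from
        RingHom.ext hg, ← Ideal.map_map, map_eq_span (mem_ideal P i), Ideal.map_span, Set.image_singleton]
  have hmul : IntMult.stalkIdeal (I.comap g) z =
      IntMult.stalkIdeal (K.comap (emb hb (mem_ideal P i))) z * Ideal.span {t α} ^ d := by
    rw [← hE, ← InfNbhdLib.stalkIdeal_pow, ← DivisorialLib.stalkIdeal_mul]
    congr 1
    rw [show g = emb hb (mem_ideal P i) ≫ π from (emb_comp hb _).symm, Scheme.IdealSheafData.comap_comp, hK,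
      BlowCompLib.comap_mul, comap_pow']
    congr 2
    exact (Scheme.IdealSheafData.comap_comp _ _ _).symm
  have hJI : J.map (t.comp (algebraMap A (B P i))) ≤ IntMult.stalkIdeal (I.comap g) z := by
    refine Ideal.map_le_iff_le_comap.2 fun r hr => ?_
    rw [Ideal.mem_comap, RingHom.comp_apply, ← hg]
    letI : Algebra A (X.presheaf.stalk x) := TopCat.Presheaf.algebra_section_stalk X.presheaf ⟨x, P.mem⟩
    haveI := P.U.2.isLocalization_stalk ⟨x, P.mem⟩
    let M := (P.U.2.primeIdealOf ⟨x, P.mem⟩).asIdeal.primeCompl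
    have hr' : γ r ∈ (I.ideal P.U).map (algebraMap A (X.presheaf.stalk x)) := by
      have h0 : γ r ∈ IntMult.stalkIdeal I x := hr
      rwa [IdealStalkLib.stalkIdeal_eq I P.U x P.mem] at h0
    obtain ⟨⟨⟨e, he⟩, s⟩, hes⟩ := (IsLocalization.mem_map_algebraMap_iff M (X.presheaf.stalk x)).1 hr'
    change γ r * γ s = γ e at hes
    rw [← map_mul] at hes
    obtain ⟨c, hc⟩ := (IsLocalization.eq_iff_exists M (X.presheaf.stalk x)).1 hes
    have hu : IsUnit (gerA g z hw ((c * s : M) : A)) := by
      refine IsUnit.map (g.stalkMap z).hom ((X.mem_basicOpen _ _ hw).1 ?_)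
      rw [hz, X.mem_basicOpen _ _ P.mem]
      exact IsLocalization.map_units (X.presheaf.stalk x) (c * s : M)
    rw [← Ideal.unit_mul_mem_iff_mem _ hu]
    have h1 : gerA g z hw ((c * s : M) : A) * gerA g z hw r = gerA g z hw (c * e) := by
      rw [show gerA g z hw ((c * s : M) : A) * gerA g z hw r = gerA g z hw (((c * s : M) : A) * r) by
        simp only [gerA, map_mul]]
      congr 1
      rw [← hc]; push_cast; ring
    rw [h1]
    exact gerA_mem g z hw (Ideal.mul_mem_left _ _ he)
  refine Ideal.map_le_iff_le_comap.2 fun j hj => ?_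
  rw [Ideal.mem_comap]
  have h1 : t α ^ d * t j ∈ IntMult.stalkIdeal (K.comap (emb hb (mem_ideal P i))) z * Ideal.span {t α} ^ d := by
    rw [← hmul, ← map_pow, ← map_mul]
    refine hJI ?_
    rw [← Ideal.map_map]
    exact Ideal.mem_map_of_mem _ ((hJ' j).1 hj)
  have htα : t α ^ d ∈ nonZeroDivisors R :=
    pow_mem (IsLocalization.map_nonZeroDivisors_le z.asIdeal.primeCompl R ⟨α, mem_nonZeroDivisors, rfl⟩) d
  rw [Ideal.span_singleton_pow, Ideal.mem_mul_span_singleton] at h1
  obtain ⟨l, hl, hle⟩ := h1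
  have hlj : l = t j := (mul_cancel_right_mem_nonZeroDivisors htα).1 (hle.trans (mul_comm _ _))
  rw [hlj] at hl
  exact hl

include hb P in
/-- **The colength drops**: over the blown-up point the weak transform has finitely many points, all closed
with regular local rings of dimension two, at which the colength is smaller. -/
theorem blowUp_drop (I : X.IdealSheafData) (K : X'.IdealSheafData) (d : ℕ) (hd1 : 1 ≤ d) (hfin : colen I x ≠ ⊤)
    (hd : IntMult.stalkIdeal I x ≤ IsLocalRing.maximalIdeal (X.presheaf.stalk x) ^ d)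
    (hd' : ¬ IntMult.stalkIdeal I x ≤ IsLocalRing.maximalIdeal (X.presheaf.stalk x) ^ (d + 1))
    (hK : I.comap π = K * BlowUp.exceptional π (pointIdeal hx) ^ d) :
    ({y : X' | π y = x ∧ y ∈ K.support}).Finite ∧
      ∀ y : X', π y = x → y ∈ K.support → IsClosed ({y} : Set X') ∧ IsRegularLocalRing (X'.presheaf.stalk y) ∧
        ringKrullDim (X'.presheaf.stalk y) = 2 ∧ colen K y < colen I x := by
  haveI := P.isDomain
  haveI := P.isMaximal
  obtain ⟨N, hN⟩ := exists_pow_le_of_colen_ne_top I x hfin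
  choose J' hlen hJ' using exists_chart_bound hb P I K d N hN hd hd' hK
  have hpos : 0 < Module.length Γ(X, P.U.1) (Γ(X, P.U.1) ⧸ (pointIdeal hx).ideal P.U ^ d) := by
    haveI : Nontrivial (Γ(X, P.U.1) ⧸ (pointIdeal hx).ideal P.U ^ d) := Ideal.Quotient.nontrivial_iff.2 fun h =>
      P.isMaximal.ne_top (top_le_iff.1 (h.ge.trans (Ideal.pow_le_self (by omega))))
    exact Module.length_pos
  have hlt : ∀ i, Module.length (B P i) (B P i ⧸ J' i) < colen I x := fun i => by
    refine lt_of_lt_of_le ?_ (hlen i)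
    refine ENat.add_one_le_iff ?_ |>.1 (add_le_add le_rfl (Order.one_le_iff_pos.2 hpos))
    exact ne_top_of_le_ne_top hfin (le_self_add.trans (hlen i))
  -- the points of the weak transform over the point in the charts
  let S : (i : Fin 2) → Set (Spec (CommRingCat.of (B P i))) := fun i =>
    {z | π (emb hb (mem_ideal P i) z) = x ∧ emb hb (mem_ideal P i) z ∈ K.support}
  have hprime : ∀ i, ∀ z ∈ S i, J' i ≤ z.asIdeal ∧ z.asIdeal.IsMaximal := fun i z ⟨hzx, hzK⟩ => by
    have hzc : chartMap (pointIdeal hx) P.U (P.f i) z = x := by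
      rw [← emb_comp hb (mem_ideal P i), Scheme.Hom.comp_apply]; exact hzx
    have hle : J' i ≤ z.asIdeal := by
      intro j hj
      by_contra hjz
      letI : Algebra (B P i) ((Spec (CommRingCat.of (B P i))).presheaf.stalk z) := StructureSheaf.stalkAlgebra (B P i) z
      haveI : IsLocalization.AtPrime ((Spec (CommRingCat.of (B P i))).presheaf.stalk z) z.asIdeal :=
        StructureSheaf.IsLocalization.to_stalk (B P i) z
      have h1 := Ideal.eq_top_of_isUnit_mem _ (hJ' i z hzc (Ideal.mem_map_of_mem _ hj))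
        (IsLocalization.map_units ((Spec (CommRingCat.of (B P i))).presheaf.stalk z) (⟨j, hjz⟩ : z.asIdeal.primeCompl))
      refine (stalkIdeal_ne_top_iff (K.comap (emb hb (mem_ideal P i))) z).2 ?_ h1
      rw [Scheme.IdealSheafData.support_comap]
      exact hzK
    refine ⟨hle, ?_⟩
    haveI : IsArtinian (B P i) (B P i ⧸ J' i) :=
      (isFiniteLength_iff_isNoetherian_isArtinian.1 (Module.length_ne_top_iff.1 (hlt i).ne_top)).2
    haveI : IsArtinianRing (B P i ⧸ J' i) :=
      isArtinian_of_tower (B P i) (inferInstance : IsArtinian (B P i) (B P i ⧸ J' i))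
    haveI : (z.asIdeal.map (Ideal.Quotient.mk (J' i))).IsPrime :=
      Ideal.map_isPrime_of_surjective Ideal.Quotient.mk_surjective (by rw [Ideal.mk_ker]; exact hle)
    have h2 := IsArtinianRing.isMaximal_of_isPrime (z.asIdeal.map (Ideal.Quotient.mk (J' i)))
    have h3 := Ideal.comap_isMaximal_of_surjective _ Ideal.Quotient.mk_surjective (K := z.asIdeal.map (Ideal.Quotient.mk (J' i)))
    rwa [Ideal.comap_map_of_surjective _ Ideal.Quotient.mk_surjective, ← RingHom.ker_eq_comap_bot, Ideal.mk_ker,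
      sup_eq_left.2 hle] at h3
  have hfinS : ∀ i, (S i).Finite := fun i => by
    haveI : IsArtinian (B P i) (B P i ⧸ J' i) :=
      (isFiniteLength_iff_isNoetherian_isArtinian.1 (Module.length_ne_top_iff.1 (hlt i).ne_top)).2
    haveI : IsArtinianRing (B P i ⧸ J' i) :=
      isArtinian_of_tower (B P i) (inferInstance : IsArtinian (B P i) (B P i ⧸ J' i))
    have hfp := IsArtinianRing.setOfPred_isPrime_finite (R := B P i ⧸ J' i)
    refine Set.Finite.of_finite_image (f := fun z : Spec (CommRingCat.of (B P i)) =>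
      Ideal.map (R := B P i) (Ideal.Quotient.mk (J' i)) z.asIdeal) (hfp.subset ?_) ?_
    · rintro _ ⟨z, hz, rfl⟩
      exact Ideal.map_isPrime_of_surjective (I := z.asIdeal) Ideal.Quotient.mk_surjective
        (by rw [Ideal.mk_ker]; exact (hprime i z hz).1)
    · intro z hz z' hz' h
      refine PrimeSpectrum.ext ?_
      have h1 := congrArg (Ideal.comap (Ideal.Quotient.mk (J' i))) h
      simp only [Ideal.comap_map_of_surjective _ Ideal.Quotient.mk_surjective, ← RingHom.ker_eq_comap_bot,
        Ideal.mk_ker] at h1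
      rwa [sup_eq_left.2 (hprime i z hz).1, sup_eq_left.2 (hprime i z' hz').1] at h1
  have hcov : ∀ y : X', π y = x → ∃ i z, emb hb (mem_ideal P i) z = y := fun y hy => by
    obtain ⟨a, ⟨i, rfl⟩, ha⟩ := BlowChartLib.exists_mem_chartOpen (pointIdeal hx) P.U π hb (Set.range P.f)
      P.span_eq.symm y (hy.symm ▸ P.mem : π y ∈ P.U.1)
    rw [← opensRange_emb hb (mem_ideal P i)] at ha
    obtain ⟨z, hz⟩ := ha
    exact ⟨i, z, hz⟩
  constructor
  · refine ((Set.finite_iUnion fun i => (hfinS i).image (emb hb (mem_ideal P i)))).subset ?_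
    rintro y ⟨hy, hyK⟩
    obtain ⟨i, z, rfl⟩ := hcov y hy
    exact Set.mem_iUnion.2 ⟨i, z, ⟨hy, hyK⟩, rfl⟩
  intro y hy hyK
  obtain ⟨i, z, rfl⟩ := hcov y hy
  obtain ⟨hzJ, hzmax⟩ := hprime i z ⟨hy, hyK⟩
  let e := (asIso ((emb hb (mem_ideal P i)).stalkMap z)).commRingCatIsoToRingEquiv
  refine ⟨?_, ?_⟩
  · rw [← closure_subset_iff_isClosed]
    intro w hw
    have hsp : emb hb (mem_ideal P i) z ⤳ w := specializes_iff_mem_closure.2 hw
    have hwx : π w = x := by
      have h := hsp.map π.continuous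
      rw [hy] at h
      exact h.mem_closed hx rfl
    have hwK : w ∈ K.support := hsp.mem_closed K.support.isClosed hyK
    obtain ⟨j, v, rfl⟩ := hcov w hwx
    obtain ⟨z', hz'⟩ : emb hb (mem_ideal P i) z ∈ Set.range (emb hb (mem_ideal P j)) :=
      hsp.mem_open (emb hb (mem_ideal P j)).isOpenEmbedding.isOpen_range ⟨v, rfl⟩
    have hz'v : z' ⤳ v := by
      rw [← (emb hb (mem_ideal P j)).isOpenEmbedding.isEmbedding.isInducing.specializes_iff, hz']; exact hsp
    obtain ⟨-, hz'max⟩ := hprime j z' ⟨hz' ▸ hy, hz' ▸ hyK⟩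
    have : z' = v := PrimeSpectrum.ext (hz'max.eq_of_le v.isPrime.ne_top ((PrimeSpectrum.le_iff_specializes z' v).2 hz'v))
    rw [Set.mem_singleton_iff, ← this, hz']
  letI : Algebra (B P i) ((Spec (CommRingCat.of (B P i))).presheaf.stalk z) := StructureSheaf.stalkAlgebra (B P i) z
  haveI : IsLocalization.AtPrime ((Spec (CommRingCat.of (B P i))).presheaf.stalk z) z.asIdeal :=
    StructureSheaf.IsLocalization.to_stalk (B P i) z
  have hzc : chartMap (pointIdeal hx) P.U (P.f i) z = x := by
    rw [← emb_comp hb (mem_ideal P i), Scheme.Hom.comp_apply]; exact hy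
  have hcolen : colen K (emb hb (mem_ideal P i) z) < colen I x := by
    refine lt_of_le_of_lt ?_ (hlt i)
    refine le_trans (le_of_eq ?_) (length_localization_quot_le z.asIdeal.primeCompl (hJ' i z hzc))
    rw [colen, IdealStalkLib.stalkIdeal_comap]
    exact (CycLib.length_quot_ringEquiv e (IntMult.stalkIdeal K (emb hb (mem_ideal P i) z)) _ rfl).symm
  haveI := hzmax
  have hza : algebraMap Γ(X, P.U.1) (B P i) (P.f i) ∈ z.asIdeal := by
    by_contra ha
    have hw : chartMap (pointIdeal hx) P.U (P.f i) z ∈ P.U.1 := hzc.symm ▸ P.mem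
    have h1 := gerA_mem (chartMap (pointIdeal hx) P.U (P.f i)) z hw (mem_ideal P i)
    rw [gerA_chartMap P i z hw] at h1
    refine (stalkIdeal_ne_top_iff ((pointIdeal hx).comap (chartMap (pointIdeal hx) P.U (P.f i))) z).2 ?_
      (Ideal.eq_top_of_isUnit_mem _ h1
        (IsLocalization.map_units ((Spec (CommRingCat.of (B P i))).presheaf.stalk z) (⟨_, ha⟩ : z.asIdeal.primeCompl)))
    rw [Scheme.IdealSheafData.support_comap]
    show chartMap (pointIdeal hx) P.U (P.f i) z ∈ ((pointIdeal hx).support : Set X)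
    rw [hzc, Scheme.IdealSheafData.coe_support_vanishingIdeal]
    rfl
  haveI := isDomain_B P i
  obtain ⟨Ψ, hΨ, hC, -, hmemE⟩ := PointChart.exists_poly P.quasiRegular P.span_eq i
  haveI : IsNoetherianRing Γ(X, P.U.1) := IsLocallyNoetherian.component_noetherian P.U
  haveI : IsNoetherianRing (B P i) := isNoetherianRing_of_surjective _ _ Ψ hΨ
  obtain ⟨hreg, hdim⟩ := regular_two_abstract P.isMaximal (alg_ne_zero P i i) hΨ hC hmemE
    (PointChart.isPrime_exceptional P.quasiRegular P.span_eq P.isMaximal.isPrime i) z.asIdeal hza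
    ((Spec (CommRingCat.of (B P i))).presheaf.stalk z)
  haveI := hreg
  exact ⟨IsRegularLocalRing.of_ringEquiv e.symm, (ringKrullDim_eq_of_ringEquiv e).trans hdim, hcolen⟩

end Groth.Agent.SurfPtBlow
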