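import Groth.Agent.TwistShriek.PointChart

/-!
# The colength drops in a chart of the blow-up of a point
-/

set_option autoImplicit false
set_option backward.isDefEq.respectTransparency false
set_option linter.style.haveILetI false
set_option maxHeartbeats 800000

universe u

open Groth.Agent.BlowChartLib Groth.Agent.TwistShriek

noncomputable section

namespace Groth.Agent.SurfPtBlow

/-- Localising does not increase the length of a cyclic module. -/
theorem length_localization_quot_le {B R : Type*} [CommRing B] [CommRing R] [Algebra B R] (M : Submonoid B)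
    [IsLocalization M R] {J : Ideal B} {L : Ideal R} (h : J.map (algebraMap B R) ≤ L) :
    Module.length R (R ⧸ L) ≤ Module.length B (B ⧸ J) := by
  let ρ : (B ⧸ J) →+* R ⧸ L := Ideal.quotientMap L (algebraMap B R) (Ideal.map_le_iff_le_comap.1 h)
  let F : Submodule R (R ⧸ L) → Submodule B (B ⧸ J) := fun S =>
    { carrier := {z | ρ z ∈ S}
      add_mem' := fun {a b} ha hb => by simpa using S.add_mem ha hb
      zero_mem' := by simp
      smul_mem' := fun c z (hz : ρ z ∈ S) => by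
        obtain ⟨z, rfl⟩ := Ideal.Quotient.mk_surjective z
        show Ideal.Quotient.mk L (algebraMap B R (c * z)) ∈ S
        rw [map_mul]
        exact S.smul_mem (algebraMap B R c) hz }
  have hmono : StrictMono F := by
    refine Monotone.strictMono_of_injective (fun S T hST z hz => hST hz) fun S T hST => ?_
    suffices key : ∀ (S T : Submodule R (R ⧸ L)), F S ≤ F T → S ≤ T from
      le_antisymm (key S T hST.le) (key T S hST.ge)
    intro S T hle x hx
    obtain ⟨x, rfl⟩ := Ideal.Quotient.mk_surjective x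
    obtain ⟨b, s, rfl⟩ := IsLocalization.exists_mk'_eq M x
    have h1 : Ideal.Quotient.mk L (algebraMap B R b) ∈ S := by
      rw [← IsLocalization.mk'_spec R b s, mul_comm]
      exact S.smul_mem (algebraMap B R s) hx
    have h2 : Ideal.Quotient.mk L (algebraMap B R b) ∈ T := hle (show ρ (Ideal.Quotient.mk J b) ∈ S from h1)
    obtain ⟨u, hu⟩ := IsLocalization.map_units R s
    have h3 : IsLocalization.mk' R b s = ↑u⁻¹ * algebraMap B R b := by
      rw [← IsLocalization.mk'_spec R b s, ← hu, mul_comm (IsLocalization.mk' R b s), Units.inv_mul_cancel_left]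
    rw [h3]
    exact T.smul_mem (↑u⁻¹ : R) h2
  exact WithBot.coe_le_coe.1 ((Module.coe_length R (R ⧸ L)).trans_le
    ((Order.krullDim_le_of_strictMono F hmono).trans_eq (Module.coe_length B (B ⧸ J)).symm))

variable {A : Type u} [CommRing A] [IsDomain A] {m : Ideal A} {f : Fin 2 → A}

local notation "B[" i "]" => BlowUp.affineAlgebra A m (f i)

theorem algebraMap_injective_chart (hne : ∀ i, f i ≠ 0) (i : Fin 2) :
    Function.Injective (algebraMap A B[i]) := fun x y h =>
  IsLocalization.injective (Localization.Away (f i)) (powers_le_nonZeroDivisors_of_noZeroDivisors (hne i))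
    (congrArg Subtype.val h)

variable (hq : CAlgX.IsQuasiRegular f) (hI : m = Ideal.span (Set.range f))
include hq hI

/-- The elements of `m^d` are the forms of degree `d` in the parameters. -/
theorem exists_form (i : Fin 2) (d : ℕ) {Ψ : Polynomial A →+* B[i]}
    (hC : ∀ r, Ψ (Polynomial.C r) = algebraMap A B[i] r)
    (hX : ∀ h : f (i + 1) ∈ m, Ψ Polynomial.X = frac (f (i + 1)) h) :
    (∀ r ∈ m ^ d, ∃ G : Polynomial A, G.natDegree ≤ d ∧ algebraMap A B[i] r = algebraMap A B[i] (f i) ^ d * Ψ G) ∧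
      (∀ G : Polynomial A, G.natDegree ≤ d → ∀ J : Ideal A, (∀ j, G.coeff j ∈ J) →
        ∃ r ∈ J * m ^ d, algebraMap A B[i] r = algebraMap A B[i] (f i) ^ d * Ψ G) := by
  have hmem : ∀ j, f j ∈ m := fun j => hI ▸ Ideal.subset_span ⟨j, rfl⟩
  have hf : algebraMap A B[i] (f (i + 1)) = algebraMap A B[i] (f i) * Ψ Polynomial.X := by
    rw [hX (hmem _), mul_comm, frac_mul]
  refine ⟨?_, fun G hG J hJ => ?_⟩
  · induction d with
    | zero => intro r _; exact ⟨Polynomial.C r, (Polynomial.natDegree_C r).le, by rw [hC, pow_zero, one_mul]⟩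
    | succ d ih =>
      intro r hr
      rw [pow_succ] at hr
      induction hr using Submodule.mul_induction_on' with
      | mem_mul_mem s hs t ht =>
        obtain ⟨G, hG, hGs⟩ := ih s hs
        obtain ⟨c, hc⟩ := Ideal.mem_span_range_iff_exists_fun.1 (hI.le ht)
        rw [Fin.sum_univ_two] at hc
        obtain ⟨u, v, huv⟩ : ∃ u v : A, t = u * f i + v * f (i + 1) := by
          rcases PointChart.eq_or 0 i with rfl | rfl
          · exact ⟨c 0, c 1, hc.symm⟩
          · exact ⟨c 1, c 0, by rw [← hc]; simp [add_comm]⟩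
        refine ⟨G * (Polynomial.C u + Polynomial.C v * Polynomial.X), ?_, ?_⟩
        · refine Polynomial.natDegree_mul_le.trans (Nat.add_le_add hG ?_)
          refine (Polynomial.natDegree_add_le _ _).trans (max_le ((Polynomial.natDegree_C u).le.trans (Nat.zero_le _)) ?_)
          exact (Polynomial.natDegree_C_mul_le _ _).trans Polynomial.natDegree_X_le
        · rw [huv, map_mul, hGs, map_add, map_mul, map_mul, hf, map_mul, map_add, map_mul, hC, hC, pow_succ]
          ring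
      | add x _ y _ hx hy =>
        obtain ⟨G, hG, hGs⟩ := hx
        obtain ⟨H, hH, hHs⟩ := hy
        exact ⟨G + H, (Polynomial.natDegree_add_le _ _).trans (max_le hG hH), by
          rw [map_add, map_add, hGs, hHs, mul_add]⟩
  · refine ⟨∑ j ∈ Finset.range (d + 1), G.coeff j * (f i ^ (d - j) * f (i + 1) ^ j), ?_, ?_⟩
    · refine Ideal.sum_mem _ fun j hj => Ideal.mul_mem_mul (hJ j) ?_
      have h := Ideal.mul_mem_mul (Ideal.pow_mem_pow (hmem i) (d - j)) (Ideal.pow_mem_pow (hmem (i + 1)) j)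
      rwa [← pow_add, Nat.sub_add_cancel (Nat.lt_succ_iff.1 (Finset.mem_range.1 hj))] at h
    · conv_rhs => rw [G.as_sum_range' (d + 1) (Nat.lt_succ_of_le hG)]
      rw [map_sum, map_sum, Finset.mul_sum]
      refine Finset.sum_congr rfl fun j hj => ?_
      rw [← Polynomial.C_mul_X_pow_eq_monomial, map_mul, map_mul, map_mul, map_pow, map_pow, map_pow, hC, hf,
        mul_pow]
      have e : algebraMap A B[i] (f i) ^ d = algebraMap A B[i] (f i) ^ (d - j) * algebraMap A B[i] (f i) ^ j := by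
        rw [← pow_add, Nat.sub_add_cancel (Nat.lt_succ_iff.1 (Finset.mem_range.1 hj))]
      rw [e]
      ring

omit hq hI

/-- Division by a polynomial which is nonzero modulo `m`. -/
theorem exists_div {R : Type u} [CommRing R] (𝔪 : Ideal R) [h𝔪 : 𝔪.IsMaximal] {G : Polynomial R} {d : ℕ}
    (hG : G.natDegree ≤ d) (hne : ∃ j, G.coeff j ∉ 𝔪) (P : Polynomial R) :
    ∃ R₁ Q : Polynomial R, R₁.natDegree ≤ d ∧ ∀ n, (P - R₁ - G * Q).coeff n ∈ 𝔪 := by
  letI : Field (R ⧸ 𝔪) := Ideal.Quotient.field 𝔪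
  let π := Ideal.Quotient.mk 𝔪
  have hG₀ : G.map π ≠ 0 := fun h => by
    obtain ⟨j, hj⟩ := hne
    apply hj
    rw [← Ideal.Quotient.eq_zero_iff_mem, ← Polynomial.coeff_map, h, Polynomial.coeff_zero]
  obtain ⟨Q, hQ⟩ := Polynomial.map_surjective π Ideal.Quotient.mk_surjective (P.map π / G.map π)
  obtain ⟨R', hR'⟩ := Polynomial.map_surjective π Ideal.Quotient.mk_surjective (P.map π % G.map π)
  have hdeg : (P.map π % G.map π).natDegree ≤ d := (Polynomial.natDegree_le_natDegree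
      (EuclideanDomain.mod_lt (P.map π) hG₀).le).trans (Polynomial.natDegree_map_le.trans hG)
  let R₁ : Polynomial R := ∑ j ∈ Finset.range (d + 1), Polynomial.monomial j (R'.coeff j)
  have hR₁ : R₁.natDegree ≤ d := Polynomial.natDegree_sum_le_of_forall_le _ _ fun j hj =>
    (Polynomial.natDegree_monomial_le _).trans (Nat.lt_succ_iff.1 (Finset.mem_range.1 hj))
  have hR₁R : R₁.map π = P.map π % G.map π := by
    conv_rhs => rw [(P.map π % G.map π).as_sum_range' (d + 1) (Nat.lt_succ_of_le hdeg)]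
    rw [Polynomial.map_sum]
    refine Finset.sum_congr rfl fun j _ => ?_
    rw [Polynomial.map_monomial, ← hR', Polynomial.coeff_map]
  refine ⟨R₁, Q, hR₁, fun n => ?_⟩
  rw [← Ideal.Quotient.eq_zero_iff_mem, ← Polynomial.coeff_map, Polynomial.map_sub, Polynomial.map_sub,
    Polynomial.map_mul, hR₁R, hQ]
  have h := EuclideanDomain.mod_add_div (P.map π) (G.map π)
  rw [show P.map π - P.map π % G.map π - G.map π * (P.map π / G.map π) = 0 by linear_combination -h,
    Polynomial.coeff_zero]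

section Core

variable {R B : Type u} [CommRing R] [CommRing B] [Algebra R B]

/-- The elements of the chart of degree `d`. -/
def degPart (𝔪 : Ideal R) (a : B) (d : ℕ) : Submodule R B where
  carrier := {z | ∃ r ∈ 𝔪 ^ d, algebraMap R B r = a ^ d * z}
  add_mem' := by
    rintro x y ⟨r, hr, hrx⟩ ⟨s, hs, hsy⟩
    exact ⟨r + s, add_mem hr hs, by rw [map_add, hrx, hsy, mul_add]⟩
  zero_mem' := ⟨0, zero_mem _, by simp⟩
  smul_mem' := by
    rintro c x ⟨r, hr, hrx⟩
    exact ⟨c * r, Ideal.mul_mem_left _ _ hr, by rw [map_mul, hrx, Algebra.smul_def]; ring⟩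

/-- A decomposition modulo the parameter lifts modulo all its powers. -/
theorem exists_decomp (a₀ : R) {M : Submodule R B} {J' : Ideal B}
    (step : ∀ b : B, ∃ μ ∈ M, ∃ j ∈ J', ∃ w, b = μ + j + algebraMap R B a₀ * w) :
    ∀ (k : ℕ) (b : B), ∃ μ ∈ M, ∃ j ∈ J', ∃ w, b = μ + j + algebraMap R B a₀ ^ k * w := by
  intro k
  induction k with
  | zero => exact fun b => ⟨0, zero_mem _, 0, zero_mem _, b, by simp⟩
  | succ k ih =>
    intro b
    obtain ⟨μ, hμ, j, hj, w, rfl⟩ := ih b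
    obtain ⟨μ', hμ', j', hj', w', rfl⟩ := step w
    refine ⟨μ + (a₀ ^ k) • μ', add_mem hμ (M.smul_mem _ hμ'), j + algebraMap R B a₀ ^ k * j',
      add_mem hj (Ideal.mul_mem_left _ _ hj'), w', ?_⟩
    rw [Algebra.smul_def, map_pow, pow_succ]
    ring

/-- The forms of degree `d` modulo the ideal surject onto the chart modulo the weak transform. -/
theorem length_le_of_decomp {𝔪 J : Ideal R} {a : B} {d : ℕ} (ha : a ^ d ∈ nonZeroDivisors B) {J' : Ideal B}
    (hJ' : ∀ z, z ∈ J' ↔ a ^ d * z ∈ J.map (algebraMap R B)) (hd : J ≤ 𝔪 ^ d)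
    (hdiv : ∀ r ∈ 𝔪 ^ d, ∃ z, algebraMap R B r = a ^ d * z)
    (hdec : ∀ b : B, ∃ μ ∈ degPart 𝔪 a d, b - μ ∈ J') :
    Module.length B (B ⧸ J') + Module.length R (R ⧸ 𝔪 ^ d) ≤ Module.length R (R ⧸ J) := by
  choose z hz using fun r : ↥(𝔪 ^ d) => hdiv r r.2
  let φ : ↥(𝔪 ^ d) →ₗ[R] B ⧸ J' :=
    { toFun := fun r => Ideal.Quotient.mk J' (z r)
      map_add' := fun r s => by
        rw [← map_add]
        refine congrArg _ ((mul_cancel_left_mem_nonZeroDivisors ha).1 ?_)
        rw [← hz, mul_add, ← hz, ← hz, ← map_add]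
        rfl
      map_smul' := fun c r => by
        show Ideal.Quotient.mk J' (z (c • r)) = c • Ideal.Quotient.mk J' (z r)
        rw [← Ideal.Quotient.mkₐ_eq_mk R, ← map_smul]
        refine congrArg _ ((mul_cancel_left_mem_nonZeroDivisors ha).1 ?_)
        rw [← hz, Algebra.smul_def, mul_left_comm, ← hz, ← map_mul]
        rfl }
  have hφ : Function.Surjective φ := fun c => by
    obtain ⟨b, rfl⟩ := Ideal.Quotient.mk_surjective c
    obtain ⟨μ, ⟨r, hr, hrμ⟩, hj⟩ := hdec b
    refine ⟨⟨r, hr⟩, ?_⟩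
    show Ideal.Quotient.mk J' (z ⟨r, hr⟩) = _
    rw [show z ⟨r, hr⟩ = μ from (mul_cancel_left_mem_nonZeroDivisors ha).1 ((hz _).symm.trans hrμ)]
    exact (Ideal.Quotient.eq.2 hj).symm
  let K : Submodule R ↥(𝔪 ^ d) := Submodule.comap (𝔪 ^ d).subtype J
  have hK : K ≤ LinearMap.ker φ := fun r (hr : (r : R) ∈ J) => Ideal.Quotient.eq_zero_iff_mem.2
    ((hJ' _).2 (by rw [← hz r]; exact Ideal.mem_map_of_mem _ hr))
  have h1 : Module.length R (B ⧸ J') ≤ Module.length R (↥(𝔪 ^ d) ⧸ K) :=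
    Module.length_le_of_surjective (K.liftQ φ hK) fun c => by
      obtain ⟨r, rfl⟩ := hφ c; exact ⟨Submodule.Quotient.mk r, rfl⟩
  let ι := K.mapQ J (𝔪 ^ d).subtype le_rfl
  let pr : (R ⧸ J) →ₗ[R] R ⧸ 𝔪 ^ d := Submodule.factor hd
  have h2 : Module.length R (R ⧸ J) = Module.length R (↥(𝔪 ^ d) ⧸ K) + Module.length R (R ⧸ 𝔪 ^ d) :=
    Module.length_eq_add_of_exact ι pr (by
      rw [← LinearMap.ker_eq_bot]
      exact Submodule.ker_liftQ_eq_bot _ _ _ (by rw [LinearMap.ker_comp, Submodule.ker_mkQ]))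
      (Submodule.factor_surjective hd) (by
        intro c
        obtain ⟨c, rfl⟩ := Submodule.Quotient.mk_surjective _ c
        constructor
        · intro h
          exact ⟨Submodule.Quotient.mk ⟨c, (Submodule.Quotient.mk_eq_zero _).1 h⟩, rfl⟩
        · rintro ⟨r, hr⟩
          obtain ⟨r, rfl⟩ := Submodule.Quotient.mk_surjective _ r
          rw [← hr]
          exact (Submodule.Quotient.mk_eq_zero _).2 r.2)
  rw [h2]
  gcongr
  have h3 : Module.length B (B ⧸ J') ≤ Module.length R (B ⧸ J') := by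
    rw [← Module.length_top]
    exact (Submodule.length_le_length_restrictScalars R ⊤).trans_eq Module.length_top
  exact h3.trans h1

/-- The colength drop, for an abstract chart. -/
theorem colength_abstract {𝔪 : Ideal R} (h𝔪 : 𝔪.IsMaximal) {a₀ : R} (ha₀ : a₀ ∈ 𝔪)
    (ha : algebraMap R B a₀ ∈ nonZeroDivisors B) (hinj : Function.Injective (algebraMap R B))
    (Ψ : Polynomial R →+* B) (hΨ : Function.Surjective Ψ)
    (hE : ∀ P, Ψ P ∈ Ideal.span {algebraMap R B a₀} ↔ ∀ n, P.coeff n ∈ 𝔪) (J : Ideal R) (N d : ℕ)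
    (hdown : ∀ r ∈ 𝔪 ^ d, ∃ G : Polynomial R, G.natDegree ≤ d ∧ algebraMap R B r = algebraMap R B a₀ ^ d * Ψ G)
    (hup : ∀ G : Polynomial R, G.natDegree ≤ d → ∀ J : Ideal R, (∀ j, G.coeff j ∈ J) →
      ∃ r ∈ J * 𝔪 ^ d, algebraMap R B r = algebraMap R B a₀ ^ d * Ψ G)
    (hN : 𝔪 ^ N ≤ J) (hd : J ≤ 𝔪 ^ d) (hd' : ¬J ≤ 𝔪 ^ (d + 1)) (J' : Ideal B)
    (hJ' : ∀ z, z ∈ J' ↔ algebraMap R B a₀ ^ d * z ∈ J.map (algebraMap R B)) :
    Module.length B (B ⧸ J') + Module.length R (R ⧸ 𝔪 ^ d) ≤ Module.length R (R ⧸ J) := by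
  obtain ⟨g, hgJ, hgd⟩ := Set.not_subset.1 hd'
  obtain ⟨G, hGdeg, hgG⟩ := hdown g (hd hgJ)
  have hGJ : Ψ G ∈ J' := (hJ' _).2 (hgG ▸ Ideal.mem_map_of_mem _ hgJ)
  have hGne : ∃ j, G.coeff j ∉ 𝔪 := by
    by_contra h
    push_neg at h
    obtain ⟨r, hr, hrG⟩ := hup G hGdeg 𝔪 h
    rw [← hgG] at hrG
    rw [hinj hrG, ← pow_succ'] at hr
    exact hgd hr
  refine length_le_of_decomp (pow_mem ha d) hJ' hd
    (fun r hr => ⟨_, (hdown r hr).choose_spec.2⟩) fun b => ?_
  have haN : algebraMap R B a₀ ^ N ∈ J' := (hJ' _).2 (by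
    rw [← pow_add, ← map_pow]
    refine Ideal.mem_map_of_mem _ (hN ?_)
    rw [add_comm, pow_add]
    exact Ideal.mul_mem_right _ _ (Ideal.pow_mem_pow ha₀ N))
  have step : ∀ b : B, ∃ μ ∈ degPart 𝔪 (algebraMap R B a₀) d, ∃ j ∈ J', ∃ w, b = μ + j + algebraMap R B a₀ * w := by
    intro b
    obtain ⟨P, rfl⟩ := hΨ b
    haveI := h𝔪
    obtain ⟨R₁, Q, hR₁, hdiff⟩ := exists_div 𝔪 hGdeg hGne P
    obtain ⟨w, hw⟩ := Ideal.mem_span_singleton'.1 ((hE _).2 hdiff)
    obtain ⟨r, hr, hrR⟩ := hup R₁ hR₁ ⊤ fun _ => trivial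
    have hr' : r ∈ 𝔪 ^ d := by rwa [Ideal.top_mul] at hr
    refine ⟨Ψ R₁, ⟨r, hr', hrR⟩, Ψ G * Ψ Q, Ideal.mul_mem_right _ _ hGJ, w, ?_⟩
    rw [map_sub, map_sub, map_mul] at hw
    linear_combination -hw
  obtain ⟨μ, hμ, j, hj, w, hb⟩ := exists_decomp a₀ step N b
  refine ⟨μ, hμ, ?_⟩
  have hb' : b - μ = j + algebraMap R B a₀ ^ N * w := by rw [hb]; abel
  rw [hb']
  exact add_mem hj (Ideal.mul_mem_right _ _ haN)

end Core

include hq hI

/-- The colength of the weak transform in a chart is less than that of the ideal. -/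
theorem colength_chart (hm : m.IsMaximal) (hne : ∀ i, f i ≠ 0) (i : Fin 2) (J : Ideal A) (N d : ℕ)
    (hN : m ^ N ≤ J) (hd : J ≤ m ^ d) (hd' : ¬J ≤ m ^ (d + 1)) (J' : Ideal B[i])
    (hJ' : ∀ z, z ∈ J' ↔ algebraMap A B[i] (f i) ^ d * z ∈ J.map (algebraMap A B[i])) :
    Module.length B[i] (B[i] ⧸ J') + Module.length A (A ⧸ m ^ d) ≤ Module.length A (A ⧸ J) := by
  obtain ⟨Ψ, hΨ, hC, hX, hmemE⟩ := PointChart.exists_poly hq hI i
  obtain ⟨hdown, hup⟩ := exists_form hq hI i d hC hX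
  exact colength_abstract (B := B[i]) hm (hI.ge (Ideal.subset_span ⟨i, rfl⟩)) BlowChartLib.mem_nonZeroDivisors
    (algebraMap_injective_chart (m := m) hne i) Ψ hΨ hmemE J N d hdown hup hN hd hd' J' hJ'

end Groth.Agent.SurfPtBlow
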