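import Mathlib

/-!
# Birational extensions of a regular local ring of dimension two
-/

set_option autoImplicit false
set_option linter.style.haveILetI false

universe u v

open Polynomial

noncomputable section

namespace Groth.Agent.SurfPtBlow

section

variable {O : Type u} [CommRing O] [IsDomain O] [IsLocalRing O] [IsIntegrallyClosed O]
  {K : Type v} [Field K] [Algebra O K] [IsFractionRing O K]

/-- A polynomial killing a fraction which is neither in the ring nor the inverse of an element of it has all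
coefficients in the maximal ideal. -/
theorem coeff_mem_of_aeval_eq_zero (t : K) (ht : ∀ e : O, algebraMap O K e ≠ t)
    (ht' : ∀ e : O, algebraMap O K e * t ≠ 1) :
    ∀ (n : ℕ) (P : O[X]), P.natDegree ≤ n → aeval t P = 0 → ∀ i, P.coeff i ∈ IsLocalRing.maximalIdeal O := by
  intro n
  induction n with
  | zero =>
    intro P hP h i
    rw [eq_C_of_natDegree_le_zero hP] at h ⊢
    rw [aeval_C, map_eq_zero_iff _ (IsFractionRing.injective O K)] at h
    rw [h, map_zero, coeff_zero]
    exact zero_mem _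
  | succ n ih =>
    intro P hP h i
    rcases eq_or_lt_of_le hP with hdeg | hdeg
    swap
    · exact ih P (by omega) h i
    let l := P.leadingCoeff
    have hl : l = P.coeff (n + 1) := by rw [← hdeg]; rfl
    have hint : IsIntegral O (algebraMap O K l * t) := RingHom.isIntegralElem_leadingCoeff_mul _ P t h
    obtain ⟨e, he⟩ := IsIntegrallyClosed.isIntegral_iff.1 hint
    have hlm : l ∈ IsLocalRing.maximalIdeal O := fun hu => by
      obtain ⟨w, hw⟩ := hu
      refine ht (↑w⁻¹ * e) ?_
      rw [map_mul, he, ← hw, ← mul_assoc, ← map_mul, Units.inv_mul, map_one, one_mul]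
    have hem : e ∈ IsLocalRing.maximalIdeal O := fun hu => by
      obtain ⟨w, hw⟩ := hu
      refine ht' (↑w⁻¹ * l) ?_
      rw [map_mul, mul_assoc, ← he, ← hw, ← map_mul, Units.inv_mul, map_one]
    let Q : O[X] := P.eraseLead + C e * X ^ n
    have hQ : aeval t Q = 0 := by
      have h1 := congrArg (aeval t) P.eraseLead_add_C_mul_X_pow
      rw [h, map_add, map_mul, aeval_C, map_pow, aeval_X, hdeg] at h1
      simp only [Q, map_add, map_mul, aeval_C, map_pow, aeval_X]
      rw [he, ← h1, pow_succ]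
      ring
    have hQd : Q.natDegree ≤ n := natDegree_add_le_of_degree_le
      ((eraseLead_natDegree_le P).trans (by omega)) ((natDegree_C_mul_X_pow_le e n))
    by_cases hi : i = n + 1
    · rw [hi, ← hl]; exact hlm
    have hc := ih Q hQd hQ i
    rw [coeff_add, eraseLead_coeff_of_ne i (hdeg ▸ hi), coeff_C_mul, coeff_X_pow] at hc
    refine (Ideal.add_mem_iff_left _ ?_).1 hc
    split_ifs
    · rwa [mul_one]
    · rw [mul_zero]; exact zero_mem _

/-- The valuation in which such a fraction is residually transcendental. -/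
theorem exists_gauss_valuation (t : K) (ht : ∀ e : O, algebraMap O K e ≠ t) (ht' : ∀ e : O, algebraMap O K e * t ≠ 1) :
    ∃ V : ValuationSubring K,
      (∀ x ∈ IsLocalRing.maximalIdeal O, V.valuation (algebraMap O K x) < 1) ∧
      ∀ (Q : O[X]), (∃ i, Q.coeff i ∉ IsLocalRing.maximalIdeal O) → V.valuation (aeval t Q) = 1 := by
  let P : Ideal O[X] := (IsLocalRing.maximalIdeal O).map C
  haveI := (IsLocalRing.maximalIdeal.isMaximal O).isPrime
  haveI : P.IsPrime := Ideal.isPrime_map_C_of_isPrime
  have hne : ∀ Q : P.primeCompl, IsUnit ((aeval t : O[X] →ₐ[O] K) Q.1) := fun Q => by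
    refine isUnit_iff_ne_zero.2 fun h => Q.2 ?_
    exact Ideal.mem_map_C_iff.2 (coeff_mem_of_aeval_eq_zero t ht ht' _ Q.1 le_rfl h)
  let g : Localization.AtPrime P →+* K := IsLocalization.lift (M := P.primeCompl) (g := (aeval t : O[X] →ₐ[O] K).toRingHom) hne
  have hg : ∀ Q : O[X], g (algebraMap O[X] (Localization.AtPrime P) Q) = aeval t Q := fun Q =>
    IsLocalization.lift_eq hne Q
  obtain ⟨V, hV, hloc⟩ := IsLocalRing.exists_factor_valuationRing g
  refine ⟨V, fun x hx => ?_, fun Q hQ => ?_⟩
  · have h1 : algebraMap O[X] (Localization.AtPrime P) (C x) ∈ IsLocalRing.maximalIdeal (Localization.AtPrime P) :=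
      (IsLocalization.AtPrime.to_map_mem_maximal_iff (Localization.AtPrime P) P (C x)).2 (Ideal.mem_map_of_mem _ hx)
    have h2 : ⟨g _, hV _⟩ ∈ IsLocalRing.maximalIdeal V :=
      (IsLocalRing.mem_maximalIdeal _).2 fun hu => (IsLocalRing.mem_maximalIdeal _).1 h1 (hloc.1 _ hu)
    have h3 := (V.valuation_lt_one_iff _).1 h2
    simpa only [hg, aeval_C] using h3
  · have hQP : Q ∈ P.primeCompl := fun h => by
      obtain ⟨i, hi⟩ := hQ
      exact hi (Ideal.mem_map_C_iff.1 h i)
    have hu : IsUnit (algebraMap O[X] (Localization.AtPrime P) Q) := IsLocalization.map_units _ ⟨Q, hQP⟩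
    have h2 : IsUnit (⟨g _, hV _⟩ : V) := hu.map (g.codRestrict V.toSubring hV)
    have h3 := (V.valuation_eq_one_iff _).1 h2
    simpa only [hg] using h3

end

/-- Elements of a power of an ideal with two generators are forms in the generators. -/
theorem exists_poly_of_mem_pow {R S : Type*} [CommRing R] [CommRing S] (φ : R →+* S) (a b : R) (t : S)
    (hab : φ a = t * φ b) : ∀ (k : ℕ) (r : R), r ∈ Ideal.span {a, b} ^ k →
      ∃ Q : R[X], Q.natDegree ≤ k ∧ r = ∑ i ∈ Finset.range (k + 1), Q.coeff i * a ^ i * b ^ (k - i) := by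
  intro k
  induction k with
  | zero => exact fun r _ => ⟨C r, by simp, by simp⟩
  | succ k ih =>
    intro r hr
    rw [pow_succ', Ideal.span_insert, Submodule.sup_mul, Submodule.mem_sup] at hr
    obtain ⟨p, hp, q, hq, rfl⟩ := hr
    obtain ⟨p', hp', rfl⟩ := Ideal.mem_span_singleton_mul.1 hp
    obtain ⟨q', hq', rfl⟩ := Ideal.mem_span_singleton_mul.1 hq
    rw [← Ideal.span_insert] at hp' hq'
    obtain ⟨P₁, hP₁, rfl⟩ := ih p' hp'
    obtain ⟨Q₁, hQ₁, rfl⟩ := ih q' hq'
    refine ⟨X * P₁ + Q₁, natDegree_add_le_of_degree_le ((natDegree_mul_le.trans (add_le_add natDegree_X_le hP₁)).trans (by omega))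
      (hQ₁.trans (Nat.le_succ k)), ?_⟩
    simp only [coeff_add, add_mul, Finset.sum_add_distrib]
    congr 1
    · rw [Finset.sum_range_succ' _ (k + 1), coeff_X_mul_zero, zero_mul, zero_mul, add_zero, Finset.mul_sum]
      refine Finset.sum_congr rfl fun i _ => ?_
      rw [coeff_X_mul, Nat.succ_sub_succ, pow_succ]
      ring
    · rw [Finset.sum_range_succ _ (k + 1), coeff_eq_zero_of_natDegree_lt (Nat.lt_succ_of_le hQ₁), zero_mul, zero_mul,
        add_zero, Finset.mul_sum]
      refine Finset.sum_congr rfl fun i hi => ?_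
      rw [Finset.mem_range] at hi
      rw [show k + 1 - i = (k - i) + 1 from by omega, pow_succ]
      ring

/-- **Zariski**: over a two generated maximal ideal, a birational normal local extension in which the maximal ideal
lies in a proper principal ideal makes it principal. -/
theorem dvd_or_dvd_of_common_factor {R : Type u} [CommRing R] [IsNoetherianRing R] [IsLocalRing R] [IsDomain R]
    {O : Type v} [CommRing O] [IsDomain O] [IsLocalRing O] [IsIntegrallyClosed O] (φ : R →+* O) [IsLocalHom φ]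
    (hφ : Function.Injective φ) (hbir : ∀ z : O, ∃ r s : R, s ≠ 0 ∧ z * φ s = φ r)
    (a b : R) (hm : IsLocalRing.maximalIdeal R = Ideal.span {a, b}) (c : O) (hc : c ∈ IsLocalRing.maximalIdeal O)
    (hca : c ∣ φ a) (hcb : c ∣ φ b) : φ a ∣ φ b ∨ φ b ∣ φ a := by
  by_contra hcon
  push Not at hcon
  obtain ⟨hnab, hnba⟩ := hcon
  let K := FractionRing O
  let al := algebraMap O K
  have hal : Function.Injective al := IsFractionRing.injective O K
  have hb0 : φ b ≠ 0 := fun h => hnab (h ▸ dvd_zero _)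
  have hβ0 : al (φ b) ≠ 0 := (map_ne_zero_iff _ hal).2 hb0
  let t : K := al (φ a) / al (φ b)
  have hat : al (φ a) = t * al (φ b) := (div_mul_cancel₀ _ hβ0).symm
  have ht : ∀ e : O, al e ≠ t := fun e he => hnba ⟨e, hal (by rw [map_mul, he, hat, mul_comm])⟩
  have ht' : ∀ e : O, al e * t ≠ 1 := fun e he => hnab ⟨e, hal (by
    rw [map_mul, hat, mul_right_comm, mul_comm t, he, one_mul])⟩
  obtain ⟨V, hVm, hVu⟩ := exists_gauss_valuation t ht ht'
  let v := V.valuation
  let β := v (al (φ b))
  have hbm : b ∈ IsLocalRing.maximalIdeal R := hm ▸ Ideal.subset_span (Set.mem_insert_of_mem _ rfl)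
  have hβ1 : β < 1 := hVm _ ((IsLocalRing.mem_maximalIdeal _).2 fun hu =>
    (IsLocalRing.mem_maximalIdeal _).1 hbm (IsLocalHom.map_nonunit _ hu))
  have hβpos : 0 < β := zero_lt_iff.2 ((Valuation.ne_zero_iff _).2 hβ0)
  have hord : ∀ r : R, r ≠ 0 → ∃ k : ℕ, v (al (φ r)) = β ^ k := fun r hr => by
    have hex : ∃ k, r ∉ IsLocalRing.maximalIdeal R ^ (k + 1) := by
      by_contra h
      push Not at h
      refine hr ?_
      have h2 : r ∈ ⨅ i : ℕ, IsLocalRing.maximalIdeal R ^ i := Ideal.mem_iInf.2 fun i => by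
        cases i with
        | zero => simp
        | succ i => exact h i
      rwa [Ideal.iInf_pow_eq_bot_of_isLocalRing _ (IsLocalRing.maximalIdeal.isMaximal R).ne_top, Ideal.mem_bot] at h2
    classical
    let k := Nat.find hex
    have hk : r ∈ IsLocalRing.maximalIdeal R ^ k := by
      rcases Nat.eq_zero_or_pos k with h | h
      · rw [h, pow_zero, Ideal.one_eq_top]; trivial
      · have h1 := not_not.1 (Nat.find_min hex (show k - 1 < k by omega))
        rwa [Nat.sub_add_cancel h] at h1
    obtain ⟨Q, hQd, hQ⟩ := exists_poly_of_mem_pow (al.comp φ) a b t hat k r (hm ▸ hk)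
    have hev : al (φ r) = al (φ b) ^ k * aeval t (Q.map φ) := by
      conv_lhs => rw [hQ]
      rw [aeval_eq_sum_range' (n := k + 1) (Nat.lt_succ_of_le (natDegree_map_le.trans hQd)), Finset.mul_sum,
        map_sum, map_sum]
      refine Finset.sum_congr rfl fun i hi => ?_
      rw [Finset.mem_range] at hi
      rw [coeff_map, Algebra.smul_def, map_mul, map_mul, map_pow, map_pow, map_mul, map_mul, map_pow, map_pow, hat,
        mul_pow]
      show al (φ (Q.coeff i)) * (t ^ i * al (φ b) ^ i) * al (φ b) ^ (k - i) = al (φ b) ^ k * (al (φ (Q.coeff i)) * t ^ i)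
      rw [show al (φ b) ^ k = al (φ b) ^ i * al (φ b) ^ (k - i) by rw [← pow_add]; congr 1; omega]
      ring
    refine ⟨k, ?_⟩
    rw [hev, map_mul, map_pow, hVu _ ?_, mul_one]
    by_contra hall
    push Not at hall
    refine Nat.find_spec hex ((congrArg (· ∈ IsLocalRing.maximalIdeal R ^ (Nat.find hex + 1)) hQ).mpr ?_)
    refine Ideal.sum_mem _ fun i hi => ?_
    rw [Finset.mem_range] at hi
    have hci : Q.coeff i ∈ IsLocalRing.maximalIdeal R := by
      have h1 := hall i
      rw [coeff_map] at h1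
      exact (IsLocalRing.mem_maximalIdeal _).2 fun hu => (IsLocalRing.mem_maximalIdeal _).1 h1 (hu.map φ)
    have ha : a ∈ IsLocalRing.maximalIdeal R := hm ▸ Ideal.subset_span (Set.mem_insert _ _)
    rw [show Nat.find hex + 1 = 1 + i + (k - i) from by show k + 1 = _; omega, pow_add, pow_add, pow_one]
    exact Ideal.mul_mem_mul (Ideal.mul_mem_mul hci (Ideal.pow_mem_pow ha _)) (Ideal.pow_mem_pow hbm _)
  obtain ⟨b', hb'⟩ := hcb
  have hb'm : b' ∈ IsLocalRing.maximalIdeal O := (IsLocalRing.mem_maximalIdeal _).2 fun hu => by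
    obtain ⟨w, rfl⟩ := hu
    have hdc : φ b ∣ c := ⟨↑w⁻¹, by rw [hb', mul_assoc, Units.mul_inv, mul_one]⟩
    exact hnba (hdc.trans hca)
  obtain ⟨r, s, hs, hrs⟩ := hbir c
  have hc0 : c ≠ 0 := fun h => hb0 (by rw [hb', h, zero_mul])
  have hr : r ≠ 0 := fun h => by
    rw [h, map_zero] at hrs
    exact hc0 ((mul_eq_zero.1 hrs).resolve_right ((map_ne_zero_iff _ hφ).2 hs))
  obtain ⟨k, hk⟩ := hord r hr
  obtain ⟨l, hl⟩ := hord s hs
  have h1 : v (al c) * β ^ l = β ^ k := by rw [← hl, ← hk, ← map_mul, ← map_mul, hrs]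
  have h2 : v (al c) * v (al b') = β := by rw [← map_mul, ← map_mul, ← hb']
  have hc1 : v (al c) < 1 := hVm _ hc
  have hb1 : v (al b') < 1 := hVm _ hb'm
  have hlk : l < k := by
    by_contra hle
    push Not at hle
    have h3 : β ^ l ≤ β ^ k := pow_le_pow_right_of_le_one' hβ1.le hle
    rw [← h1] at h3
    have h4 : v (al c) * β ^ l < 1 * β ^ l := mul_lt_mul_of_pos_right hc1 (pow_pos hβpos l)
    rw [one_mul] at h4
    exact absurd h3 (not_le.2 h4)
  have h5 : β ^ (l + 1) = β ^ k * v (al b') := by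
    calc β ^ (l + 1) = β ^ l * β := pow_succ _ _
      _ = β ^ l * (v (al c) * v (al b')) := by rw [h2]
      _ = β ^ k * v (al b') := by rw [← h1, ← mul_assoc, mul_comm (β ^ l)]
  have h6 : β ^ k * v (al b') < β ^ k * 1 := mul_lt_mul_of_pos_left hb1 (pow_pos hβpos k)
  rw [mul_one, ← h5] at h6
  exact absurd h6 (not_lt.2 (pow_le_pow_right_of_le_one' hβ1.le hlk))

end Groth.Agent.SurfPtBlow
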