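import Groth.Agent.S0419
import Groth.Agent.GeomIrred.Criteria
import Groth.Agent.NormalSch.Basic
import Groth.Agent.SurfPtBlow.Factor

/-!
# The fibres of `X ⟶ Spec Γ(X, 𝒪)` for a normal integral scheme
-/

set_option autoImplicit false
set_option backward.isDefEq.respectTransparency false
set_option linter.style.haveILetI false
set_option maxHeartbeats 1000000

universe u

open CategoryTheory CategoryTheory.Limits AlgebraicGeometry TopologicalSpace

noncomputable section

namespace Groth.Agent.SurfPtBlow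

variable {X : Scheme.{u}} [IsIntegral X]

theorem Γevaluation_generic_injective : Function.Injective (X.Γevaluation (genericPoint X)).hom := by
  rw [injective_iff_map_eq_zero]
  intro a ha
  by_contra h
  refine (X.evaluation_ne_zero_iff_mem_basicOpen (U := ⊤) (genericPoint X) trivial a).2 ?_ ha
  have hne : X.basicOpen a ≠ ⊥ := fun e => h (basicOpen_eq_bot_iff a |>.1 e)
  obtain ⟨z, hz⟩ := (Opens.ne_bot_iff_nonempty _).1 hne
  exact (genericPoint_specializes z).mem_open (X.basicOpen a).2 hz

/-- Algebraic elements of the function field of a normal scheme over its ring of global functions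
are fractions of global functions. -/
theorem exists_fraction_of_isAlgebraic (hn : Pi1.IsNormalScheme X) (x : X) (hx : x = genericPoint X)
    (b : X.residueField x) (hb : letI := (X.Γevaluation x).hom.toAlgebra; IsAlgebraic Γ(X, ⊤) b) :
    ∃ p q : Γ(X, ⊤), q ≠ 0 ∧ b * X.Γevaluation x q = X.Γevaluation x p := by
  subst hx
  haveI : Nonempty (⊤ : X.Opens) := ⟨⟨genericPoint X, trivial⟩⟩
  let res : X.functionField →+* X.residueField (genericPoint X) := (X.residue (genericPoint X)).hom
  have hres : Function.Injective res := res.injective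
  obtain ⟨b', rfl⟩ := X.residue_surjective (genericPoint X) b
  letI := (X.Γevaluation (genericPoint X)).hom.toAlgebra
  letI := (X.germToFunctionField ⊤).hom.toAlgebra
  let φ : X.functionField →ₐ[Γ(X, ⊤)] X.residueField (genericPoint X) := { res with commutes' := fun _ => rfl }
  obtain ⟨q, hq, hqi⟩ := IsAlgebraic.exists_integral_multiple
    ((isAlgebraic_algHom_iff φ hres).1 hb : IsAlgebraic Γ(X, ⊤) (b' : X.functionField))
  obtain ⟨p, hp⟩ := NormalSch.exists_section_of_isIntegral hn ⊤ _ hqi
  refine ⟨p, q, hq, ?_⟩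
  show res b' * res (X.germToFunctionField ⊤ q) = res (X.germToFunctionField ⊤ p)
  rw [hp, ← map_mul, Algebra.smul_def, mul_comm]
  rfl

/-- The structure map to the spectrum of global functions hits the generic point. -/
theorem toSpecΓ_genericPoint [IsDomain Γ(X, ⊤)] :
    X.toSpecΓ (genericPoint X) = genericPoint (Spec Γ(X, ⊤)) := by
  have key : ∀ f : Γ(X, ⊤), X.toSpecΓ (genericPoint X) ∈ PrimeSpectrum.basicOpen f ↔ f ≠ 0 := fun f => by
    constructor
    · rintro h rfl
      simp at h
    · intro hf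
      show genericPoint X ∈ X.toSpecΓ ⁻¹ᵁ PrimeSpectrum.basicOpen f
      rw [Scheme.toSpecΓ_preimage_basicOpen]
      exact (X.evaluation_ne_zero_iff_mem_basicOpen (U := ⊤) _ trivial f).1 fun h =>
        hf (Γevaluation_generic_injective (h.trans (map_zero _).symm))
  refine ((genericPoint_spec (Spec Γ(X, ⊤))).eq ?_).symm
  rw [isGenericPoint_iff_specializes]
  refine fun z => iff_of_true ((PrimeSpectrum.le_iff_specializes _ _).1 fun f hf => ?_) (Set.mem_univ _)
  by_contra hfz
  exact (key f).2 (fun h => hfz (h ▸ Ideal.zero_mem _)) hf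

/-- The generic fibre over the ring of global functions is geometrically irreducible. -/
theorem geometricallyIrreducible_generic (hn : Pi1.IsNormalScheme X) [IsDomain Γ(X, ⊤)] :
    GeometricallyIrreducible (X.toSpecΓ.fiberToSpecResidueField (genericPoint (Spec Γ(X, ⊤)))) := by
  let π := X.toSpecΓ
  let η := genericPoint (Spec Γ(X, ⊤))
  let ι := π.fiberι η
  obtain ⟨z₀, hz₀⟩ : genericPoint X ∈ Set.range ι := by
    rw [Scheme.Hom.range_fiberι]; exact toSpecΓ_genericPoint
  have hgen : ∀ z, z₀ ⤳ z := fun z =>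
    ι.isEmbedding.isInducing.specializes_iff.1 (hz₀ ▸ genericPoint_specializes _)
  haveI : IrreducibleSpace (π.fiber η) := by
    haveI : Nonempty (π.fiber η) := ⟨z₀⟩
    haveI : PreirreducibleSpace (π.fiber η) :=
      ⟨fun U V hU hV ⟨a, _, ha⟩ ⟨b, _, hb⟩ => ⟨z₀, trivial, (hgen a).mem_open hU ha, (hgen b).mem_open hV hb⟩⟩
    exact ⟨inferInstance⟩
  refine GeomIrred.geometricallyIrreducible_of_points _ fun U hU hne => ?_
  let g := π.fiberToSpecResidueField η
  let ψ := Spec.preimage ((π.fiber η).fromSpecResidueField z₀ ≫ g)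
  have hψ : Spec.map ψ = (π.fiber η).fromSpecResidueField z₀ ≫ g := Spec.map_preimage _
  refine ⟨z₀, (hgen hne.some).mem_open hU hne.some_mem, ψ.hom, hψ, ?_⟩
  let T := Spec Γ(X, ⊤)
  letI : Algebra (T.residueField η) ((π.fiber η).residueField z₀) := ψ.hom.toAlgebra
  letI : Algebra (IsLocalRing.ResidueField (T.presheaf.stalk η)) ((π.fiber η).residueField z₀) := ψ.hom.toAlgebra
  refine eq_bot_iff.mpr fun a ha => IntermediateField.mem_bot.mpr ?_
  rw [mem_separableClosure_iff] at ha
  -- compare the evaluations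
  have hev : ∀ r : Γ(T, ⊤), ψ (T.Γevaluation η r) = ι.residueFieldMap z₀ (X.Γevaluation (ι z₀) (π.appTop r)) := by
    intro r
    have h1 : Spec.map ψ ≫ T.fromSpecResidueField η = (π.fiber η).fromSpecResidueField z₀ ≫ ι ≫ π := by
      rw [hψ, Category.assoc, Scheme.Hom.fiber_fac]
    rw [← Scheme.Hom.SpecMap_residueFieldMap_fromSpecResidueField_assoc,
      ← Scheme.Hom.SpecMap_residueFieldMap_fromSpecResidueField, ← Spec.map_comp_assoc] at h1
    have h2 : ∀ (y : T) (χ : T.residueField y ⟶ (π.fiber η).residueField z₀), y = η →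
        Spec.map ψ ≫ T.fromSpecResidueField η = Spec.map χ ≫ T.fromSpecResidueField y →
        ψ (T.Γevaluation η r) = χ (T.Γevaluation y r) := by
      rintro y χ rfl h
      rw [cancel_mono] at h
      rw [Spec.map_injective h]
    have hy : π (ι z₀) = η := by rw [hz₀]; exact toSpecΓ_genericPoint
    rw [h2 _ _ hy h1, CommRingCat.comp_apply, Scheme.Γevaluation_naturality_apply]
  haveI : IsIntegral T := inferInstance
  -- every element of the residue field of the generic point is a fraction
  have hfr : ∀ e : T.residueField η, ∃ r s, s ≠ 0 ∧ e * T.Γevaluation η s = T.Γevaluation η r := by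
    intro e
    haveI : Nonempty (⊤ : T.Opens) := ⟨⟨η, trivial⟩⟩
    haveI := functionField_isFractionRing_of_isAffineOpen T ⊤ (isAffineOpen_top T)
    obtain ⟨w, rfl⟩ := T.residue_surjective η e
    obtain ⟨r, s, hs, hrs⟩ := IsFractionRing.div_surjective (A := Γ(T, ⊤)) (w : T.functionField)
    refine ⟨r, s, nonZeroDivisors.ne_zero hs, ?_⟩
    show (T.residue η).hom w * (T.residue η).hom (algebraMap Γ(T, ⊤) T.functionField s) =
      (T.residue η).hom (algebraMap Γ(T, ⊤) T.functionField r)
    rw [← map_mul, ← hrs, div_mul_cancel₀ _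
      ((map_ne_zero_iff _ (IsFractionRing.injective Γ(T, ⊤) T.functionField)).2 (nonZeroDivisors.ne_zero hs))]
  -- the separable element is algebraic over the global functions
  let e₀ : Γ(T, ⊤) →+* (π.fiber η).residueField z₀ := ψ.hom.comp (T.Γevaluation η).hom
  letI := (T.Γevaluation η).hom.toAlgebra
  letI := e₀.toAlgebra
  haveI : IsScalarTower Γ(T, ⊤) (T.residueField η) ((π.fiber η).residueField z₀) :=
    IsScalarTower.of_algebraMap_eq fun _ => rfl
  haveI : FaithfulSMul Γ(T, ⊤) (T.residueField η) := (faithfulSMul_iff_algebraMap_injective _ _).2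
    Γevaluation_generic_injective
  haveI : Algebra.IsAlgebraic Γ(T, ⊤) (T.residueField η) := ⟨fun e => by
    obtain ⟨r, s, hs, hrs⟩ := hfr e
    refine ⟨Polynomial.C s * Polynomial.X - Polynomial.C r, fun h0 => hs ?_, ?_⟩
    · simpa using congrArg (Polynomial.coeff · 1) h0
    · simp only [map_sub, map_mul, Polynomial.aeval_C, Polynomial.aeval_X, sub_eq_zero]
      rw [mul_comm]
      exact hrs⟩
  obtain ⟨P, hP0, hP⟩ : IsAlgebraic Γ(T, ⊤) a :=
    IsAlgebraic.restrictScalars Γ(T, ⊤) (S := T.residueField η) ha.isIntegral.isAlgebraic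
  let β := ι.residueFieldMap z₀
  haveI : IsIso β := by
    refine (ConcreteCategory.isIso_iff_bijective β).2 ⟨β.hom.injective, fun c => ?_⟩
    obtain ⟨c', rfl⟩ := (π.fiber η).residue_surjective z₀ c
    obtain ⟨d, rfl⟩ := ι.stalkMap_surjective z₀ c'
    exact ⟨X.residue _ d, ConcreteCategory.congr_hom (Scheme.residue_residueFieldMap ι z₀) d⟩
  obtain ⟨b, rfl⟩ := (ConcreteCategory.bijective_of_isIso β).2 a
  haveI : IsIso π.appTop := by rw [Scheme.toSpecΓ_appTop]; infer_instance
  have hbalg : letI := (X.Γevaluation (ι z₀)).hom.toAlgebra; IsAlgebraic Γ(X, ⊤) b := by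
    letI := (X.Γevaluation (ι z₀)).hom.toAlgebra
    refine ⟨P.map π.appTop.hom, (Polynomial.map_ne_zero_iff (ConcreteCategory.bijective_of_isIso π.appTop).1).2 hP0,
      β.hom.injective ?_⟩
    rw [map_zero, ← hP, Polynomial.aeval_def, Polynomial.aeval_def, Polynomial.eval₂_map, Polynomial.hom_eval₂]
    exact congrArg (Polynomial.eval₂ · _ P) (RingHom.ext fun r => (hev r).symm)
  obtain ⟨p, q, hq, hpq⟩ := exists_fraction_of_isAlgebraic hn (ι z₀) hz₀ b hbalg
  obtain ⟨r, rfl⟩ := (ConcreteCategory.bijective_of_isIso π.appTop).2 p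
  obtain ⟨s, rfl⟩ := (ConcreteCategory.bijective_of_isIso π.appTop).2 q
  have hs : T.Γevaluation η s ≠ 0 := fun h => hq (by
    rw [Γevaluation_generic_injective (h.trans (map_zero _).symm), map_zero])
  refine ⟨T.Γevaluation η r / T.Γevaluation η s, ?_⟩
  show ψ.hom (T.Γevaluation η r / T.Γevaluation η s) = β b
  rw [map_div₀, div_eq_iff ((map_ne_zero _).2 hs)]
  rw [show ψ.hom (T.Γevaluation η r) = _ from hev r, show ψ.hom (T.Γevaluation η s) = _ from hev s]
  exact ((map_mul β.hom _ _).symm.trans (congrArg β.hom hpq)).symm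

/-- Outside a proper closed subset all fibres over the ring of global functions are irreducible. -/
theorem exists_irreducible_fibres (hn : Pi1.IsNormalScheme X) [QuasiCompact X.toSpecΓ] [LocallyOfFiniteType X.toSpecΓ] :
    ∃ Z : Set X, IsClosed Z ∧ genericPoint X ∉ Z ∧ ∀ x ∉ Z, IsPreirreducible (X.toSpecΓ ⁻¹' {X.toSpecΓ x}) := by
  haveI : Nonempty (⊤ : X.Opens) := ⟨⟨genericPoint X, trivial⟩⟩
  haveI : IsDomain Γ(X, ⊤) := inferInstance
  obtain ⟨V, hV, hgi⟩ := S0419.result X.toSpecΓ (geometricallyIrreducible_generic hn)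
  refine ⟨X.toSpecΓ ⁻¹' (V : Set _)ᶜ, V.2.isClosed_compl.preimage X.toSpecΓ.continuous, fun h => h ?_, fun x hx => ?_⟩
  · show X.toSpecΓ (genericPoint X) ∈ (V : Set _)
    rw [toSpecΓ_genericPoint]
    exact (genericPoint_specializes hV.some).mem_open V.2 hV.some_mem
  · have hxV : X.toSpecΓ x ∈ V := not_not.1 hx
    haveI := hgi
    have h1 : IsPreirreducible (Set.range ((X.toSpecΓ ∣_ V).fiberι (⟨_, hxV⟩ : V))) := by
      rw [← Set.image_univ]
      exact (PreirreducibleSpace.isPreirreducible_univ).image _ (Scheme.Hom.continuous _).continuousOn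
    rw [Scheme.Hom.range_fiberι] at h1
    have h2 := h1.image (X.toSpecΓ ⁻¹ᵁ V).ι (Scheme.Hom.continuous _).continuousOn
    refine (?_ : _ = X.toSpecΓ ⁻¹' {X.toSpecΓ x}) ▸ h2
    ext w
    constructor
    · rintro ⟨w', hw', rfl⟩
      have h3 := congrArg Subtype.val (show (X.toSpecΓ ∣_ V) w' = (⟨_, hxV⟩ : V) from hw')
      rwa [morphismRestrict_base] at h3
    · intro hw
      have hwV : w ∈ X.toSpecΓ ⁻¹ᵁ V := show X.toSpecΓ w ∈ V from (show X.toSpecΓ w = X.toSpecΓ x from hw).symm ▸ hxV
      refine ⟨⟨w, hwV⟩, Subtype.ext ?_, rfl⟩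
      rw [morphismRestrict_base]
      exact hw

end Groth.Agent.SurfPtBlow
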